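import Cfsg.Agent.Lib.FusionSys.GoodRestrict
import Cfsg.Agent.Lib.FusionSys.StrongInvariance

/-!
The product of a normal subsystem `E` over `T` with `S`: the bounding system of the maps that are conjugation by
an element of `S` modulo `T` and a map of `E` times that conjugation on the intersection with `T`, and the
automorphisms of order prime to `p` in it.
-/

set_option autoImplicit false
set_option linter.style.haveILetI false

namespace Cfsg.Lib.FusionSys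

open Cfsg Cfsg.FusionSystem

variable {Ω : Type*} [Group Ω]

/-- An element moved modulo `N` by an element fixed modulo `N` is fixed, for automorphisms of order prime
to `p`. -/
theorem mem_of_coprime_move {S N P : Subgroup Ω} [Finite S] {p : ℕ} [Fact p.Prime] (hS : IsPGroup p S)
    (hPS : P ≤ S) (hn : S ≤ Subgroup.normalizer (N : Set Ω)) {a : MulAut P} {m : ℕ} (hm : m.Coprime p)
    (ham : a ^ m = 1) (hN : ∀ y : P, (y : Ω) ∈ N → ((a y : P) : Ω) ∈ N) {x : P}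
    (hz : ((x⁻¹ * a x : P) : Ω)⁻¹ * ((a (x⁻¹ * a x) : P) : Ω) ∈ N) :
    ((x⁻¹ * a x : P) : Ω) ∈ N := by
  haveI : (N.subgroupOf P).Normal := Subgroup.normal_subgroupOf_of_le_normalizer (hPS.trans hn)
  let π := QuotientGroup.mk' (N.subgroupOf P)
  obtain ⟨z, hzdef⟩ : ∃ z, z = x⁻¹ * a x := ⟨_, rfl⟩
  rw [← hzdef] at hz ⊢
  have hπ : ∀ y y' : P, π y = π y' → π (a y) = π (a y') := by
    intro y y' h
    have h1 : ((y⁻¹ * y' : P) : Ω) ∈ N := (QuotientGroup.eq (s := N.subgroupOf P)).1 h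
    refine (QuotientGroup.eq (s := N.subgroupOf P)).2 ?_
    rw [← map_inv, ← map_mul]
    exact hN _ h1
  have hz' : π (a z) = π z := ((QuotientGroup.eq (s := N.subgroupOf P)).2 hz).symm
  have hpow : ∀ i : ℕ, π ((a ^ i) x) = π (x * z ^ i) := by
    intro i
    induction i with
    | zero => simp
    | succ i ih =>
      have hx : a x = x * z := by rw [hzdef, mul_inv_cancel_left]
      rw [pow_succ', MulAut.mul_apply, hπ _ _ ih, map_mul a, hx, map_mul, map_mul, map_pow, map_pow,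
        hz', mul_assoc, ← pow_succ', map_mul, map_pow]
  have h := hpow m
  rw [ham, MulAut.one_apply, map_mul, map_pow, eq_comm, mul_eq_left] at h
  obtain ⟨j, hj⟩ := IsPGroup.iff_orderOf.1 (hS.to_le hPS) z
  have hzp : π z ^ p ^ j = 1 := by rw [← map_pow, ← hj, pow_orderOf_eq_one, map_one]
  have h1 : π z = 1 := orderOf_eq_one_iff.1 (Nat.eq_one_of_dvd_coprimes (hm.pow_right j)
    (orderOf_dvd_of_pow_eq_one h) (orderOf_dvd_of_pow_eq_one hzp))
  exact (QuotientGroup.eq_one_iff z).1 h1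

variable {S T : Subgroup Ω} {F : FusionSystem S} {E : FusionSystem T} {p : ℕ}

/-- The data of a normal subsystem. -/
structure ProdCtx (F : FusionSystem S) (E : FusionSystem T) (p : ℕ) : Prop where
  pS : IsPGroup p S
  norm : E.IsNormalIn F p

/-- `φ` is conjugation by `r` modulo `T`, and that conjugation after a map of `E` on the intersection with `T`. -/
def Rep (E : FusionSystem T) {P : Subgroup Ω} (r : Ω) (φ : P →* Ω) : Prop :=
  (∀ x : P, (r * (x : Ω) * r⁻¹)⁻¹ * φ x ∈ T) ∧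
    ∃ e ∈ E.Hom (P ⊓ T), ∀ x : ↥(P ⊓ T), φ (Subgroup.inclusion inf_le_left x) = r * e x * r⁻¹

namespace ProdCtx

variable (c : ProdCtx F E p)
include c

theorem sat : F.IsSaturated p := c.norm.1.2.1

theorem satE : E.IsSaturated p := c.norm.1.1

theorem inv : E.IsInvariantIn F := c.norm.1.2.2

theorem sc : F.StronglyClosed T := c.inv.2.1

theorem hTS : T ≤ S := c.sc.1

theorem tmem_conj {g t : Ω} (hg : g ∈ S) (ht : t ∈ T) : g * t * g⁻¹ ∈ T :=
  stronglyClosed_conj_mem c.sc hg ht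

theorem tmem_conj' {g t : Ω} (hg : g ∈ S) (ht : t ∈ T) : g⁻¹ * t * g ∈ T := by
  simpa using c.tmem_conj (S.inv_mem hg) ht

/-- Conjugates of maps of the subsystem by elements of `S`. -/
theorem conj_emap {U : Subgroup Ω} {e : U →* Ω} (he : e ∈ E.Hom U) {g : Ω} (hg : g ∈ S) :
    ∃ χ ∈ E.Hom ((U.subgroupOf T).map (conjHom T g)),
      ∀ (x : U) (hx : g * (x : Ω) * g⁻¹ ∈ (U.subgroupOf T).map (conjHom T g)),
        χ ⟨_, hx⟩ = g * e x * g⁻¹ :=
  isInvariant_strongInv c.inv U T (hom_le he) le_rfl e he (hom_mem he) _ (F.conj_mem c.hTS hg)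

theorem rep_one {P : Subgroup Ω} {φ : P →* Ω} :
    Rep E 1 φ ↔ (∀ x : P, (x : Ω)⁻¹ * φ x ∈ T) ∧
      ∃ e ∈ E.Hom (P ⊓ T), ∀ x : ↥(P ⊓ T), φ (Subgroup.inclusion inf_le_left x) = e x := by
  simp only [Rep, one_mul, inv_one, mul_one]

theorem rep_conj {P : Subgroup Ω} {g : Ω} : Rep E g (conjHom P g) := by
  refine ⟨fun x => ?_, _, subtype_mem E inf_le_right, fun x => rfl⟩
  show _⁻¹ * (g * (x : Ω) * g⁻¹) ∈ T
  rw [inv_mul_cancel]
  exact T.one_mem

theorem rep_comp {P Q : Subgroup Ω} {φ : P →* Ω} {ψ : Q →* Ω} {r q : Ω} (hr : r ∈ S) (hq : q ∈ S)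
    (hφ : φ ∈ F.Hom P) (h : ∀ x, φ x ∈ Q) (h₁ : Rep E r φ) (h₂ : Rep E q ψ) :
    Rep E (q * r) (ψ.comp (φ.codRestrict Q h)) := by
  obtain ⟨hm₁, e, he, hee⟩ := h₁
  obtain ⟨hm₂, f, hf, hfe⟩ := h₂
  refine ⟨fun x => ?_, ?_⟩
  · show (q * r * (x : Ω) * (q * r)⁻¹)⁻¹ * ψ ⟨φ x, h x⟩ ∈ T
    have h1 := T.mul_mem (c.tmem_conj hq (hm₁ x)) (hm₂ ⟨φ x, h x⟩)
    convert h1 using 1
    group
  · obtain ⟨χ, hχ, hχe⟩ := c.conj_emap hf (S.inv_mem hr)
    have hmem : ∀ x : ↥(P ⊓ T), φ (Subgroup.inclusion inf_le_left x) ∈ Q ⊓ T := fun x =>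
      ⟨h _, stronglyClosed_apply_mem c.sc hφ (x := Subgroup.inclusion inf_le_left x) x.2.2⟩
    have hv : ∀ x, e x ∈ ((Q ⊓ T).subgroupOf T).map (conjHom T r⁻¹) := by
      intro x
      refine ⟨⟨_, (hmem x).2⟩, hmem x, ?_⟩
      show r⁻¹ * φ (Subgroup.inclusion inf_le_left x) * r⁻¹⁻¹ = e x
      rw [hee, inv_inv]
      group
    refine ⟨_, E.comp_mem he hχ hv, fun x => ?_⟩
    have he' : r⁻¹ * φ (Subgroup.inclusion inf_le_left x) * r⁻¹⁻¹ = e x := by
      rw [hee, inv_inv]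
      group
    have h1 := hχe ⟨_, hmem x⟩ (he'.symm ▸ hv x)
    have h2 : χ ⟨e x, hv x⟩ = r⁻¹ * f ⟨_, hmem x⟩ * r⁻¹⁻¹ :=
      (congrArg χ (Subtype.ext he'.symm)).trans h1
    show ψ ⟨φ (Subgroup.inclusion inf_le_left x), h _⟩ = q * r * χ ⟨e x, hv x⟩ * (q * r)⁻¹
    rw [h2]
    refine (hfe ⟨_, hmem x⟩).trans ?_
    group

theorem rep_inv {P : Subgroup Ω} {φ : P →* Ω} {r : Ω} (hr : r ∈ S) (hφ : φ ∈ F.Hom P) (h₁ : Rep E r φ)
    {ρ : φ.range →* Ω} (hρ : ρ ∈ F.Hom φ.range) (hρe : ∀ x : P, ρ ⟨φ x, ⟨x, rfl⟩⟩ = (x : Ω)) :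
    Rep E r⁻¹ ρ := by
  obtain ⟨hm, e, he, hee⟩ := h₁
  refine ⟨?_, ?_⟩
  · rintro ⟨_, x, rfl⟩
    rw [hρe x]
    have h1 := c.tmem_conj' hr (T.inv_mem (hm x))
    convert h1 using 1
    group
  obtain ⟨ε, hε, hεe⟩ := E.inv_mem he
  obtain ⟨χ, hχ, hχe⟩ := c.conj_emap hε hr
  have hex : ∀ y : ↥(φ.range ⊓ T), ∃ x : ↥(P ⊓ T), φ (Subgroup.inclusion inf_le_left x) = (y : Ω) := by
    rintro ⟨_, ⟨x, rfl⟩, hy⟩
    have hx : (x : Ω) ∈ T := by
      rw [← hρe x]
      exact stronglyClosed_apply_mem c.sc hρ (x := ⟨φ x, x, rfl⟩) hy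
    exact ⟨⟨(x : Ω), x.2, hx⟩, rfl⟩
  have hle : φ.range ⊓ T ≤ (e.range.subgroupOf T).map (conjHom T r) := by
    intro y hy
    obtain ⟨x, hx⟩ := hex ⟨y, hy⟩
    exact ⟨⟨e x, hom_mem he x⟩, ⟨x, rfl⟩, (hee x).symm.trans hx⟩
  refine ⟨_, restrict_mem hχ hle, fun y => ?_⟩
  obtain ⟨x, hx⟩ := hex y
  have h1 := hχe ⟨e x, x, rfl⟩ (by rw [← hee, hx]; exact hle y.2)
  have h2 : χ (Subgroup.inclusion hle y) = r * (x : Ω) * r⁻¹ := by
    rw [← hεe x, ← h1]
    exact congrArg χ (Subtype.ext (hx.symm.trans (hee x)))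
  show ρ (Subgroup.inclusion inf_le_left y) = r⁻¹ * χ (Subgroup.inclusion hle y) * r⁻¹⁻¹
  rw [show Subgroup.inclusion inf_le_left y = ⟨φ (Subgroup.inclusion inf_le_left x), _, rfl⟩ from
    Subtype.ext hx.symm, hρe, h2, inv_inv]
  show (x : Ω) = _
  group

/-- The bounding system. -/
def bSys (c : ProdCtx F E p) : FusionSystem S where
  Hom P := {φ | φ ∈ F.Hom P ∧ ∃ r ∈ S, Rep E r φ}
  le_of_mem h := F.le_of_mem h.1
  injective_of_mem h := F.injective_of_mem h.1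
  conj_mem hP hg := ⟨F.conj_mem hP hg, _, hg, c.rep_conj⟩
  comp_mem := by
    rintro P Q φ ψ ⟨hφ, r, hr, h₁⟩ ⟨hψ, q, hq, h₂⟩ h
    exact ⟨F.comp_mem hφ hψ h, q * r, S.mul_mem hq hr, c.rep_comp hr hq hφ h h₁ h₂⟩
  inv_mem := by
    rintro P φ ⟨hφ, r, hr, h₁⟩
    obtain ⟨ρ, hρ, hρe⟩ := F.inv_mem hφ
    exact ⟨ρ, ⟨hρ, r⁻¹, S.inv_mem hr, c.rep_inv hr hφ h₁ hρ hρe⟩, hρe⟩

theorem bSys_sub : c.bSys.IsSubsystemOf F := fun _ _ h => h.1

theorem isoIn_of_bSys {P Q : Subgroup Ω} {e : P ≃* Q} (he : IsoIn c.bSys e) : IsoIn F e := he.1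

theorem emap_mem_bSys {P : Subgroup Ω} {φ : P →* Ω} (hφ : φ ∈ E.Hom P) : φ ∈ c.bSys.Hom P := by
  have hPT := hom_le hφ
  refine ⟨c.inv.1 P hφ, 1, S.one_mem, c.rep_one.2 ⟨fun x => T.mul_mem (T.inv_mem (hPT x.2)) (hom_mem hφ x),
    _, restrict_mem hφ inf_le_left, fun _ => rfl⟩⟩

end ProdCtx

/-- The automorphisms of `M` in `F` trivial modulo `T` and in `E` on the intersection with `T`. -/
def bAut (F : FusionSystem S) (E : FusionSystem T) (M : Subgroup Ω) : Subgroup (MulAut M) where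
  carrier := {a | a ∈ F.autGroup M ∧ (∀ x : M, (x : Ω)⁻¹ * ((a x : M) : Ω) ∈ T) ∧
    ∃ b ∈ E.autGroup (M ⊓ T), ∀ x : ↥(M ⊓ T),
      ((a (Subgroup.inclusion inf_le_left x) : M) : Ω) = ((b x : ↥(M ⊓ T)) : Ω)}
  one_mem' := ⟨one_mem _, fun x => by simp, 1, one_mem _, fun _ => rfl⟩
  mul_mem' := by
    rintro a b ⟨ha, hma, a', ha', hae⟩ ⟨hb, hmb, b', hb', hbe⟩
    refine ⟨mul_mem ha hb, fun x => ?_, a' * b', mul_mem ha' hb', fun x => ?_⟩
    · have h := T.mul_mem (hmb x) (hma (b x))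
      rwa [mul_assoc, mul_inv_cancel_left] at h
    · rw [MulAut.mul_apply, MulAut.mul_apply, ← hae]
      exact congrArg (fun z : M => ((a z : M) : Ω)) (Subtype.ext (hbe x))
  inv_mem' := by
    rintro a ⟨ha, hma, a', ha', hae⟩
    refine ⟨inv_mem ha, fun x => ?_, a'⁻¹, inv_mem ha', fun x => ?_⟩
    · have h := T.inv_mem (hma (a⁻¹ x))
      rwa [MulAut.apply_inv_self, mul_inv_rev, inv_inv] at h
    · have h : a (Subgroup.inclusion inf_le_left (a'⁻¹ x)) = Subgroup.inclusion inf_le_left x :=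
        Subtype.ext ((hae _).trans (by rw [MulAut.apply_inv_self]; rfl))
      rw [← h, MulAut.inv_apply_self]
      rfl

/-- The subgroup generated by the elements of order prime to `p` of `bAut`. -/
def aGenP (F : FusionSystem S) (E : FusionSystem T) (p : ℕ) (M : Subgroup Ω) : Subgroup (MulAut M) :=
  Subgroup.closure {a | a ∈ bAut F E M ∧ (orderOf a).Coprime p}

theorem aGenP_le_bAut (M : Subgroup Ω) : aGenP F E p M ≤ bAut F E M :=
  (Subgroup.closure_le _).2 fun _ h => h.1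

theorem bAut_le_autGroup (M : Subgroup Ω) : bAut F E M ≤ F.autGroup M := fun _ h => h.1

theorem aGenP_le_autGroup (M : Subgroup Ω) : aGenP F E p M ≤ F.autGroup M :=
  (aGenP_le_bAut M).trans (bAut_le_autGroup M)

namespace ProdCtx

variable (c : ProdCtx F E p)
include c

theorem mem_bAut_iff [Finite S] {M : Subgroup Ω} (hM : M ≤ S) {a : MulAut M} :
    a ∈ bAut F E M ↔ a ∈ F.autGroup M ∧ Rep E 1 (M.subtype.comp a.toMonoidHom) := by
  rw [c.rep_one]
  constructor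
  · rintro ⟨ha, hm, b, hb, hbe⟩
    exact ⟨ha, hm, _, (mem_autGroup inf_le_right).1 hb, hbe⟩
  · rintro ⟨ha, hm, e, he, hee⟩
    have hv : ∀ x, e x ∈ M ⊓ T := fun x => by
      rw [← hee x]
      exact ⟨(a _).2, stronglyClosed_apply_mem c.sc ((mem_autGroup hM).1 ha)
        (x := Subgroup.inclusion inf_le_left x) x.2.2⟩
    haveI := finite_of_le hM
    haveI : Finite ↥(M ⊓ T) := Finite.of_injective (Subgroup.inclusion (inf_le_left : M ⊓ T ≤ M))
      (Subgroup.inclusion_injective _)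
    have hr : e.range = M ⊓ T := Subgroup.eq_of_le_of_card_ge (by rintro _ ⟨x, rfl⟩; exact hv x)
      (card_range he).ge
    exact ⟨ha, hm, homIso he hr, (mem_autGroup inf_le_right).2 (isoIn_homIso he hr), hee⟩

theorem bAut_congr [Finite S] {M N : Subgroup Ω} {e : M ≃* N} (he : IsoIn F e) {a : MulAut M}
    (ha : a ∈ bAut F E M) : MulAut.congr e a ∈ bAut F E N := by
  obtain ⟨haF, hm, b, hb, hbe⟩ := ha
  have hfwd : ∀ x : M, (x : Ω) ∈ T ↔ ((e x : N) : Ω) ∈ T := fun x => by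
    refine ⟨fun h => stronglyClosed_apply_mem c.sc he (x := x) h, fun h => ?_⟩
    have h1 := stronglyClosed_apply_mem c.sc he.symm (x := e x) h
    simpa using h1
  have hres := restrict_mem (he : N.subtype.comp e.toMonoidHom ∈ F.Hom M) (inf_le_left : M ⊓ T ≤ M)
  have hr : ((N.subtype.comp e.toMonoidHom).comp (Subgroup.inclusion (inf_le_left : M ⊓ T ≤ M))).range =
      N ⊓ T := by
    ext y
    constructor
    · rintro ⟨x, rfl⟩
      exact ⟨(e _).2, (hfwd _).1 x.2.2⟩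
    · intro hy
      refine ⟨⟨_, (e.symm ⟨y, hy.1⟩).2, (hfwd _).2 ?_⟩, ?_⟩
      · rw [MulEquiv.apply_symm_apply]
        exact hy.2
      · exact congrArg Subtype.val (MulEquiv.apply_symm_apply e ⟨y, hy.1⟩)
  set e' := homIso hres hr with he'
  refine ⟨congr_mem_autGroup he haF, fun y => ?_, MulAut.congr e' b,
    congr_mem_invariant c.inv inf_le_right (isoIn_homIso hres hr) hb, fun y => ?_⟩
  · obtain ⟨x, rfl⟩ := e.surjective y
    rw [show MulAut.congr e a (e x) = e (a x) by simp [MulAut.congr], ← Subgroup.coe_inv,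
      ← Subgroup.coe_mul, ← map_inv, ← map_mul]
    exact (hfwd _).1 (hm x)
  · obtain ⟨x, rfl⟩ := e'.surjective y
    have hxy : Subgroup.inclusion inf_le_left (e' x) = e (Subgroup.inclusion inf_le_left x) :=
      Subtype.ext rfl
    rw [hxy, show MulAut.congr e a (e (Subgroup.inclusion inf_le_left x)) =
      e (a (Subgroup.inclusion inf_le_left x)) by simp [MulAut.congr],
      show MulAut.congr e' b (e' x) = e' (b x) by simp [MulAut.congr]]
    exact congrArg (fun z : M => ((e z : N) : Ω)) (Subtype.ext (hbe x))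

theorem aGenP_congr [Finite S] {M N : Subgroup Ω} {e : M ≃* N} (he : IsoIn F e) {a : MulAut M}
    (ha : a ∈ aGenP F E p M) : MulAut.congr e a ∈ aGenP F E p N := by
  have h : (aGenP F E p M).map (MulAut.congr e).toMonoidHom ≤ aGenP F E p N := by
    rw [aGenP, MonoidHom.map_closure, Subgroup.closure_le]
    rintro _ ⟨a, ⟨ha, hcop⟩, rfl⟩
    exact Subgroup.subset_closure ⟨c.bAut_congr he ha, by
      show (orderOf (MulAut.congr e a)).Coprime p
      rwa [MulEquiv.orderOf_eq]⟩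
  exact h ⟨a, ha, rfl⟩

theorem bAut_normal [Finite S] {M : Subgroup Ω} (hM : M ≤ S) {a b : MulAut M} (ha : a ∈ bAut F E M)
    (hb : b ∈ F.autGroup M) : b * a * b⁻¹ ∈ bAut F E M :=
  c.bAut_congr ((mem_autGroup hM).1 hb) ha

theorem aGenP_normal [Finite S] {M : Subgroup Ω} (hM : M ≤ S) {a b : MulAut M}
    (ha : a ∈ aGenP F E p M) (hb : b ∈ F.autGroup M) : b * a * b⁻¹ ∈ aGenP F E p M :=
  c.aGenP_congr ((mem_autGroup hM).1 hb) ha

theorem rep_pow {P : Subgroup Ω} {a : MulAut P} (ha : IsoIn c.bSys a) {r : Ω} (hr : r ∈ S)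
    (h : Rep E r (P.subtype.comp a.toMonoidHom)) (n : ℕ) :
    Rep E (r ^ n) (P.subtype.comp (a ^ n).toMonoidHom) := by
  induction n with
  | zero =>
    rw [pow_zero, pow_zero, c.rep_one]
    exact ⟨fun x => by simp, _, subtype_mem E inf_le_right, fun x => rfl⟩
  | succ n ih =>
    rw [pow_succ' r, pow_succ' a]
    have hP := ha.le_left
    have hn : a ^ n ∈ F.autGroup P := pow_mem ((mem_autGroup hP).2 ha.1) n
    exact c.rep_comp (S.pow_mem hr n) hr ((mem_autGroup hP).1 hn) (fun x => ((a ^ n) x).2) ih h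

/-- The automorphisms of order prime to `p` in the bounding system. -/
theorem mem_bAut_of_coprime [Finite S] [Fact p.Prime] {P : Subgroup Ω} (hP : P ≤ S) {a : MulAut P}
    (ha : a ∈ c.bSys.autGroup P) (hcop : (orderOf a).Coprime p) : a ∈ bAut F E P := by
  have hi := (mem_autGroup hP).1 ha
  obtain ⟨r, hr, hrep⟩ := hi.2
  obtain ⟨k, hk⟩ := c.pS ⟨r, hr⟩
  have hk' : r ^ p ^ k = 1 := congrArg Subtype.val hk
  obtain ⟨j, hj⟩ := exists_pow_eq_self_of_coprime (x := a) ((hcop.symm.pow_left k) :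
    (p ^ k).Coprime (orderOf a))
  have h := c.rep_pow hi hr hrep (p ^ k)
  rw [hk'] at h
  rw [← hj]
  exact pow_mem ((c.mem_bAut_iff hP).2 ⟨pow_mem ((mem_autGroup hP).2 hi.1) _, h⟩) j

theorem bAut_le_bSys [Finite S] {P : Subgroup Ω} (hP : P ≤ S) : bAut F E P ≤ c.bSys.autGroup P := fun _ ha =>
  (mem_autGroup hP).2 ⟨(mem_autGroup hP).1 ha.1, 1, S.one_mem, ((c.mem_bAut_iff hP).1 ha).2⟩

end ProdCtx

end Cfsg.Lib.FusionSys
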