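import Cfsg.Agent.Lib.FusionSys.ProductER.System
import Cfsg.Agent.Lib.FusionSys.Hyperfocal

/-!
The focal argument: a Sylow subgroup of the group generated by the bounding automorphisms of order prime to `p`
that acts on the intersection with `T` as conjugation by `T` consists of conjugations by `T`.
-/

set_option autoImplicit false
set_option linter.style.haveILetI false
set_option maxHeartbeats 800000

namespace Cfsg.Lib.FusionSys

open Cfsg Cfsg.FusionSystem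
open scoped Pointwise

variable {Ω : Type*} [Group Ω] {S T : Subgroup Ω} {F : FusionSystem S} {E : FusionSystem T} {p : ℕ}

/-- `x` acts on the intersection with `T` as conjugation by an element of `T`. -/
def TLike (T M : Subgroup Ω) (x : MulAut M) : Prop :=
  ∃ t ∈ T, ∀ u : M, (u : Ω) ∈ T → (x u : Ω) = t * (u : Ω) * t⁻¹

namespace ProdCtx

variable (c : ProdCtx F E p)
include c
variable [Finite S] [Fact p.Prime]

/-- An element of `T` inducing the action on the intersection normalizes. -/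
theorem tlike_normalizes {M : Subgroup Ω} (hM : InH F T M) {x : MulAut M} (hx : x ∈ bAut F E M) {t : Ω}
    (ht : t ∈ T) (hxt : ∀ u : M, (u : Ω) ∈ T → (x u : Ω) = t * (u : Ω) * t⁻¹) :
    t ∈ Subgroup.normalizer (M : Set Ω) := by
  have hMS := hM.1
  haveI := finite_of_le hMS
  refine Subgroup.mem_normalizer_fintype fun g hg => ?_
  set g' : M := ⟨g, hg⟩
  have h1 : g⁻¹ * (x g' : Ω) ∈ T := hx.2.1 g'
  have h2 : (t * g * t⁻¹)⁻¹ * (x g' : Ω) ∈ centralizerIn T (M ⊓ T) := by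
    refine mem_centralizerIn.2 ⟨?_, fun v hv => ?_⟩
    · have h := T.mul_mem (T.mul_mem ht (c.tmem_conj' (hMS hg) (T.inv_mem ht))) h1
      convert h using 1
      group
    · obtain ⟨u, hu⟩ := x.surjective ⟨v, hv.1⟩
      have huT : (u : Ω) ∈ T := by
        have h := stronglyClosed_aut_mem c.sc (inv_mem hx.1) hMS (x := ⟨v, hv.1⟩) hv.2
        rwa [← hu, MulAut.inv_apply_self] at h
      have hguT : ((g' * u * g'⁻¹ : M) : Ω) ∈ T := c.tmem_conj (hMS hg) huT
      have h := hxt _ hguT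
      rw [map_mul, map_mul, map_inv, hu] at h
      change (x g' : Ω) * v * (x g' : Ω)⁻¹ = t * (g * (u : Ω) * g⁻¹) * t⁻¹ at h
      have hv' : v = t * (u : Ω) * t⁻¹ := (congrArg Subtype.val hu).symm.trans (hxt u huT)
      calc (t * g * t⁻¹)⁻¹ * (x g' : Ω) * v
          = (t * g * t⁻¹)⁻¹ * ((x g' : Ω) * v * (x g' : Ω)⁻¹) * (x g' : Ω) := by group
        _ = t * (u : Ω) * t⁻¹ * ((t * g * t⁻¹)⁻¹ * (x g' : Ω)) := by rw [h]; group
        _ = v * ((t * g * t⁻¹)⁻¹ * (x g' : Ω)) := by rw [← hv']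
  have h3 : t * g * t⁻¹ = (x g' : Ω) * ((t * g * t⁻¹)⁻¹ * (x g' : Ω))⁻¹ := by group
  show t * g * t⁻¹ ∈ M
  rw [h3]
  exact M.mul_mem (x g').2 (M.inv_mem ((hM.2.self c.sc) h2).1)

/-- The automorphisms extending over the product with the centralizer of the intersection, trivially modulo `T`. -/
def moveL (_c : ProdCtx F E p) (M : Subgroup Ω) (hM : M ≤ S) : Subgroup (MulAut M) where
  carrier := {g | g ∈ bAut F E M ∧ ∃ θ ∈ F.autGroup (M ⊔ (M ⊓ T ⊔ centralizerIn S (M ⊓ T))),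
    (∀ x : ↥(M ⊔ (M ⊓ T ⊔ centralizerIn S (M ⊓ T))), (x : Ω)⁻¹ * (θ x : Ω) ∈ T) ∧
    (∀ x : ↥(M ⊔ (M ⊓ T ⊔ centralizerIn S (M ⊓ T))), (x : Ω) ∈ M ⊓ T ⊔ centralizerIn S (M ⊓ T) →
      (θ x : Ω) ∈ M ⊓ T ⊔ centralizerIn S (M ⊓ T)) ∧
    ∀ x : M, (θ (Subgroup.inclusion le_sup_left x) : Ω) = (g x : Ω)}
  one_mem' := ⟨one_mem _, 1, one_mem _, fun x => by simp, fun x hx => hx, fun x => rfl⟩
  mul_mem' := by
    rintro a b ⟨ha, θ, hθ, hθm, hθW, hθa⟩ ⟨hb, η, hη, hηm, hηW, hηb⟩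
    refine ⟨mul_mem ha hb, θ * η, mul_mem hθ hη, fun x => ?_, fun x hx => hθW (η x) (hηW x hx), fun x => ?_⟩
    · have h := T.mul_mem (hηm x) (hθm (η x))
      rwa [mul_assoc, mul_inv_cancel_left] at h
    · rw [MulAut.mul_apply, MulAut.mul_apply, ← hθa]
      exact congrArg (fun z => (θ z : Ω)) (Subtype.ext (hηb x))
  inv_mem' := by
    rintro a ⟨ha, θ, hθ, hθm, hθW, hθa⟩
    refine ⟨inv_mem ha, θ⁻¹, inv_mem hθ, fun x => ?_, fun x hx => ?_, fun x => ?_⟩
    · have h := T.inv_mem (hθm (θ⁻¹ x))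
      rwa [MulAut.apply_inv_self, mul_inv_rev, inv_inv] at h
    · haveI := finite_of_le (sup_le hM (sup_le (inf_le_left.trans hM) (centralizerIn_le _)) :
        M ⊔ (M ⊓ T ⊔ centralizerIn S (M ⊓ T)) ≤ S)
      haveI : Finite (MulAut ↥(M ⊔ (M ⊓ T ⊔ centralizerIn S (M ⊓ T)))) :=
        Finite.of_injective (fun f => (f : _ → _)) DFunLike.coe_injective
      obtain ⟨n, hn⟩ : ∃ n : ℕ, θ ^ n = θ⁻¹ := ⟨orderOf θ - 1, eq_inv_of_mul_eq_one_left (by
        rw [← pow_succ, Nat.sub_add_cancel (orderOf_pos θ), pow_orderOf_eq_one])⟩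
      rw [← hn]
      clear hn
      induction n with
      | zero => exact hx
      | succ n ih => rw [pow_succ', MulAut.mul_apply]; exact hθW _ ih
    · have h : θ (Subgroup.inclusion le_sup_left (a⁻¹ x)) = Subgroup.inclusion le_sup_left x :=
        Subtype.ext ((hθa _).trans (by rw [MulAut.apply_inv_self]; rfl))
      rw [← h, MulAut.inv_apply_self]
      rfl

/-- At a fully normalized position the generators extend. -/
theorem aGenP_le_moveL {M : Subgroup Ω} (hM : InH F T M) (hU : F.IsFullyNormalized (M ⊓ T))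
    (hW : F.IsFullyNormalized (M ⊓ T ⊔ centralizerIn S (M ⊓ T))) :
    aGenP F E p M ≤ c.moveL M hM.1 := by
  refine (Subgroup.closure_le _).2 ?_
  rintro a ⟨ha, hac⟩
  have hMS := hM.1
  have hZ := hM.2.self c.sc
  haveI := finite_of_le hMS
  obtain ⟨haF, ham, b, hb, hbe⟩ := id ha
  have hbc : (orderOf b).Coprime p := coprime_of_pow_eq_one hac
    (aut_pow_eq_one (inf_le_left : M ⊓ T ≤ M) (fun x => (hbe x).symm) (pow_orderOf_eq_one a))
  have hMn : M ≤ Subgroup.normalizer ((M ⊓ T : Subgroup Ω) : Set Ω) := fun g hg =>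
    mem_normalizer_inter (Subgroup.le_normalizer hg) (stronglyClosed_le_normalizer c.sc (hMS hg))
  have hact : ActsMod T M b := fun g hg => ⟨(a ⟨g, hg⟩ : Ω), (a ⟨g, hg⟩).2, ham ⟨g, hg⟩, fun x hx => by
    rw [← hbe, ← hbe]
    conv_rhs => rw [← Subgroup.coe_inv, ← Subgroup.coe_mul, ← Subgroup.coe_mul, ← map_inv, ← map_mul, ← map_mul]
    exact congrArg (fun w : M => (a w : Ω)) (Subtype.ext rfl)⟩
  obtain ⟨a₁, ha₁, ha₁c, ha₁e, θ, hθ, hθm, hθW, hθa⟩ :=
    c.exists_bAut_ext_fn inf_le_right hZ hU hW inf_le_left hMS hMn hb hbc hact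
  obtain ⟨v, hv, hve⟩ := c.rigid_conj hMS hM.2 ha₁ ha₁c ha hac fun x hx =>
    Subtype.ext ((ha₁e ⟨(x : Ω), x.2, hx⟩).trans (hbe ⟨(x : Ω), x.2, hx⟩).symm)
  have hv' : v ∈ c.moveL M hMS := by
    obtain ⟨z, hz, hze⟩ := mem_autInducedBy.1 hv
    have hzU : z ∈ M ⊓ T := (mem_centralizerIn.1 hz).1
    have hV : M ⊔ (M ⊓ T ⊔ centralizerIn S (M ⊓ T)) ≤ S :=
      sup_le hMS (sup_le (inf_le_left.trans hMS) (centralizerIn_le _))
    have hzV : z ∈ Subgroup.normalizer ((M ⊔ (M ⊓ T ⊔ centralizerIn S (M ⊓ T)) : Subgroup Ω) : Set Ω) :=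
      Subgroup.le_normalizer (Subgroup.mem_sup_left hzU.1)
    refine ⟨⟨autInducedBy_le_autGroup hMS (autInducedBy_mono ((centralizerIn_le _).trans (inf_le_left.trans hMS)) hv),
      (c.zBar_le_kerT hMS hv).2.2, 1, one_mem _, fun x =>
        congrArg Subtype.val ((c.zBar_le_kerT hMS hv).2.1 (Subgroup.inclusion inf_le_left x) x.2.2)⟩,
      conjAut _ hzV, autInducedBy_le_autGroup hV (conjAut_mem_autInducedBy hzV (hV (Subgroup.mem_sup_left hzU.1))),
      fun x => ?_, fun x hx => ?_, fun x => (hze x).symm⟩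
    · show (x : Ω)⁻¹ * (z * (x : Ω) * z⁻¹) ∈ T
      rw [show (x : Ω)⁻¹ * (z * (x : Ω) * z⁻¹) = ((x : Ω)⁻¹ * z * x) * z⁻¹ by group]
      exact T.mul_mem (c.tmem_conj' (hV x.2) hzU.2) (T.inv_mem hzU.2)
    · show z * (x : Ω) * z⁻¹ ∈ M ⊓ T ⊔ centralizerIn S (M ⊓ T)
      exact mul_mem (mul_mem (Subgroup.mem_sup_left hzU) hx) (inv_mem (Subgroup.mem_sup_left hzU))
  rw [hve]
  exact mul_mem (mul_mem hv' ⟨ha₁, θ, hθ, hθm, hθW, hθa⟩) (inv_mem hv')

set_option maxHeartbeats 2000000 in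
/-- Extendable automorphisms carry a conjugation by `T` to one, when they do on the intersection with `T`. -/
theorem conj_T_fn {M : Subgroup Ω} (hM : InH F T M)
    (hW : F.IsFullyNormalized (M ⊓ T ⊔ centralizerIn S (M ⊓ T))) {g : MulAut M} (hg : g ∈ c.moveL M hM.1)
    {t t' : Ω} (ht : t ∈ T) (htn : t ∈ Subgroup.normalizer (M : Set Ω)) (ht' : t' ∈ T)
    (htn' : t' ∈ Subgroup.normalizer (M : Set Ω))
    (heq : ∀ u : M, (u : Ω) ∈ T → (g (conjAut M htn (g⁻¹ u)) : Ω) = t' * (u : Ω) * t'⁻¹) :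
    g * conjAut M htn * g⁻¹ * (conjAut M htn')⁻¹ ∈ zBar T M := by
  classical
  have hMS := hM.1
  have hZ := hM.2.self c.sc
  set U := M ⊓ T with hU
  obtain ⟨hgb, θ, hθ, hθm, hθW, hθg⟩ := hg
  have hUS : U ≤ S := inf_le_left.trans hMS
  have hW'S : U ⊔ centralizerIn S U ≤ S := sup_le hUS (centralizerIn_le U)
  have hV : M ⊔ (U ⊔ centralizerIn S U) ≤ S := sup_le hMS hW'S
  haveI := finite_of_le hV
  haveI := finite_of_le hW'S
  obtain ⟨ψ, hψ, hψe⟩ := exists_aut_restrict hV hθ (le_sup_right : U ⊔ centralizerIn S U ≤ M ⊔ (U ⊔ centralizerIn S U))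
    fun x => hθW _ x.2
  have hψhom := (mem_autGroup hW'S).1 hψ
  have hψr : ((U ⊔ centralizerIn S U).subtype.comp ψ.toMonoidHom).range = U ⊔ centralizerIn S U := by
    ext y
    exact ⟨fun ⟨x, hx⟩ => hx ▸ (ψ x).2, fun hy => ⟨ψ⁻¹ ⟨y, hy⟩, by simp⟩⟩
  set X := extender S (U ⊔ centralizerIn S U) ((U ⊔ centralizerIn S U).subtype.comp ψ.toMonoidHom) with hX
  obtain ⟨Ψ, hΨ, hΨe⟩ := (isReceptive_of_fc c.pS c.sat (isFullyAutomized_and_fc_of_fn c.pS c.sat hW).1).2
    _ _ hψhom hψr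
  have htU : ∀ s ∈ T, s ∈ Subgroup.normalizer (M : Set Ω) → s ∈ Subgroup.normalizer (U : Set Ω) :=
    fun s hs hn => mem_normalizer_inter hn (stronglyClosed_le_normalizer c.sc (c.hTS hs))
  have hnW := c.mem_normalizer_sup_centralizer hUS (c.hTS ht) (htU t ht htn)
  have hnW' := c.mem_normalizer_sup_centralizer hUS (c.hTS ht') (htU t' ht' htn')
  set γ := conjAut _ hnW with hγ
  set γ' := conjAut _ hnW' with hγ'
  have hγF : γ ∈ F.autGroup (U ⊔ centralizerIn S U) :=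
    autInducedBy_le_autGroup hW'S (conjAut_mem_autInducedBy _ (c.hTS ht))
  have hγ'F : γ' ∈ F.autGroup (U ⊔ centralizerIn S U) :=
    autInducedBy_le_autGroup hW'S (conjAut_mem_autInducedBy _ (c.hTS ht'))
  have hψU : ∀ (x : ↥(U ⊔ centralizerIn S U)) (hx : (x : Ω) ∈ U), (ψ x : Ω) = (g ⟨(x : Ω), hx.1⟩ : Ω) :=
    fun x hx => (hψe x).trans (hθg ⟨(x : Ω), hx.1⟩)
  have hδ : ψ * γ * ψ⁻¹ * γ'⁻¹ ∈ kerT F T (U ⊔ centralizerIn S U) := by
    refine ⟨mul_mem (mul_mem (mul_mem hψ hγF) (inv_mem hψ)) (inv_mem hγ'F), fun x hx => ?_, fun x => ?_⟩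
    · obtain ⟨y, rfl⟩ := γ'.surjective x
      simp only [MulAut.mul_apply, MulAut.inv_apply_self]
      have hy : (y : Ω) ∈ U := by
        refine c.mem_of_sup_centralizer inf_le_right hZ y.2 ?_
        have h := stronglyClosed_aut_mem c.sc (inv_mem hγ'F) hW'S hx
        rwa [MulAut.inv_apply_self] at h
      obtain ⟨z, rfl⟩ := ψ.surjective y
      rw [MulAut.inv_apply_self]
      have hz : (z : Ω) ∈ U := c.mem_of_sup_centralizer inf_le_right hZ z.2 (by
        have h := stronglyClosed_aut_mem c.sc (inv_mem hψ) hW'S hy.2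
        rwa [MulAut.inv_apply_self] at h)
      have htz : ((γ z : _) : Ω) ∈ U := (Subgroup.mem_normalizer_iff.1 (htU t ht htn) z).1 hz
      refine Subtype.ext ?_
      rw [hψU _ htz]
      show _ = t' * (ψ z : Ω) * t'⁻¹
      rw [hψU z hz, ← heq (g ⟨(z : Ω), hz.1⟩) (by rw [← hψU z hz]; exact hy.2), MulAut.inv_apply_self]
      exact congrArg (fun w : M => (g w : Ω)) (Subtype.ext rfl)
    · obtain ⟨y, rfl⟩ := γ'.surjective x
      simp only [MulAut.mul_apply, MulAut.inv_apply_self]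
      obtain ⟨z, rfl⟩ := ψ.surjective y
      rw [MulAut.inv_apply_self]
      have hmod : ∀ w : ↥(U ⊔ centralizerIn S U), (w : Ω)⁻¹ * (ψ w : Ω) ∈ T := fun w => by
        rw [hψe]
        exact hθm (Subgroup.inclusion le_sup_right w)
      show (t' * (ψ z : Ω) * t'⁻¹)⁻¹ * (ψ (γ z) : Ω) ∈ T
      have hzS : (z : Ω) ∈ S := hW'S z.2
      have e1 : (z : Ω)⁻¹ * (γ z : Ω) ∈ T := by
        show (z : Ω)⁻¹ * (t * z * t⁻¹) ∈ T
        rw [show (z : Ω)⁻¹ * (t * z * t⁻¹) = ((z : Ω)⁻¹ * t * z) * t⁻¹ by group]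
        exact T.mul_mem (c.tmem_conj' hzS ht) (T.inv_mem ht)
      have e2 : (z : Ω)⁻¹ * (t' * (ψ z : Ω) * t'⁻¹) ∈ T := by
        have h := T.mul_mem (T.mul_mem (c.tmem_conj' hzS ht') (hmod z)) (T.inv_mem ht')
        convert h using 1
        group
      have h := T.mul_mem (T.inv_mem e2) (T.mul_mem e1 (hmod (γ z)))
      convert h using 1
      group
  have htX : t ∈ X := by
    obtain ⟨s, hs, hse⟩ := mem_autInducedBy.1
      (mul_mem (c.kerT_le_induced hW hδ) (conjAut_mem_autInducedBy hnW' (c.hTS ht')))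
    refine mem_extender_of (c.hTS ht) hnW hs fun x hx => ?_
    show (ψ ⟨t * (x : Ω) * t⁻¹, hx⟩ : Ω) = s * (ψ x : Ω) * s⁻¹
    rw [← hse (ψ x)]
    simp only [MulAut.mul_apply, ← hγ', MulAut.inv_apply_self]
    rfl
  have hVX : M ⊔ (U ⊔ centralizerIn S U) ≤ X := by
    refine sup_le (fun y hy => ?_) (le_extender hW'S (hom_mem hψhom))
    have hyn := c.mem_normalizer_sup_centralizer hUS (hMS hy)
      (mem_normalizer_inter (Subgroup.le_normalizer hy) (stronglyClosed_le_normalizer c.sc (hMS hy)))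
    let y' : ↥(M ⊔ (U ⊔ centralizerIn S U)) := ⟨y, Subgroup.mem_sup_left hy⟩
    refine mem_extender_of (hMS hy) hyn (hV (θ y').2) fun x hx => ?_
    show (ψ ⟨y * (x : Ω) * y⁻¹, hx⟩ : Ω) = (θ y' : Ω) * (ψ x : Ω) * (θ y' : Ω)⁻¹
    rw [hψe, hψe]
    conv_rhs => rw [← Subgroup.coe_inv, ← Subgroup.coe_mul, ← Subgroup.coe_mul, ← map_inv, ← map_mul, ← map_mul]
    exact congrArg (fun w => (θ w : Ω)) (Subtype.ext rfl)
  have hWc : F.IsCentric (U ⊔ centralizerIn S U) :=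
    isCentric_of_isFullyCentralized (isFullyAutomized_and_fc_of_fn c.pS c.sat hW).1
      ((le_inf inf_le_left (inf_le_right.trans (Subgroup.centralizer_le (le_sup_left : U ≤ U ⊔ centralizerIn S U))) :
        centralizerIn S (U ⊔ centralizerIn S U) ≤ centralizerIn S U).trans le_sup_right)
  obtain ⟨z, hzW, -, hzθ⟩ := centric_ext_unique c.pS c.sat hWc
    (le_sup_right : U ⊔ centralizerIn S U ≤ M ⊔ (U ⊔ centralizerIn S U)) (restrict_mem hΨ hVX)
    ((mem_autGroup hV).1 hθ) fun x hx => (hΨe x hx _).trans (hψe ⟨(x : Ω), hx⟩)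
  let w : X := ⟨(z : Ω), hVX z.2⟩ * ⟨t, htX⟩ * ⟨(z : Ω), hVX z.2⟩⁻¹
  set t3 := Ψ w with ht3
  have ht3T : t3 ∈ T := stronglyClosed_apply_mem c.sc hΨ (x := w) (c.tmem_conj (hV z.2) ht)
  have hval : ∀ x : M, ((g * conjAut M htn * g⁻¹) x : Ω) = t3 * (x : Ω) * t3⁻¹ := by
    intro x
    obtain ⟨y, rfl⟩ := g.surjective x
    rw [MulAut.mul_apply, MulAut.mul_apply, MulAut.inv_apply_self, ← hθg, ← hθg]
    refine (hzθ _).trans ?_
    rw [show (θ (Subgroup.inclusion le_sup_left y) : Ω) = Ψ (Subgroup.inclusion hVX (z * Subgroup.inclusion le_sup_left y * z⁻¹)) from hzθ _,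
      ht3, ← map_inv, ← map_mul, ← map_mul]
    refine congrArg Ψ (Subtype.ext ?_)
    show (z : Ω) * (t * y * t⁻¹) * (z : Ω)⁻¹ =
      (z : Ω) * t * (z : Ω)⁻¹ * ((z : Ω) * y * (z : Ω)⁻¹) * ((z : Ω) * t * (z : Ω)⁻¹)⁻¹
    group
  -- compare with `t'`
  have hd : t3 * t'⁻¹ ∈ centralizerIn T U := by
    refine mem_centralizerIn.2 ⟨T.mul_mem ht3T (T.inv_mem ht'), fun v hv => ?_⟩
    have hu : t'⁻¹ * v * t' ∈ U := (Subgroup.mem_normalizer_iff''.1 (htU t' ht' htn') v).1 hv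
    have h1 := (hval ⟨_, hu.1⟩).symm.trans (heq ⟨_, hu.1⟩ hu.2)
    calc t3 * t'⁻¹ * v = t3 * (t'⁻¹ * v * t') * t3⁻¹ * (t3 * t'⁻¹) := by group
      _ = v * (t3 * t'⁻¹) := by rw [h1]; group
  refine mem_autInducedBy.2 ⟨t3 * t'⁻¹, mem_centralizerIn.2 ⟨hZ hd, (mem_centralizerIn.1 hd).2⟩, fun x => ?_⟩
  obtain ⟨y, rfl⟩ := (conjAut M htn').surjective x
  rw [MulAut.mul_apply, MulAut.inv_apply_self, hval, coe_conjAut]
  group

/-- The same at any position. -/
theorem conj_T {M : Subgroup Ω} (hM : InH F T M) {g : MulAut M} (hg : g ∈ aGenP F E p M)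
    {t t' : Ω} (ht : t ∈ T) (htn : t ∈ Subgroup.normalizer (M : Set Ω)) (ht' : t' ∈ T)
    (htn' : t' ∈ Subgroup.normalizer (M : Set Ω))
    (heq : ∀ u : M, (u : Ω) ∈ T → (g (conjAut M htn (g⁻¹ u)) : Ω) = t' * (u : Ω) * t'⁻¹) :
    g * conjAut M htn * g⁻¹ * (conjAut M htn')⁻¹ ∈ zBar T M := by
  have hMS := hM.1
  have hUS : M ⊓ T ≤ S := inf_le_left.trans hMS
  obtain ⟨μ, hμ, hμv, hμfn, hμW⟩ := exists_fn_pos c.pS c.sat hUS
  have hMN : M ≤ normalizerIn S (M ⊓ T) := fun y hy =>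
    ⟨hMS hy, mem_normalizer_inter (Subgroup.le_normalizer hy) (stronglyClosed_le_normalizer c.sc (hMS hy))⟩
  have hTN : ∀ s ∈ T, s ∈ Subgroup.normalizer (M : Set Ω) → s ∈ normalizerIn S (M ⊓ T) := fun s hs hn =>
    ⟨c.hTS hs, mem_normalizer_inter hn (stronglyClosed_le_normalizer c.sc (c.hTS hs))⟩
  have hμM := restrict_mem hμ hMN
  set M' := (μ.comp (Subgroup.inclusion hMN)).range with hM'
  set e := homIso hμM (rfl : _ = M') with he
  have heF : IsoIn F e := isoIn_homIso hμM rfl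
  have hM'H := c.inH_of_iso heF hM
  have hUeq : M' ⊓ T = img μ (le_normalizerIn hUS) := by
    ext y
    constructor
    · rintro ⟨⟨x, rfl⟩, hy⟩
      have hx : (x : Ω) ∈ T := by
        have h := stronglyClosed_apply_mem c.sc heF.symm (x := e x) hy
        simpa using h
      exact mem_img (μ := μ) (hX := le_normalizerIn hUS) (x := Subgroup.inclusion hMN x) ⟨x.2, hx⟩
    · rintro ⟨x, rfl⟩
      exact ⟨⟨⟨(x : Ω), x.2.1⟩, rfl⟩,
        stronglyClosed_apply_mem c.sc hμ (x := Subgroup.inclusion (le_normalizerIn hUS) x) x.2.2⟩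
  have hconj : ∀ s (hs : s ∈ T) (hn : s ∈ Subgroup.normalizer (M : Set Ω)),
      ∃ hn' : μ ⟨s, hTN s hs hn⟩ ∈ Subgroup.normalizer (M' : Set Ω),
        MulAut.congr e (conjAut M hn) = conjAut M' hn' := by
    intro s hs hn
    refine ⟨mem_normalizer_img μ hMN hn, MulEquiv.ext fun y => Subtype.ext ?_⟩
    obtain ⟨x, rfl⟩ := e.surjective y
    rw [show MulAut.congr e (conjAut M hn) (e x) = e (conjAut M hn x) by simp [MulAut.congr]]
    show μ _ = μ _ * μ (Subgroup.inclusion hMN x) * (μ _)⁻¹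
    rw [← map_inv, ← map_mul, ← map_mul]
    exact congrArg μ (Subtype.ext rfl)
  obtain ⟨hn₁, he₁⟩ := hconj t ht htn
  obtain ⟨hn₂, he₂⟩ := hconj t' ht' htn'
  have hg' := c.aGenP_le_moveL hM'H (hUeq ▸ hμfn) (hUeq ▸ hμW) (c.aGenP_congr heF hg)
  have key := c.conj_T_fn hM'H (hUeq ▸ hμW) hg'
    (stronglyClosed_apply_mem c.sc hμ (x := ⟨t, hTN t ht htn⟩) ht) hn₁
    (stronglyClosed_apply_mem c.sc hμ (x := ⟨t', hTN t' ht' htn'⟩) ht') hn₂ fun y hy => by
      obtain ⟨x, rfl⟩ := e.surjective y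
      have hx : (x : Ω) ∈ T := by
        have h := stronglyClosed_apply_mem c.sc heF.symm (x := e x) hy
        simpa using h
      rw [← he₁, show (MulAut.congr e g) ((MulAut.congr e (conjAut M htn)) ((MulAut.congr e g)⁻¹ (e x))) =
        e (g (conjAut M htn (g⁻¹ x))) by rw [← map_inv]; simp [MulAut.congr]]
      show μ (Subgroup.inclusion hMN (g (conjAut M htn (g⁻¹ x)))) =
        μ ⟨t', hTN t' ht' htn'⟩ * μ (Subgroup.inclusion hMN x) * (μ ⟨t', hTN t' ht' htn'⟩)⁻¹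
      rw [← map_inv, ← map_mul, ← map_mul]
      exact congrArg μ (Subtype.ext (heq x hx))
  rw [← he₁, ← he₂, ← map_inv, ← map_mul, ← map_inv, ← map_mul, ← map_mul] at key
  have h := c.zBar_congr heF.symm key
  convert h using 1
  exact MulEquiv.ext fun x => by simp [MulAut.congr]

/-- The generators move the kernel only by the centre. -/
theorem conj_kerT {M : Subgroup Ω} (hM : InH F T M) {g k : MulAut M} (hg : g ∈ aGenP F E p M)
    (hk : k ∈ kerT F T M) : g * k * g⁻¹ * k⁻¹ ∈ zBar T M := by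
  have hMS := hM.1
  have hnorm : ∀ b ∈ F.autGroup M, ∀ d ∈ zBar T M, b * d * b⁻¹ ∈ zBar T M := fun b hb d hd =>
    c.zBar_congr ((mem_autGroup hMS).1 hb) hd
  let L : Subgroup (MulAut M) :=
    { carrier := {g | g ∈ F.autGroup M ∧ ∀ k ∈ kerT F T M, g * k * g⁻¹ * k⁻¹ ∈ zBar T M}
      one_mem' := ⟨one_mem _, fun k _ => by simp⟩
      mul_mem' := fun {a b} ha hb => ⟨mul_mem ha.1 hb.1, fun k hk => by
        have h := mul_mem (hnorm a ha.1 _ (hb.2 k hk)) (ha.2 k hk)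
        convert h using 1
        group⟩
      inv_mem' := fun {a} ha => ⟨inv_mem ha.1, fun k hk => by
        have h := inv_mem (hnorm a⁻¹ (inv_mem ha.1) _ (ha.2 k hk))
        convert h using 1
        group⟩ }
  have hle : aGenP F E p M ≤ L := (Subgroup.closure_le _).2 fun a ha =>
    ⟨ha.1.1, fun k hk => c.rigid hMS hM.2 ha.1 ha.2 hk⟩
  exact (hle hg).2 k hk

/-- A commutator with an element acting on the intersection by conjugation in `T` is such a conjugation. -/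
theorem tlike_commutator {M : Subgroup Ω} (hM : InH F T M) {x g : MulAut M} (hx : x ∈ bAut F E M)
    (hxT : TLike T M x) (hg : g ∈ aGenP F E p M) (hgx : TLike T M (g * x * g⁻¹)) :
    g * x * g⁻¹ * x⁻¹ ∈ autInducedBy T M := by
  have hMS := hM.1
  obtain ⟨t, ht, hte⟩ := hxT
  obtain ⟨t', ht', ht'e⟩ := hgx
  have hgb : g ∈ bAut F E M := aGenP_le_bAut M hg
  have htn := c.tlike_normalizes hM hx ht hte
  have htn' := c.tlike_normalizes hM (c.bAut_normal hMS hx hgb.1) ht' ht'e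
  set γ := conjAut M htn with hγ
  have hγT : γ ∈ autInducedBy T M := conjAut_mem_autInducedBy htn ht
  have hγF : γ ∈ F.autGroup M := autInducedBy_le_autGroup hMS (autInducedBy_mono c.hTS hγT)
  have hγU : ∀ u : M, (u : Ω) ∈ T → γ u = x u := fun u hu => Subtype.ext (hte u hu).symm
  have hk : γ⁻¹ * x ∈ kerT F T M := by
    refine ⟨mul_mem (inv_mem hγF) hx.1, fun u hu => ?_, fun u => ?_⟩
    · rw [MulAut.mul_apply, ← hγU u hu, MulAut.inv_apply_self]
    · rw [MulAut.mul_apply]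
      obtain ⟨v, hv⟩ := γ.surjective (x u)
      rw [← hv, MulAut.inv_apply_self]
      have h1 : (v : Ω)⁻¹ * (γ v : Ω) ∈ T := by
        show (v : Ω)⁻¹ * (t * v * t⁻¹) ∈ T
        rw [show (v : Ω)⁻¹ * (t * v * t⁻¹) = ((v : Ω)⁻¹ * t * v) * t⁻¹ by group]
        exact T.mul_mem (c.tmem_conj' (hMS v.2) ht) (T.inv_mem ht)
      rw [hv] at h1
      have := T.mul_mem (hx.2.1 u) (T.inv_mem h1)
      rwa [mul_inv_rev, inv_inv, mul_assoc, mul_inv_cancel_left] at this
  have h1 : g * γ * g⁻¹ ∈ autInducedBy T M := by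
    have h := c.conj_T hM hg ht htn ht' htn' fun u hu => by
      have hu' : ((g⁻¹ u : M) : Ω) ∈ T := stronglyClosed_aut_mem c.sc (inv_mem hgb.1) hMS hu
      rw [← hγ, hγU _ hu']
      exact ht'e u hu
    have := mul_mem (autInducedBy_mono (((centralizerIn_le _).trans inf_le_right) : centralizerIn (M ⊓ T) (M ⊓ T) ≤ T) h)
      (conjAut_mem_autInducedBy htn' ht')
    rwa [inv_mul_cancel_right] at this
  have h2 : g * (γ⁻¹ * x) * g⁻¹ * (γ⁻¹ * x)⁻¹ ∈ autInducedBy T M :=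
    autInducedBy_mono (((centralizerIn_le _).trans inf_le_right) : centralizerIn (M ⊓ T) (M ⊓ T) ≤ T)
      (c.conj_kerT hM hg hk)
  have h := mul_mem (mul_mem h1 h2) (inv_mem hγT)
  convert h using 1
  group

/-- The focal argument. -/
theorem focal {M : Subgroup Ω} (hM : InH F T M) {R : Sylow p (aGenP F E p M)}
    (hR : ∀ x ∈ (R : Subgroup (aGenP F E p M)), TLike T M (x : MulAut M)) :
    (R : Subgroup (aGenP F E p M)).map (aGenP F E p M).subtype ≤ autInducedBy T M := by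
  haveI := finite_of_le hM.1
  haveI : Finite (MulAut M) := Finite.of_injective (fun f => (f : M → M)) DFunLike.coe_injective
  have htop : ∀ x : (aGenP F E p M), x ∈ pResidual p (aGenP F E p M) := by
    have hle : (aGenP F E p M) ≤ (pResidual p (aGenP F E p M)).map (aGenP F E p M).subtype := (Subgroup.closure_le _).2 fun a ha =>
      ⟨⟨a, Subgroup.subset_closure ha⟩, Cfsg.Lib.Fusion.mem_pResidual_of_coprime
        (by rw [← Subgroup.orderOf_coe]; exact ha.2), rfl⟩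
    intro x
    obtain ⟨y, hy, hyx⟩ := hle x.2
    rwa [show x = y from Subtype.ext hyx.symm]
  rintro _ ⟨x, hx, rfl⟩
  obtain ⟨k, hk⟩ := R.isPGroup' ⟨x, hx⟩
  have hxc : x ∈ commutator (aGenP F E p M) ⊓ (R : Subgroup (aGenP F E p M)) :=
    ⟨mem_commutator_of_mem_pResidual (htop x) (congrArg Subtype.val hk :), hx⟩
  rw [Subgroup.commutator_inf_eq_focalSubgroup] at hxc
  have hle : (R : Subgroup (aGenP F E p M)).focalSubgroup ≤ (autInducedBy T M).subgroupOf (aGenP F E p M) := by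
    rw [Subgroup.focalSubgroup_def, Subgroup.closure_le]
    rintro _ ⟨hyR, y, hy, u, rfl⟩
    rw [SetLike.mem_coe, Subgroup.mem_subgroupOf]
    have h2 : u * y * u⁻¹ ∈ (R : Subgroup (aGenP F E p M)) := by
      have h := mul_mem (inv_mem hyR) hy
      convert h using 1
      rw [commutatorElement_def]
      group
    have h := inv_mem (c.tlike_commutator hM (aGenP_le_bAut M y.2) (hR y hy) u.2 (hR _ h2))
    convert h using 1
    simp only [commutatorElement_def, Subgroup.coe_mul, Subgroup.coe_inv]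
    group
  exact hle hxc

end ProdCtx

end Cfsg.Lib.FusionSys
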