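import Cfsg.Agent.Lib.FusionSys.ProductER.ULevel

/-!
All members of a self-centralizing class of `T` reach the member with largest normalizer, and the automizer in
the bounding system of that member is generated by the subsystem and the conjugations.
-/

set_option autoImplicit false
set_option linter.style.haveILetI false
set_option maxHeartbeats 800000

namespace Cfsg.Lib.FusionSys

open Cfsg Cfsg.FusionSystem
open scoped Pointwise

variable {Ω : Type*} [Group Ω] {S T : Subgroup Ω} {F : FusionSystem S} {E : FusionSystem T} {p : ℕ}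

/-- Restricting the target of an extension. -/
theorem ExtIso.into {A B X U V : Subgroup Ω} {e : A ≃* B} (h : ExtIso F X U e)
    (hV : ∀ (ψ : X →* Ω), ψ ∈ F.Hom X → ∀ x, ψ x ∈ U → ψ x ∈ V) : ExtIso F X V e := by
  obtain ⟨hA, ψ, hψ, hv, he⟩ := h
  exact ⟨hA, ψ, hψ, fun x => hV ψ hψ x (hv x), he⟩

/-- The automorphisms of `N` acting on `U` as elements of `P`. -/
def liftStab {N U : Subgroup Ω} (G : Subgroup (MulAut N)) (hUN : U ≤ N) (P : Subgroup (MulAut U)) :
    Subgroup (MulAut N) where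
  carrier := {d | d ∈ G ∧ ∃ q ∈ P, ∀ x : U, (d (Subgroup.inclusion hUN x) : Ω) = (q x : Ω)}
  one_mem' := ⟨one_mem _, 1, one_mem _, fun _ => rfl⟩
  mul_mem' := by
    rintro a b ⟨ha, q, hq, hqa⟩ ⟨hb, r, hr, hrb⟩
    refine ⟨mul_mem ha hb, q * r, mul_mem hq hr, fun x => ?_⟩
    rw [MulAut.mul_apply, MulAut.mul_apply, ← hqa]
    exact congrArg (fun z : N => (a z : Ω)) (Subtype.ext (hrb x))
  inv_mem' := by
    rintro a ⟨ha, q, hq, hqa⟩
    refine ⟨inv_mem ha, q⁻¹, inv_mem hq, fun x => ?_⟩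
    have h : a (Subgroup.inclusion hUN (q⁻¹ x)) = Subgroup.inclusion hUN x :=
      Subtype.ext ((hqa _).trans (by rw [MulAut.apply_inv_self]; rfl))
    rw [← h, MulAut.inv_apply_self]
    rfl

namespace ProdCtx

variable (c : ProdCtx F E p)
include c

/-- A self-centralizing member with largest normalizer whose automizer is as expected and reached by all members. -/
structure GoodU (U : Subgroup Ω) : Prop where
  pmax : c.PMax U
  uc : UCentric F T U
  aut : c.bSys.autGroup U ≤ c.k0 U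
  reach : ∀ A, c.bSys.IsConj U A → ∃ θ : A ≃* U, ExtIso (c.pSys 0) (normalizerIn S A) (normalizerIn S U) θ

theorem isoIn_bSys_of_pSys {n : ℕ} {P Q : Subgroup Ω} {e : P ≃* Q} (he : IsoIn (c.pSys n) e) :
    IsoIn c.bSys e :=
  c.pSys_sub_bSys n _ he

variable [Finite S] [Fact p.Prime]

/-- Receptivity at a good member. -/
theorem ext_of_induced {N0 : Subgroup Ω} (hN : c.GoodU N0) {A : Subgroup Ω} (g : A ≃* N0)
    (hg : IsoIn c.bSys g) {H : Subgroup Ω} (hAH : A ≤ H) (hH : H ≤ normalizerIn S A)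
    (hind : ∀ h (hh : h ∈ H), MulAut.congr g (conjAut A (hH hh).2) ∈ autInducedBy S N0) :
    ExtIso (c.pSys 0) H (normalizerIn S N0) g := by
  have hN0S : N0 ≤ S := hN.uc.1.trans c.hTS
  haveI := finite_of_le hN0S
  haveI : Finite (MulAut N0) := Finite.of_injective (fun f => (f : N0 → N0)) DFunLike.coe_injective
  obtain ⟨θ, hθ⟩ := hN.reach A (isConj_iff.2 ⟨g.symm, hg.symm⟩)
  set k : MulAut N0 := θ.symm.trans g with hk
  have hkK : k ∈ c.k0 N0 :=
    hN.aut ((mem_autGroup hN0S).2 ((c.isoIn_bSys_of_pSys hθ.isoIn).symm.trans hg))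
  obtain ⟨hAN, ψ, hψ, hv, hψe⟩ := hθ
  set X : Subgroup (MulAut N0) := (autInducedBy H A).map (MulAut.congr θ).toMonoidHom with hX
  have hval : ∀ h (hh : h ∈ H) (q : N0), (MulAut.congr θ (conjAut A (hH hh).2) q : Ω) =
      ψ ⟨h, hH hh⟩ * (q : Ω) * (ψ ⟨h, hH hh⟩)⁻¹ := by
    intro h hh q
    obtain ⟨a, rfl⟩ := θ.surjective q
    rw [show MulAut.congr θ (conjAut A (hH hh).2) (θ a) = θ (conjAut A (hH hh).2 a) by simp [MulAut.congr],
      ← hψe _ (conjAut A (hH hh).2 a).2 (hAN (conjAut A (hH hh).2 a).2), ← hψe _ a.2 (hAN a.2),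
      ← map_inv, ← map_mul, ← map_mul]
    exact congrArg ψ (Subtype.ext rfl)
  have hXmem : ∀ x ∈ X, ∃ h, ∃ hh : h ∈ H, x = MulAut.congr θ (conjAut A (hH hh).2) := by
    rintro _ ⟨d, hd, rfl⟩
    obtain ⟨h, hh, hhd⟩ := mem_autInducedBy.1 hd
    exact ⟨h, hh, congrArg (MulAut.congr θ) (MulEquiv.ext fun a => Subtype.ext (hhd a))⟩
  have hXS : X ≤ autInducedBy S N0 := fun x hx => by
    obtain ⟨h, hh, rfl⟩ := hXmem x hx
    exact mem_autInducedBy.2 ⟨_, (hv _).1, hval h hh⟩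
  have hI : Inn N0 ≤ X := by
    rintro _ ⟨q, rfl⟩
    refine ⟨MulAut.conj (θ.symm q), inn_le_autInducedBy hAH ⟨_, rfl⟩, MulEquiv.ext fun x => ?_⟩
    show θ (θ.symm q * θ.symm x * (θ.symm q)⁻¹) = q * x * q⁻¹
    rw [map_mul, map_mul, map_inv, MulEquiv.apply_symm_apply, MulEquiv.apply_symm_apply]
  have hkX : X.map (MulAut.conj k).toMonoidHom ≤ autInducedBy S N0 := by
    rintro _ ⟨x, hx, rfl⟩
    obtain ⟨h, hh, rfl⟩ := hXmem x hx
    convert hind h hh using 1
    exact MulEquiv.ext fun q => by simp [hk, MulAut.congr]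
  have hext := c.extIso_conj_induced hN.uc hN.pmax.1 _ X k (Nat.le_add_left _ _) hI hXS hkK hkX
  have h1 : ExtIso (c.pSys 0) H (nK S N0 X) θ := ⟨hAH, ψ.comp (Subgroup.inclusion hH), restrict_mem hψ hH,
    fun x => mem_nK.2 ⟨(hv _).1, MulAut.congr θ (conjAut A (hH x.2).2),
      ⟨_, conjAut_mem_autInducedBy _ x.2, rfl⟩, hval x x.2⟩,
    fun x hx hxH => hψe x hx (hH hxH)⟩
  have h2 := (h1.trans hext).congr (e' := g) fun x => by simp [hk]
  exact (h2.normalizes fun x hx => (hH hx).2).mono hAH le_rfl inf_le_right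

/-- Lifting an isomorphism of the bounding system to the normalizers in `T`. -/
theorem exists_lift {A B : Subgroup Ω} (hB : c.PMaxT B) {w : A ≃* B} (hw : IsoIn c.bSys w)
    (hind : ∀ t (ht : t ∈ normalizerIn T A), MulAut.congr w (conjAut A ht.2) ∈ autInducedBy S B) :
    ∃ (N' : Subgroup Ω) (ŵ : normalizerIn T A ≃* N'), IsoIn c.bSys ŵ ∧ N' ≤ normalizerIn T B ∧ B ≤ N' ∧
      ∀ (a : A) (h : (a : Ω) ∈ normalizerIn T A), (ŵ ⟨_, h⟩ : Ω) = (w a : Ω) := by
  have hTS := c.hTS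
  have hBT := hB.1
  have hAT : A ≤ T := c.le_T_of_bConj hBT (isConj_iff.2 ⟨w.symm, hw.symm⟩)
  haveI := finite_of_le hTS
  obtain ⟨r, hr, -, e₀, he₀, he₀e⟩ := hw.2
  set e := e₀.comp (Subgroup.inclusion (le_inf le_rfl hAT : A ≤ A ⊓ T)) with he
  have heE : e ∈ E.Hom A := restrict_mem he₀ _
  have hwe : ∀ a : A, (w a : Ω) = r * e a * r⁻¹ := fun a =>
    he₀e (Subgroup.inclusion (le_inf le_rfl hAT) a)
  set U1 := e.range with hU1
  set e₁ := homIso heE (rfl : _ = U1) with he₁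
  have he₁E : IsoIn E e₁ := isoIn_homIso heE rfl
  have hU1T : U1 ≤ T := range_le heE
  have hBU : c.bSys.IsConj B U1 :=
    isConj_trans (isConj_iff.2 ⟨w.symm, hw.symm⟩) ⟨e, c.emap_mem_bSys heE, rfl⟩
  have hmove : ∀ t ∈ normalizerIn T B, r⁻¹ * t * r ∈ normalizerIn T U1 := by
    intro t ht
    refine ⟨c.tmem_conj' hr ht.1, ?_⟩
    haveI := finite_of_le hU1T
    refine Subgroup.mem_normalizer_fintype ?_
    rintro _ ⟨a, rfl⟩
    have h1 : t * (w a : Ω) * t⁻¹ ∈ B := (Subgroup.mem_normalizer_iff.1 ht.2 _).1 (w a).2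
    refine ⟨w.symm ⟨_, h1⟩, ?_⟩
    have h2 := (hwe (w.symm ⟨_, h1⟩)).symm.trans (congrArg Subtype.val (w.apply_symm_apply _))
    change r * e (w.symm ⟨_, h1⟩) * r⁻¹ = t * (w a : Ω) * t⁻¹ at h2
    conv at h2 => rhs; rw [hwe a]
    calc e (w.symm ⟨_, h1⟩) = r⁻¹ * (r * e (w.symm ⟨_, h1⟩) * r⁻¹) * r := by group
      _ = r⁻¹ * t * r * e a * (r⁻¹ * t * r)⁻¹ := by rw [h2]; group
  have hmax1 : c.PMaxT U1 := by
    refine c.pMaxT_of_card hB hBU ?_
    haveI := finite_of_le ((normalizerIn_le (S := T) U1))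
    exact Nat.card_le_card_of_injective (fun t : normalizerIn T B => (⟨_, hmove t t.2⟩ : normalizerIn T U1))
      fun s t h => Subtype.ext (by
        have h' := congrArg (fun z : normalizerIn T U1 => (z : Ω)) h
        simpa using h')
  have hEfn := c.fnE_of_pMaxT hmax1
  have hrec := isReceptive_of_fc (c.pS.to_le hTS) c.satE (isFullyAutomized_and_fc_of_fn (c.pS.to_le hTS) c.satE hEfn).1
  have hindE : ∀ t (ht : t ∈ normalizerIn T A),
      MulAut.congr e₁ (conjAut A ht.2) ∈ autInducedBy T U1 := by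
    intro t ht
    refine mem_autInducedBy_of_sylow c.pS hTS c.satE hEfn
      (congr_mem_autGroup he₁E (autInducedBy_le_autGroup hAT (conjAut_mem_autInducedBy ht.2 ht.1))) ?_
    obtain ⟨s, hs, hse⟩ := mem_autInducedBy.1 (hind t ht)
    refine mem_autInducedBy.2 ⟨r⁻¹ * s * r, S.mul_mem (S.mul_mem (S.inv_mem hr) hs) hr, fun y => ?_⟩
    obtain ⟨a, rfl⟩ := e₁.surjective y
    rw [show MulAut.congr e₁ (conjAut A ht.2) (e₁ a) = e₁ (conjAut A ht.2 a) by simp [MulAut.congr]]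
    have h1 := hse (w a)
    rw [show MulAut.congr w (conjAut A ht.2) (w a) = w (conjAut A ht.2 a) by simp [MulAut.congr], hwe, hwe] at h1
    show e (conjAut A ht.2 a) = _ * e a * _
    calc e (conjAut A ht.2 a) = r⁻¹ * (r * e (conjAut A ht.2 a) * r⁻¹) * r := by group
      _ = r⁻¹ * s * r * e a * (r⁻¹ * s * r)⁻¹ := by rw [h1]; group
  obtain ⟨hA', ψ, hψ, hv, hψe⟩ := exists_extIso_of_receptive hrec he₁E (le_normalizerIn hAT) le_rfl hindE
  have hNS : normalizerIn T U1 ≤ S := (normalizerIn_le U1).trans hTS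
  set φ := (conjHom (normalizerIn T U1) r).comp (ψ.codRestrict _ hv) with hφdef
  have hφ : φ ∈ c.bSys.Hom (normalizerIn T A) := c.bSys.comp_mem (c.emap_mem_bSys hψ) (c.bSys.conj_mem hNS hr) hv
  have hφe : ∀ (a : A) (h : (a : Ω) ∈ normalizerIn T A), φ ⟨_, h⟩ = (w a : Ω) := fun a h => by
    show r * ψ ⟨_, h⟩ * r⁻¹ = _
    rw [hψe _ a.2 h, hwe]
    rfl
  refine ⟨φ.range, homIso hφ rfl, isoIn_homIso hφ rfl, ?_, fun b hb => ?_, hφe⟩
  · rintro _ ⟨x, rfl⟩
    refine ⟨c.tmem_conj hr (hom_mem hψ x), ?_⟩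
    haveI := finite_of_le (hBT.trans hTS)
    refine Subgroup.mem_normalizer_fintype fun y hy => ?_
    obtain ⟨a, ha⟩ := w.surjective ⟨y, hy⟩
    have hya : y = r * e a * r⁻¹ := (congrArg Subtype.val ha).symm.trans (hwe a)
    obtain ⟨a', ha'⟩ := (Subgroup.mem_normalizer_iff.1 (hv x).2 (e a)).1 ⟨a, rfl⟩
    show r * ψ x * r⁻¹ * y * (r * ψ x * r⁻¹)⁻¹ ∈ B
    rw [hya, show r * ψ x * r⁻¹ * (r * e a * r⁻¹) * (r * ψ x * r⁻¹)⁻¹ = r * (ψ x * e a * (ψ x)⁻¹) * r⁻¹ by group,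
      ← ha', ← hwe]
    exact (w a').2
  · exact ⟨⟨_, le_normalizerIn hAT (w.symm ⟨b, hb⟩).2⟩, (hφe _ _).trans (by rw [MulEquiv.apply_symm_apply])⟩

/-- Moving to a good member so that a given `p`-subgroup of automorphisms of a subgroup becomes induced. -/
theorem exists_move {N0 N U : Subgroup Ω} (hN0 : c.GoodU N0) (hNN : c.bSys.IsConj N0 N) (hUN : U ≤ N)
    (hn : N ≤ Subgroup.normalizer (U : Set Ω)) (hZ : centralizerIn N U ≤ U) {P : Subgroup (MulAut U)}
    (hP : IsPGroup p P) :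
    ∃ f : N ≃* N0, IsoIn (c.pSys 0) f ∧ ∀ d ∈ liftStab (c.bSys.autGroup N) hUN P,
      MulAut.congr f d ∈ autInducedBy S N0 := by
  have hNS : N ≤ S := (isConj_le hNN).2
  have hN0S : N0 ≤ S := hN0.uc.1.trans c.hTS
  haveI := finite_of_le hN0S
  haveI := finite_of_le hNS
  haveI : Finite (MulAut N0) := Finite.of_injective (fun f => (f : N0 → N0)) DFunLike.coe_injective
  obtain ⟨θ, hθ⟩ := hN0.reach N hNN
  set L := liftStab (c.bSys.autGroup N) hUN P with hL
  have hLp : IsPGroup p L := by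
    rintro ⟨d, hd, q, hq, hdq⟩
    obtain ⟨k, hk⟩ := hP ⟨q, hq⟩
    have hk' : q ^ p ^ k = 1 := congrArg Subtype.val hk
    have hfix : ∀ x : N, (x : Ω) ∈ U → (d ^ p ^ k) x = x := fun x hx => Subtype.ext (by
      rw [show x = Subgroup.inclusion hUN ⟨(x : Ω), hx⟩ from rfl,
        ← aut_pow_agree hUN (fun y => (hdq y).symm) (p ^ k), hk']
      rfl)
    obtain ⟨j, hj⟩ := isPElement_of_fix (U := N) (p := p) c.pS hNS hUN le_rfl hn hZ hfix
    exact ⟨k + j, Subtype.ext (show d ^ p ^ (k + j) = 1 by rw [pow_add, pow_mul, hj])⟩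
  set L0 := L.map (MulAut.congr θ).toMonoidHom with hL0
  have hL0K : L0 ≤ c.k0 N0 := by
    rintro _ ⟨d, hd, rfl⟩
    exact hN0.aut (congr_mem_autGroup (c.isoIn_bSys_of_pSys hθ.isoIn) hd.1)
  obtain ⟨W, hW⟩ := c.sylow_k0 hN0.pmax.1
  obtain ⟨W', hW'⟩ := ((hLp.map (MulAut.congr θ).toMonoidHom).comap_subtype :
    IsPGroup p (L0.subgroupOf (c.k0 N0))).exists_le_sylow
  obtain ⟨γ, hγ⟩ := MulAction.exists_smul_eq (c.k0 N0) W' W
  have hγD : IsoIn (c.pSys 0) ((γ : MulAut N0) : N0 ≃* N0) :=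
    (mem_autGroup hN0S).1 (c.k0_le_pSys hN0.uc.1 γ.2)
  refine ⟨θ.trans (γ : MulAut N0), hθ.isoIn.trans hγD, fun d hd => ?_⟩
  have h1 : γ * ⟨_, hL0K ⟨d, hd, rfl⟩⟩ * γ⁻¹ ∈ (W : Subgroup (c.k0 N0)) := by
    rw [← hγ, Sylow.coe_subgroup_smul]
    exact Subgroup.smul_mem_pointwise_smul _ (MulAut.conj γ) _ (hW' (Subgroup.mem_subgroupOf.2 ⟨d, hd, rfl⟩))
  rw [hW, Subgroup.mem_subgroupOf] at h1
  convert h1 using 1
  exact MulEquiv.ext fun x => by simp [MulAut.congr]

/-- Restricting an extension to a subgroup with its image. -/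
theorem exists_restrict_img {N N0 U H : Subgroup Ω} {f : N ≃* N0} (hf : ExtIso (c.pSys 0) H (normalizerIn S N0) f)
    (hUN : U ≤ N) (hHU : H ≤ Subgroup.normalizer (U : Set Ω)) {U3 : Subgroup Ω} {e : U ≃* U3}
    (he : ∀ x : U, (e x : Ω) = (f (Subgroup.inclusion hUN x) : Ω)) :
    ExtIso (c.pSys 0) H (normalizerIn S U3) e := by
  have h1 : ExtIso (c.pSys 0) H (normalizerIn S N0) e := hf.restrict hUN fun x => he x
  exact (h1.normalizes hHU).mono h1.1 le_rfl inf_le_right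

/-- The bounding automizer of a member with largest normalizer. -/
theorem aut_le_k0_step {U0 : Subgroup Ω} (hU : UCentric F T U0) (hmax : c.PMax U0)
    (hIH : ∀ N, UCentric F T N → Nat.card U0 < Nat.card N → ∃ N0, c.GoodU N0 ∧ c.bSys.IsConj N0 N) :
    c.bSys.autGroup U0 ≤ c.k0 U0 := by
  classical
  have hU0T := hU.1
  have hU0S := hU0T.trans c.hTS
  haveI := finite_of_le c.hTS
  haveI := finite_of_le hU0S
  haveI : Finite (MulAut U0) := Finite.of_injective (fun f => (f : U0 → U0)) DFunLike.coe_injective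
  set P := autInducedBy S U0 with hP
  have hPB : P ≤ c.bSys.autGroup U0 := autInducedBy_le_autGroup hU0S
  obtain ⟨W, hW⟩ := ((isPGroup_autInducedBy (P := U0) c.pS).comap_subtype :
    IsPGroup p (P.subgroupOf (c.bSys.autGroup U0))).exists_le_sylow
  set Wm := (W : Subgroup (c.bSys.autGroup U0)).map (c.bSys.autGroup U0).subtype with hWm
  have hWmp : IsPGroup p Wm := W.isPGroup'.map _
  have hPW : P ≤ Wm := fun a ha => ⟨⟨a, hPB ha⟩, hW (Subgroup.mem_subgroupOf.2 ha), rfl⟩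
  obtain ⟨R, hR⟩ := c.sylow_k0 hmax.1
  suffices h : normalizerIn Wm P ≤ P by
    have hWP : Wm = P := by
      by_contra hne
      exact (lt_normalizerIn hWmp (lt_of_le_of_ne hPW (Ne.symm hne))).not_ge h
    refine le_of_sylow_of_coprime W ?_ fun a ha hc => c.autE_le_k0 U0 (c.mem_autE_of_coprime hU0T ha hc)
    rw [← hWm, hWP]
    exact c.autInducedBy_le_k0 U0
  intro y hy
  obtain ⟨y', -, hy'e⟩ := hy.1
  have hyB : y ∈ c.bSys.autGroup U0 := hy'e ▸ y'.2
  have hyI := (mem_autGroup hU0S).1 hyB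
  rcases eq_or_lt_of_le hU0T with heq | hlt
  · -- the top
    suffices hyK : y ∈ c.k0 U0 from mem_of_pGroup_sylow R hR hPW hWmp hyK hy.1
    obtain ⟨r, hr, -, e₀, he₀, he₀e⟩ := hyI.2
    have he : e₀.comp (Subgroup.inclusion (le_inf le_rfl hU0T : U0 ≤ U0 ⊓ T)) ∈ E.Hom U0 := restrict_mem he₀ _
    obtain ⟨e, heA, hee⟩ := exists_aut_of_hom he fun x => heq.ge (hom_mem he x)
    have hrn : r ∈ Subgroup.normalizer (U0 : Set Ω) := by
      rw [heq]
      exact stronglyClosed_le_normalizer c.sc hr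
    have hye : y = conjAut U0 hrn * e := MulEquiv.ext fun x => Subtype.ext (by
      rw [MulAut.mul_apply, coe_conjAut, hee]
      exact he₀e (Subgroup.inclusion (le_inf le_rfl hU0T) x))
    rw [hye]
    exact mul_mem (c.autInducedBy_le_k0 U0 (conjAut_mem_autInducedBy hrn hr)) (c.autE_le_k0 U0 heA)
  have hind : ∀ t (ht : t ∈ normalizerIn T U0), MulAut.congr (y : U0 ≃* U0) (conjAut U0 ht.2) ∈ P := fun t ht =>
    (Subgroup.mem_normalizer_iff.1 hy.2 _).1 (conjAut_mem_autInducedBy ht.2 (c.hTS ht.1))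
  obtain ⟨N', ŷ, hŷ, hN', hUN', hŷe⟩ := c.exists_lift hmax.1 hyI hind
  have hN'eq : N' = normalizerIn T U0 := eq_of_le_of_card_le ((normalizerIn_le U0).trans c.hTS) hN'
    (Nat.card_congr ŷ.toEquiv).le
  subst hN'eq
  let N'' := normalizerIn T U0
  have hUN : U0 ≤ N'' := le_normalizerIn hU0T
  have hcard : Nat.card U0 < Nat.card N'' := by
    haveI := finite_of_le ((normalizerIn_le U0).trans c.hTS : N'' ≤ S)
    have hlt' : U0 < N'' := lt_normalizerIn (c.pS.to_le c.hTS) hlt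
    by_contra hh
    exact hlt'.ne (Subgroup.eq_of_le_of_card_ge hlt'.le (not_lt.1 hh))
  obtain ⟨N0, hN0, hN0c⟩ := hIH N'' (hU.mono hUN (normalizerIn_le U0)) hcard
  have hZ : centralizerIn N'' U0 ≤ U0 := (inf_le_inf_right _ (normalizerIn_le U0)).trans (hU.self c.sc)
  obtain ⟨f, hf, hfd⟩ := c.exists_move hN0 hN0c hUN inf_le_right hZ hWmp
  -- the normalizer in `S` follows
  set H := normalizerIn S U0 with hH
  have hN''H : N'' ≤ H := inf_le_inf_right _ c.hTS
  have hHN : H ≤ normalizerIn S N'' := fun g hg => ⟨hg.1,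
    mem_normalizer_inter (stronglyClosed_le_normalizer c.sc hg.1) (Subgroup.le_normalizer hg.2)⟩
  have hN''S : N'' ≤ S := (normalizerIn_le U0).trans c.hTS
  have hext : ExtIso (c.pSys 0) H (normalizerIn S N0) f :=
    c.ext_of_induced hN0 f (c.isoIn_bSys_of_pSys hf) hN''H hHN fun h hh => hfd _
      ⟨autInducedBy_le_autGroup hN''S (conjAut_mem_autInducedBy _ hh.1), conjAut U0 hh.2,
        hPW (conjAut_mem_autInducedBy hh.2 hh.1), fun x => rfl⟩
  have hfU := restrict_mem (hf : N0.subtype.comp f.toMonoidHom ∈ (c.pSys 0).Hom N'') hUN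
  set U3 := ((N0.subtype.comp f.toMonoidHom).comp (Subgroup.inclusion hUN)).range with hU3
  set e3 := homIso hfU (rfl : _ = U3) with he3
  have he3D : IsoIn (c.pSys 0) e3 := isoIn_homIso hfU rfl
  have h3 := c.exists_restrict_img hext hUN inf_le_right (e := e3) fun x => rfl
  have hU3conj : c.bSys.IsConj U0 U3 := isConj_iff.2 ⟨e3, c.isoIn_bSys_of_pSys he3D⟩
  have hN0U3 : N0 ≤ normalizerIn T U3 := fun z hz => by
    refine ⟨hN0.uc.1 hz, ?_⟩
    haveI := finite_of_le ((isConj_le hU3conj).2)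
    refine Subgroup.mem_normalizer_fintype ?_
    rintro _ ⟨x, rfl⟩
    have h1 : ((f.symm ⟨z, hz⟩ : N'') : Ω) * x * ((f.symm ⟨z, hz⟩ : N'') : Ω)⁻¹ ∈ U0 :=
      (Subgroup.mem_normalizer_iff.1 (f.symm ⟨z, hz⟩).2.2 x).1 x.2
    refine ⟨⟨_, h1⟩, ?_⟩
    show (f (f.symm ⟨z, hz⟩ * Subgroup.inclusion hUN x * (f.symm ⟨z, hz⟩)⁻¹) : Ω) = _
    rw [map_mul, map_mul, map_inv, MulEquiv.apply_symm_apply]
    rfl
  have hcT : Nat.card (normalizerIn T U3) = Nat.card N'' := by
    refine le_antisymm (hmax.1.2 U3 hU3conj) ?_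
    rw [Nat.card_congr f.toEquiv]
    haveI := finite_of_le ((normalizerIn_le U3).trans c.hTS : normalizerIn T U3 ≤ S)
    exact card_le_of_le hN0U3
  have hsymm := h3.symm_of_card (normalizerIn_le U3) (hmax.2 U3 hU3conj hcT)
  -- the element `y` is induced
  obtain ⟨s, hs, hse⟩ := mem_autInducedBy.1 (hfd ŷ ⟨(mem_autGroup hN''S).2 hŷ, y, hy.1,
    fun x => hŷe x (hUN x.2)⟩)
  have hsval : ∀ x : U0, (e3 (y x) : Ω) = s * (e3 x : Ω) * s⁻¹ := by
    intro x
    have h := hse (f (Subgroup.inclusion hUN x))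
    rw [show MulAut.congr f ŷ (f (Subgroup.inclusion hUN x)) = f (ŷ (Subgroup.inclusion hUN x)) by
      simp [MulAut.congr]] at h
    refine Eq.trans ?_ h
    exact congrArg (fun z : N'' => (f z : Ω)) (Subtype.ext (hŷe x (hUN x.2)).symm)
  have hsn : s ∈ normalizerIn S U3 := by
    refine ⟨hs, ?_⟩
    haveI := finite_of_le ((isConj_le hU3conj).2)
    refine Subgroup.mem_normalizer_fintype ?_
    rintro _ ⟨x, rfl⟩
    exact (hsval x) ▸ (e3 (y x)).2
  obtain ⟨hA, χ, hχ, hχv, hχe⟩ := hsymm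
  refine mem_autInducedBy.2 ⟨χ ⟨s, hsn⟩, (hχv _).1, fun x => ?_⟩
  have h1 : χ ⟨(e3 x : Ω), hA (e3 x).2⟩ = (x : Ω) := by
    rw [hχe _ (e3 x).2]
    exact congrArg Subtype.val (e3.symm_apply_apply x)
  have h2 : χ ⟨(e3 (y x) : Ω), hA (e3 (y x)).2⟩ = (y x : Ω) := by
    rw [hχe _ (e3 (y x)).2]
    exact congrArg Subtype.val (e3.symm_apply_apply (y x))
  rw [← h2, ← h1, ← map_inv, ← map_mul, ← map_mul]
  exact congrArg χ (Subtype.ext (hsval x))

/-- Every member reaches the member with largest normalizer. -/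
theorem reach_step {U0 : Subgroup Ω} (hU : UCentric F T U0) (hmax : c.PMax U0)
    (hK : c.bSys.autGroup U0 ≤ c.k0 U0)
    (hIH : ∀ N, UCentric F T N → Nat.card U0 < Nat.card N → ∃ N0, c.GoodU N0 ∧ c.bSys.IsConj N0 N) :
    ∀ A, c.bSys.IsConj U0 A → ∃ θ : A ≃* U0, ExtIso (c.pSys 0) (normalizerIn S A) (normalizerIn S U0) θ := by
  have hU0T := hU.1
  have hU0S := hU0T.trans c.hTS
  haveI := finite_of_le c.hTS
  haveI := finite_of_le hU0S
  haveI : Finite (MulAut U0) := Finite.of_injective (fun f => (f : U0 → U0)) DFunLike.coe_injective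
  suffices key : ∀ (m : ℕ) (A : Subgroup Ω), c.bSys.IsConj U0 A → Nat.card T ≤ Nat.card (normalizerIn T A) + m →
      ∃ θ : A ≃* U0, ExtIso (c.pSys 0) (normalizerIn S A) (normalizerIn S U0) θ from
    fun A hA => key _ A hA (Nat.le_add_left _ _)
  intro m
  induction m using Nat.strong_induction_on with
  | _ m ih =>
  intro A hA hm
  have hAT : A ≤ T := c.le_T_of_bConj hU0T hA
  have hAS := hAT.trans c.hTS
  rcases eq_or_lt_of_le hAT with hAeq | hlt
  · have h2 : U0 = T := eq_of_le_of_card_le c.hTS hU0T (by rw [card_eq_of_isConj hA, hAeq])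
    obtain rfl : A = U0 := hAeq.trans h2.symm
    exact ⟨MulEquiv.refl A, extIso_refl _ (normalizerIn_le A) (le_normalizerIn hAS)⟩
  obtain ⟨e0, he0⟩ := isConj_iff.1 (isConj_symm hA)
  set X := (autInducedBy S A).map (MulAut.congr e0).toMonoidHom with hX
  have hXK : X ≤ c.k0 U0 := by
    rintro _ ⟨d, hd, rfl⟩
    exact hK (congr_mem_autGroup he0 (autInducedBy_le_autGroup hAS hd))
  obtain ⟨W, hW⟩ := c.sylow_k0 hmax.1
  obtain ⟨W', hW'⟩ := (((isPGroup_autInducedBy (P := A) c.pS).map (MulAut.congr e0).toMonoidHom).comap_subtype :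
    IsPGroup p (X.subgroupOf (c.k0 U0))).exists_le_sylow
  obtain ⟨k, hk⟩ := MulAction.exists_smul_eq (c.k0 U0) W' W
  set w : A ≃* U0 := e0.trans (k : MulAut U0) with hw
  have hwB : IsoIn c.bSys w := he0.trans ((mem_autGroup hU0S).1 (c.k0_le_bSys hU0T k.2))
  have hwP : ∀ g (hg : g ∈ normalizerIn S A), MulAut.congr w (conjAut A hg.2) ∈ autInducedBy S U0 := by
    intro g hg
    have hd := conjAut_mem_autInducedBy (P := A) hg.2 hg.1
    have h1 : k * ⟨_, hXK ⟨_, hd, rfl⟩⟩ * k⁻¹ ∈ (W : Subgroup (c.k0 U0)) := by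
      rw [← hk, Sylow.coe_subgroup_smul]
      exact Subgroup.smul_mem_pointwise_smul _ (MulAut.conj k) _ (hW' (Subgroup.mem_subgroupOf.2 ⟨_, hd, rfl⟩))
    rw [hW, Subgroup.mem_subgroupOf] at h1
    convert h1 using 1
    exact MulEquiv.ext fun x => by simp [hw, MulAut.congr]
  have hTA : normalizerIn T A ≤ normalizerIn S A := inf_le_inf_right _ c.hTS
  obtain ⟨N', ŵ, hŵ, hN', hUN', hŵe⟩ := c.exists_lift hmax.1 hwB fun t ht => hwP t (hTA ht)
  have hAN : A ≤ normalizerIn T A := le_normalizerIn hAT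
  have hcA : Nat.card U0 < Nat.card N' := by
    haveI := finite_of_le ((normalizerIn_le A).trans c.hTS : normalizerIn T A ≤ S)
    rw [← Nat.card_congr w.toEquiv, ← Nat.card_congr ŵ.toEquiv]
    have hlt' : A < normalizerIn T A := lt_normalizerIn (c.pS.to_le c.hTS) hlt
    by_contra hh
    exact hlt'.ne (Subgroup.eq_of_le_of_card_ge hlt'.le (not_lt.1 hh))
  have hN'T : N' ≤ T := hN'.trans (normalizerIn_le U0)
  obtain ⟨N0, hN0, hN0c⟩ := hIH N' (hU.mono hUN' hN'T) hcA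
  have hZ : centralizerIn N' U0 ≤ U0 := (inf_le_inf_right _ hN'T).trans (hU.self c.sc)
  obtain ⟨f, hf, hfd⟩ := c.exists_move hN0 hN0c hUN' (hN'.trans inf_le_right) hZ
    (isPGroup_autInducedBy (P := U0) c.pS)
  -- from the member
  have hH1 : normalizerIn S A ≤ normalizerIn S (normalizerIn T A) := fun g hg => ⟨hg.1,
    mem_normalizer_inter (stronglyClosed_le_normalizer c.sc hg.1) (Subgroup.le_normalizer hg.2)⟩
  have hg : ExtIso (c.pSys 0) (normalizerIn S A) (normalizerIn S N0) (ŵ.trans f) := by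
    refine c.ext_of_induced hN0 _ (hŵ.trans (c.isoIn_bSys_of_pSys hf)) hTA hH1 fun h hh => ?_
    have hd : MulAut.congr ŵ (conjAut (normalizerIn T A) (hH1 hh).2) ∈
        liftStab (c.bSys.autGroup N') hUN' (autInducedBy S U0) := by
      refine ⟨congr_mem_autGroup hŵ (autInducedBy_le_autGroup ((normalizerIn_le A).trans c.hTS)
        (conjAut_mem_autInducedBy _ hh.1)), _, hwP h hh, fun x => ?_⟩
      obtain ⟨a, rfl⟩ := w.surjective x
      have e1 : Subgroup.inclusion hUN' (w a) = ŵ ⟨(a : Ω), hAN a.2⟩ := Subtype.ext (hŵe a _).symm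
      rw [e1, show MulAut.congr ŵ (conjAut (normalizerIn T A) (hH1 hh).2) (ŵ ⟨(a : Ω), hAN a.2⟩) =
          ŵ (conjAut (normalizerIn T A) (hH1 hh).2 ⟨(a : Ω), hAN a.2⟩) by simp [MulAut.congr],
        show MulAut.congr w (conjAut A hh.2) (w a) = w (conjAut A hh.2 a) by simp [MulAut.congr],
        ← hŵe (conjAut A hh.2 a) (hAN (conjAut A hh.2 a).2)]
      rfl
    convert hfd _ hd using 1
    exact MulEquiv.ext fun x => by simp [MulAut.congr]
  -- from the target
  set H2 := normalizerIn S U0 ⊓ normalizerIn S N' with hH2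
  have hN'S : N' ≤ S := hN'T.trans c.hTS
  have hN'H2 : N' ≤ H2 := le_inf (fun x hx => ⟨hN'S hx, (hN' hx).2⟩) (le_normalizerIn hN'S)
  have hf2 : ExtIso (c.pSys 0) H2 (normalizerIn S N0) f :=
    c.ext_of_induced hN0 f (c.isoIn_bSys_of_pSys hf) hN'H2 inf_le_right fun h hh => hfd _
      ⟨autInducedBy_le_autGroup hN'S (conjAut_mem_autInducedBy _ hh.1.1), conjAut U0 hh.1.2,
        conjAut_mem_autInducedBy hh.1.2 hh.1.1, fun x => rfl⟩
  have hfU := restrict_mem (hf : N0.subtype.comp f.toMonoidHom ∈ (c.pSys 0).Hom N') hUN'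
  set U3 := ((N0.subtype.comp f.toMonoidHom).comp (Subgroup.inclusion hUN')).range with hU3
  set e3 := homIso hfU (rfl : _ = U3) with he3
  have he3D : IsoIn (c.pSys 0) e3 := isoIn_homIso hfU rfl
  have hA3 : ExtIso (c.pSys 0) (normalizerIn S A) (normalizerIn S U3) (w.trans e3) := by
    refine c.exists_restrict_img hg hAN inf_le_right fun a => ?_
    exact congrArg (fun z : N' => (f z : Ω)) (Subtype.ext (hŵe a (hAN a.2)).symm)
  have h23 := c.exists_restrict_img hf2 hUN' (inf_le_left.trans inf_le_right) (e := e3) fun x => rfl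
  have hU3conj : c.bSys.IsConj U0 U3 := isConj_iff.2 ⟨e3, c.isoIn_bSys_of_pSys he3D⟩
  have hU3T : U3 ≤ T := c.le_T_of_bConj hU0T hU3conj
  rcases eq_or_lt_of_le hN' with hNeq | hNlt
  · -- the whole normalizer
    have hH2eq : normalizerIn S U0 ≤ H2 := le_inf le_rfl fun g hg => ⟨hg.1, by
      rw [hNeq]
      exact mem_normalizer_inter (stronglyClosed_le_normalizer c.sc hg.1) (Subgroup.le_normalizer hg.2)⟩
    have h3 := h23.mono (le_normalizerIn hU0S) hH2eq le_rfl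
    have hcT : Nat.card (normalizerIn T U3) = Nat.card (normalizerIn T U0) := by
      refine le_antisymm (hmax.1.2 U3 hU3conj) ?_
      obtain ⟨hU0', ψ, hψ, hv, -⟩ := h3
      have hTU : normalizerIn T U0 ≤ normalizerIn S U0 := inf_le_inf_right _ c.hTS
      haveI := finite_of_le (normalizerIn_le (S := T) U3)
      exact Nat.card_le_card_of_injective (fun t : normalizerIn T U0 => (⟨ψ (Subgroup.inclusion hTU t),
        stronglyClosed_apply_mem c.sc (c.pSys_sub 0 _ hψ) (x := Subgroup.inclusion hTU t) t.2.1, (hv _).2⟩ :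
          normalizerIn T U3)) fun a b hab => Subgroup.inclusion_injective hTU
        ((c.pSys 0).injective_of_mem hψ (congrArg Subtype.val hab))
    have hsymm := h3.symm_of_card (normalizerIn_le U3) (hmax.2 U3 hU3conj hcT)
    exact ⟨_, hA3.trans hsymm⟩
  -- a strictly bigger position
  have hcN : Nat.card (normalizerIn T A) < Nat.card (normalizerIn T U3) := by
    set T' := normalizerIn (normalizerIn T U0) N' with hT'
    have hN''S : normalizerIn T U0 ≤ S := (normalizerIn_le U0).trans c.hTS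
    haveI := finite_of_le hN''S
    have hlt' : N' < T' := lt_normalizerIn (c.pS.to_le hN''S) hNlt
    have hT'H : T' ≤ H2 := fun g hg => ⟨⟨hN''S hg.1, hg.1.2⟩, hN''S hg.1, hg.2⟩
    haveI := finite_of_le ((normalizerIn_le N').trans hN''S : T' ≤ S)
    have h1 : Nat.card N' < Nat.card T' := by
      by_contra hh
      exact hlt'.ne (Subgroup.eq_of_le_of_card_ge hlt'.le (not_lt.1 hh))
    have h2 : ExtIso (c.pSys 0) T' (normalizerIn T U3) e3 :=
      (h23.mono (hUN'.trans hlt'.le) hT'H le_rfl).into fun ψ hψ x hx =>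
        ⟨stronglyClosed_apply_mem c.sc (c.pSys_sub 0 _ hψ) (x := x) x.2.1.1, hx.2⟩
    have h3 := h2.card_le ((normalizerIn_le U3).trans c.hTS)
    have h4 := Nat.card_congr ŵ.toEquiv
    omega
  have hT3 : Nat.card (normalizerIn T U3) ≤ Nat.card T := card_le_of_le (normalizerIn_le U3)
  obtain ⟨θ3, hθ3⟩ := ih (Nat.card T - Nat.card (normalizerIn T U3)) (by omega) U3 hU3conj (by omega)
  exact ⟨_, hA3.trans hθ3⟩

theorem exists_goodU_aux : ∀ (n : ℕ) (A : Subgroup Ω), UCentric F T A → Nat.card T ≤ Nat.card A + n →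
    ∃ U, c.GoodU U ∧ c.bSys.IsConj U A := by
  intro n
  induction n using Nat.strong_induction_on with
  | _ n ih =>
  intro A hA hn
  obtain ⟨U, hAU, hmax⟩ := c.exists_pMax hA.1
  have hU : UCentric F T U := hA.of_conj c.sc (by
    obtain ⟨φ, hφ, hr⟩ := hAU
    exact ⟨φ, hφ.1, hr⟩)
  have hIH : ∀ N, UCentric F T N → Nat.card U < Nat.card N → ∃ N0, c.GoodU N0 ∧ c.bSys.IsConj N0 N := by
    intro N hN hcard
    haveI := finite_of_le c.hTS
    have h1 : Nat.card N ≤ Nat.card T := card_le_of_le hN.1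
    rw [← card_eq_of_isConj hAU] at hcard
    exact ih (Nat.card T - Nat.card N) (by omega) N hN (by omega)
  have hK := c.aut_le_k0_step hU hmax hIH
  exact ⟨U, ⟨hmax, hU, hK, c.reach_step hU hmax hK hIH⟩, isConj_symm hAU⟩

/-- Every self-centralizing class has a good member. -/
theorem exists_goodU {A : Subgroup Ω} (hA : UCentric F T A) : ∃ U, c.GoodU U ∧ c.bSys.IsConj U A :=
  c.exists_goodU_aux _ A hA (Nat.le_add_left _ _)

end ProdCtx

end Cfsg.Lib.FusionSys
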