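import Cfsg.Agent.Lib.FusionSys.ProductER.ExtGen
import Cfsg.Agent.Lib.FusionSys.ProductER.Focal
import Cfsg.Agent.Lib.FusionSys.ProductER.Reach

/-!
The classes of the subgroups meeting `T` in a self-centralizing subgroup: a member with largest normalizer has the
conjugations as a Sylow subgroup of its expected automizer, and is receptive.
-/

set_option autoImplicit false
set_option linter.style.haveILetI false
set_option maxHeartbeats 800000

namespace Cfsg.Lib.FusionSys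

open Cfsg Cfsg.FusionSystem
open scoped Pointwise

variable {Ω : Type*} [Group Ω] {S T : Subgroup Ω} {F : FusionSystem S} {E : FusionSystem T} {p : ℕ}

namespace ProdCtx

variable (c : ProdCtx F E p)
include c

/-- An isomorphism in the bounding system gives one of the intersections with `T`. -/
theorem inter_conj_bSys {M N : Subgroup Ω} {e : M ≃* N} (he : IsoIn c.bSys e) :
    c.bSys.IsConj (M ⊓ T) (N ⊓ T) := by
  have heF := c.isoIn_of_bSys he
  refine ⟨_, restrict_mem (he : N.subtype.comp e.toMonoidHom ∈ c.bSys.Hom M) (inf_le_left : M ⊓ T ≤ M), ?_⟩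
  ext y
  constructor
  · rintro ⟨x, rfl⟩
    exact ⟨(e _).2, stronglyClosed_apply_mem c.sc heF (x := Subgroup.inclusion inf_le_left x) x.2.2⟩
  · intro hy
    refine ⟨⟨_, (e.symm ⟨y, hy.1⟩).2, stronglyClosed_apply_mem c.sc heF.symm (x := ⟨y, hy.1⟩) hy.2⟩, ?_⟩
    exact congrArg Subtype.val (e.apply_symm_apply ⟨y, hy.1⟩)

/-- The image meets `T` in the image of the intersection. -/
theorem inter_image {M B U0 : Subgroup Ω} {e : M ≃* B} (he : IsoIn F e) (θ : ↥(M ⊓ T) ≃* U0) (hU0 : U0 ≤ T)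
    (h : ∀ x : ↥(M ⊓ T), (e (Subgroup.inclusion inf_le_left x) : Ω) = (θ x : Ω)) : B ⊓ T = U0 := by
  ext y
  constructor
  · intro hy
    have hx := stronglyClosed_apply_mem c.sc he.symm (x := ⟨y, hy.1⟩) hy.2
    have h1 := h ⟨_, (e.symm ⟨y, hy.1⟩).2, hx⟩
    have h2 : Subgroup.inclusion (inf_le_left : M ⊓ T ≤ M) ⟨_, (e.symm ⟨y, hy.1⟩).2, hx⟩ = e.symm ⟨y, hy.1⟩ :=
      Subtype.ext rfl
    rw [h2, MulEquiv.apply_symm_apply] at h1
    rw [show y = (θ ⟨_, (e.symm ⟨y, hy.1⟩).2, hx⟩ : Ω) from h1]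
    exact (θ _).2
  · intro hy
    refine ⟨?_, hU0 hy⟩
    have h1 := h (θ.symm ⟨y, hy⟩)
    rw [MulEquiv.apply_symm_apply] at h1
    rw [show y = (e (Subgroup.inclusion inf_le_left (θ.symm ⟨y, hy⟩)) : Ω) from h1.symm]
    exact (e _).2

variable [Finite S] [Fact p.Prime]

/-- Moving a member to one meeting `T` in the chosen subgroup. -/
theorem exists_toU0 {U0 M : Subgroup Ω} (hU : c.GoodU U0) (hM : M ≤ S) (hb : c.bSys.IsConj U0 (M ⊓ T)) :
    ∃ (B : Subgroup Ω) (e : M ≃* B), ExtIso (c.pSys 0) (normalizerIn S M) (normalizerIn S B) e ∧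
      B ⊓ T = U0 := by
  obtain ⟨θ, hA, ψ, hψ, -, hψe⟩ := hU.reach _ hb
  have hNN : normalizerIn S M ≤ normalizerIn S (M ⊓ T) := fun g hg =>
    ⟨hg.1, mem_normalizer_inter hg.2 (stronglyClosed_le_normalizer c.sc hg.1)⟩
  obtain ⟨B, e, he, -, -, -, hn, hev⟩ :=
    exists_image_iso (A := M) (restrict_mem hψ hNN) (le_normalizerIn hM)
  refine ⟨B, e, he.mono he.1 le_rfl (le_inf ?_ (hn inf_le_right)), ?_⟩
  · rintro _ ⟨x, rfl⟩
    exact hom_mem (restrict_mem hψ hNN) x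
  · exact c.inter_image (c.isoIn_of_pSys he.isoIn) θ hU.uc.1 fun x =>
      (hev _).trans (hψe x x.2 (hNN (le_normalizerIn hM x.2.1)))

/-- A member with largest normalizer meeting `T` in a good subgroup. -/
theorem exists_class_max {R : Subgroup Ω} (hR : InH F T R) :
    ∃ Qd, (c.pSys 0).IsConj R Qd ∧ InH F T Qd ∧ c.GoodU (Qd ⊓ T) ∧
      ∀ A, (c.pSys 0).IsConj Qd A → Nat.card (normalizerIn S A) ≤ Nat.card (normalizerIn S Qd) := by
  classical
  obtain ⟨U0, hU0, hU0R⟩ := c.exists_goodU hR.2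
  obtain ⟨Qd, hQd, hmax⟩ := exists_max_conj (F := c.pSys 0) hR.1
    (fun Q => if Q ⊓ T = U0 then Nat.card (normalizerIn S Q) else 0) fun Q _ => by
      split
      · exact card_le_of_le (normalizerIn_le Q)
      · exact Nat.zero_le _
  have key : ∀ A, (c.pSys 0).IsConj R A → ∃ B, (c.pSys 0).IsConj R B ∧ B ⊓ T = U0 ∧
      Nat.card (normalizerIn S A) ≤ Nat.card (normalizerIn S B) := by
    intro A hA
    obtain ⟨e, he⟩ := isConj_iff.1 hA
    obtain ⟨B, f, hf, hB⟩ := c.exists_toU0 hU0 (isConj_le hA).2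
      (isConj_trans hU0R (c.inter_conj_bSys (c.isoIn_bSys_of_pSys he)))
    exact ⟨B, isConj_trans hA (isConj_iff.2 ⟨f, hf.isoIn⟩), hB, hf.card_le (normalizerIn_le B)⟩
  obtain ⟨B, hB, hBU, -⟩ := key R (isConj_refl _ hR.1)
  have hQU : Qd ⊓ T = U0 := by
    by_contra hne
    have h1 := hmax B hB
    rw [if_pos hBU, if_neg hne] at h1
    haveI := finite_of_le ((normalizerIn_le (S := S) B))
    exact Nat.card_pos.ne' (Nat.le_zero.1 h1)
  obtain ⟨e, he⟩ := isConj_iff.1 hQd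
  refine ⟨Qd, hQd, c.inH_of_iso (c.isoIn_of_pSys he) hR, hQU.symm ▸ hU0, fun A hA => ?_⟩
  obtain ⟨B', hB', hB'U, hle⟩ := key A (isConj_trans hQd hA)
  have h1 := hmax B' hB'
  rw [if_pos hB'U, if_pos hQU] at h1
  exact hle.trans h1

/-- The expected automizer acts on the intersection with `T` through the expected automizer there. -/
theorem kM_le_liftStab {M : Subgroup Ω} (hM : M ≤ S) :
    kM F E p M ≤ liftStab (F.autGroup M) (inf_le_left : M ⊓ T ≤ M) (c.k0 (M ⊓ T)) := by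
  refine sup_le (fun a ha => ?_) fun a ha => ?_
  · obtain ⟨haF, -, b, hb, hbe⟩ := aGenP_le_bAut M ha
    exact ⟨haF, b, c.autE_le_k0 _ hb, hbe⟩
  · obtain ⟨g, hg, hge⟩ := mem_autInducedBy.1 ha
    have hgn := mem_normalizer_inter (mem_normalizer_of_aut hge) (stronglyClosed_le_normalizer c.sc hg)
    exact ⟨autInducedBy_le_autGroup hM ha, _,
      c.autInducedBy_le_k0 _ (conjAut_mem_autInducedBy hgn hg), fun x => hge _⟩

/-- The data needed at a member for receptivity. -/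
structure GoodM (c : ProdCtx F E p) (Qd : Subgroup Ω) : Prop where
  inH : InH F T Qd
  sylow : ∃ W : Sylow p (kM F E p Qd), (W : Subgroup (kM F E p Qd)) = (autInducedBy S Qd).subgroupOf (kM F E p Qd)
  low : aGenP F E p Qd ⊓ autInducedBy S Qd ≤ autInducedBy T Qd

/-- At a member with largest normalizer the conjugations form a Sylow subgroup of the expected automizer. -/
theorem goodM_of_max {Qd : Subgroup Ω} (hQ : InH F T Qd) (hU : c.GoodU (Qd ⊓ T))
    (hmax : ∀ A, (c.pSys 0).IsConj Qd A → Nat.card (normalizerIn S A) ≤ Nat.card (normalizerIn S Qd)) :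
    c.GoodM Qd := by
  classical
  have hQS := hQ.1
  have hUQ : Qd ⊓ T ≤ Qd := inf_le_left
  have hUT : Qd ⊓ T ≤ T := inf_le_right
  have hUS : Qd ⊓ T ≤ S := hUQ.trans hQS
  haveI := finite_mulAut_of_le hQS
  haveI := finite_mulAut_of_le hUS
  set N := normalizerIn S Qd with hN
  have hNS : N ≤ S := normalizerIn_le Qd
  have hUN : Qd ⊓ T ≤ N := hUQ.trans (le_normalizerIn hQS)
  have hNU : N ≤ Subgroup.normalizer ((Qd ⊓ T : Subgroup Ω) : Set Ω) := fun g hg =>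
    mem_normalizer_inter hg.2 (stronglyClosed_le_normalizer c.sc hg.1)
  obtain ⟨W, hW⟩ := ((isPGroup_autInducedBy (P := Qd) c.pS).comap_subtype :
    IsPGroup p ((autInducedBy S Qd).subgroupOf (kM F E p Qd))).exists_le_sylow
  have hstab : ∀ k : kM F E p Qd, (k : MulAut Qd) ∈ stabAut F Qd (Qd ⊓ T) := fun k => by
    have hkF := kM_le_autGroup hQS k.2
    refine ⟨hkF, fun x => ⟨fun hx => ⟨((k : MulAut Qd) x).2, stronglyClosed_aut_mem c.sc hkF hQS hx.2⟩,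
      fun hx => ⟨x.2, ?_⟩⟩⟩
    have h := stronglyClosed_aut_mem c.sc (inv_mem hkF) hQS (x := (k : MulAut Qd) x) hx.2
    rwa [MulAut.inv_apply_self] at h
  let ρ : kM F E p Qd →* MulAut ↥(Qd ⊓ T) :=
    (restrAut (F := F) hUQ).comp ((kM F E p Qd).subtype.codRestrict (stabAut F Qd (Qd ⊓ T)) hstab)
  have hρ : ∀ (k : kM F E p Qd) (x : ↥(Qd ⊓ T)),
      (ρ k x : Ω) = ((k : MulAut Qd) (Subgroup.inclusion hUQ x) : Ω) := fun k x => coe_restrAut hUQ _ x
  have hρk : ∀ k, ρ k ∈ c.k0 (Qd ⊓ T) := fun k => by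
    obtain ⟨-, q, hq, hqe⟩ := c.kM_le_liftStab hQS k.2
    rwa [show ρ k = q from MulEquiv.ext fun x => Subtype.ext ((hρ k x).trans (hqe x))]
  obtain ⟨W0, hW0⟩ := c.sylow_k0 hU.pmax.1
  obtain ⟨W1, hW1⟩ := ((W.isPGroup'.map ρ).comap_subtype :
    IsPGroup p (((W : Subgroup (kM F E p Qd)).map ρ).subgroupOf (c.k0 (Qd ⊓ T)))).exists_le_sylow
  obtain ⟨γ, hγ⟩ := MulAction.exists_smul_eq (c.k0 (Qd ⊓ T)) W1 W0
  have hγS : ∀ k ∈ (W : Subgroup (kM F E p Qd)),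
      (γ : MulAut ↥(Qd ⊓ T)) * ρ k * (γ : MulAut ↥(Qd ⊓ T))⁻¹ ∈ autInducedBy S (Qd ⊓ T) := by
    intro k hk
    have h1 : γ * ⟨ρ k, hρk k⟩ * γ⁻¹ ∈ (W0 : Subgroup (c.k0 (Qd ⊓ T))) := by
      rw [← hγ, Sylow.coe_subgroup_smul]
      exact Subgroup.smul_mem_pointwise_smul _ (MulAut.conj γ) _ (hW1 (Subgroup.mem_subgroupOf.2 ⟨k, hk, rfl⟩))
    rw [hW0, Subgroup.mem_subgroupOf] at h1
    exact h1
  set X := autInducedBy N (Qd ⊓ T) with hX
  have hXγ : X.map (MulAut.conj (γ : MulAut ↥(Qd ⊓ T))).toMonoidHom ≤ autInducedBy S (Qd ⊓ T) := by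
    rintro _ ⟨d, hd, rfl⟩
    obtain ⟨g, hg, hge⟩ := mem_autInducedBy.1 hd
    let k : kM F E p Qd := ⟨conjAut Qd hg.2, autInducedBy_le_kM Qd (conjAut_mem_autInducedBy hg.2 hg.1)⟩
    have hk : k ∈ (W : Subgroup (kM F E p Qd)) :=
      hW (Subgroup.mem_subgroupOf.2 (conjAut_mem_autInducedBy hg.2 hg.1))
    rw [show d = ρ k from MulEquiv.ext fun x => Subtype.ext ((hge x).trans (hρ k x).symm)]
    exact hγS k hk
  have hext := c.extIso_conj_induced hU.uc hU.pmax.1 _ X γ (Nat.le_add_left _ _) (inn_le_autInducedBy hUN)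
    (autInducedBy_mono hNS) γ.2 hXγ
  have hNX : N ≤ nK S (Qd ⊓ T) X := fun g hg =>
    mem_nK.2 ⟨hg.1, _, conjAut_mem_autInducedBy (hNU hg) hg, fun q => rfl⟩
  obtain ⟨-, ψ, hψ, -, hψe⟩ := hext.mono hUN hNX le_rfl
  obtain ⟨Qd', e, he₀, -, -, -, hn, hev⟩ := exists_image_iso (A := Qd) hψ (le_normalizerIn hQS)
  have he : ExtIso (c.pSys 0) N (normalizerIn S Qd') e :=
    he₀.mono he₀.1 le_rfl (le_inf (by rintro _ ⟨x, rfl⟩; exact hom_mem hψ x) (hn inf_le_right))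
  have heF : IsoIn F e := c.isoIn_of_pSys he.isoIn
  have hγe : ∀ x : ↥(Qd ⊓ T), (e (Subgroup.inclusion hUQ x) : Ω) = ((γ : MulAut ↥(Qd ⊓ T)) x : Ω) :=
    fun x => (hev _).trans (hψe x x.2 (hUN x.2))
  have hQ'U : Qd' ⊓ T = Qd ⊓ T := c.inter_image heF (γ : MulAut ↥(Qd ⊓ T)) hUT hγe
  have hsymm := he.symm_of_card (normalizerIn_le Qd') (hmax Qd' (isConj_iff.2 ⟨e, he.isoIn⟩))
  have hγF : IsoIn F ((γ : MulAut ↥(Qd ⊓ T)) : ↥(Qd ⊓ T) ≃* ↥(Qd ⊓ T)) :=
    c.isoIn_of_pSys ((mem_autGroup hUS).1 (c.k0_le_pSys hUT γ.2))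
  -- the Sylow subgroup of the generators acts on the intersection as conjugation in `T`
  have htl : ∀ k ∈ (W : Subgroup (kM F E p Qd)), (k : MulAut Qd) ∈ aGenP F E p Qd →
      TLike T Qd (k : MulAut Qd) := by
    intro k hk hkA
    obtain ⟨-, -, b, hb, hbe⟩ := aGenP_le_bAut Qd hkA
    have hρb : ρ k = b := MulEquiv.ext fun x => Subtype.ext ((hρ k x).trans (hbe x))
    have hγk : (γ : MulAut ↥(Qd ⊓ T)) * ρ k * (γ : MulAut ↥(Qd ⊓ T))⁻¹ ∈ E.autGroup (Qd ⊓ T) :=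
      congr_mem_invariant c.inv hUT hγF (hρb.symm ▸ hb)
    obtain ⟨t, ht, hte⟩ := mem_autInducedBy.1 (mem_autInducedBy_of_sylow c.pS c.hTS c.satE
      (c.fnE_of_pMaxT hU.pmax.1) hγk (hγS k hk))
    have hact : ∀ u : Qd', (u : Ω) ∈ T →
        ((MulAut.congr e (k : MulAut Qd)) u : Ω) = t * (u : Ω) * t⁻¹ := by
      intro u hu
      obtain ⟨x, rfl⟩ := e.surjective u
      have hx : (x : Ω) ∈ T := by
        have h := stronglyClosed_apply_mem c.sc heF.symm (x := e x) hu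
        change ((e.symm (e x) : Qd) : Ω) ∈ T at h
        rwa [MulEquiv.symm_apply_apply] at h
      let x' : ↥(Qd ⊓ T) := ⟨x, x.2, hx⟩
      rw [show MulAut.congr e (k : MulAut Qd) (e x) = e ((k : MulAut Qd) x) by simp [MulAut.congr],
        show (k : MulAut Qd) x = Subgroup.inclusion hUQ (ρ k x') from Subtype.ext (hρ k x').symm,
        hγe, show (e x : Ω) = _ from hγe x', ← hte ((γ : MulAut ↥(Qd ⊓ T)) x')]
      simp [MulAut.mul_apply]
    have htn : t ∈ Subgroup.normalizer (Qd' : Set Ω) := c.tlike_normalizes (c.inH_of_iso heF hQ)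
      (aGenP_le_bAut Qd' (c.aGenP_congr heF hkA)) ht hact
    obtain ⟨hA', χ, hχ, -, hχe⟩ := id hsymm
    refine ⟨χ ⟨t, c.hTS ht, htn⟩, stronglyClosed_apply_mem c.sc (c.pSys_sub 0 _ hχ) (x := ⟨t, c.hTS ht, htn⟩) ht,
      fun x hx => ?_⟩
    have h1 := hact (e x) (stronglyClosed_apply_mem c.sc heF (x := x) hx)
    rw [show MulAut.congr e (k : MulAut Qd) (e x) = e ((k : MulAut Qd) x) by simp [MulAut.congr]] at h1
    have hχx : ∀ z : Qd, χ ⟨(e z : Ω), hA' (e z).2⟩ = (z : Ω) := fun z =>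
      (hχe _ (e z).2 (hA' (e z).2)).trans (by simp)
    rw [← hχx ((k : MulAut Qd) x), ← hχx x, ← map_inv, ← map_mul, ← map_mul]
    exact congrArg χ (Subtype.ext h1)
  -- the focal argument
  haveI : ((aGenP F E p Qd).subgroupOf (kM F E p Qd)).Normal := ⟨fun a ha g =>
    c.aGenP_normal hQS ha (kM_le_autGroup hQS g.2)⟩
  obtain ⟨R₁, hR₁⟩ := exists_sylow_of_normal W ((aGenP F E p Qd).subgroupOf (kM F E p Qd))
  set i := Subgroup.subgroupOfEquivOfLe (aGenP_le_kM (F := F) (E := E) (p := p) Qd) with hi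
  let R₂ : Sylow p (aGenP F E p Qd) := R₁.mapSurjective (f := i.toMonoidHom) i.surjective
  have hR₂ : ∀ x ∈ (R₂ : Subgroup (aGenP F E p Qd)), TLike T Qd (x : MulAut Qd) := by
    rintro _ ⟨y, hy, rfl⟩
    rw [SetLike.mem_coe, hR₁, Subgroup.mem_subgroupOf] at hy
    exact htl (y : kM F E p Qd) hy y.2
  have hlow : ∀ k ∈ (W : Subgroup (kM F E p Qd)), (k : MulAut Qd) ∈ aGenP F E p Qd →
      (k : MulAut Qd) ∈ autInducedBy T Qd := fun k hk hkA => c.focal hQ hR₂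
    ⟨⟨k, hkA⟩, ⟨⟨k, hkA⟩, by rw [SetLike.mem_coe, hR₁, Subgroup.mem_subgroupOf]; exact hk, Subtype.ext rfl⟩, rfl⟩
  refine ⟨hQ, ⟨W, le_antisymm (fun k hk => ?_) hW⟩, fun a ha =>
    hlow ⟨a, autInducedBy_le_kM Qd ha.2⟩ (hW (Subgroup.mem_subgroupOf.2 ha.2)) ha.1⟩
  obtain ⟨a, ha, s, hs, hks⟩ := c.exists_mul_kM hQS k.2
  have haW : (⟨a, aGenP_le_kM Qd ha⟩ : kM F E p Qd) ∈ (W : Subgroup (kM F E p Qd)) := by
    have h := mul_mem hk (inv_mem (hW (Subgroup.mem_subgroupOf.2 hs :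
      (⟨s, autInducedBy_le_kM Qd hs⟩ : kM F E p Qd) ∈ _)))
    convert h using 1
    refine Subtype.ext ?_
    show a = (k : MulAut Qd) * s⁻¹
    rw [hks, mul_inv_cancel_right]
  rw [Subgroup.mem_subgroupOf, hks]
  exact mul_mem (autInducedBy_mono c.hTS (hlow _ haW ha)) hs

/-- An automorphism of order prime to `p` of the expected automizer extends to the elements inducing the induced
automorphisms it normalizes. -/
theorem extIso_coprime_kM {Qd : Subgroup Ω} (hQ : c.GoodM Qd) {X : Subgroup (MulAut Qd)}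
    (hI : Inn Qd ≤ X) (hX : X ≤ autInducedBy S Qd) {b : MulAut Qd} (hb : b ∈ kM F E p Qd)
    (hcop : (orderOf b).Coprime p) (hbX : ∀ k ∈ X, b * k * b⁻¹ ∈ X) :
    ExtIso (c.pSys 0) (nK S Qd X) (nK S Qd X) (b : Qd ≃* Qd) := by
  classical
  have hQS := hQ.inH.1
  have hbA := c.mem_aGenP_of_coprime hQS (c.autGroup_pSys_le_bSys 0 hQS (c.kM_le_pSys hQ.inH hb)) hcop
  have hbb := aGenP_le_bAut Qd hbA
  obtain ⟨-, hbm, b₀, hb₀, hb₀e⟩ := id hbb
  have hb₀c : (orderOf b₀).Coprime p := coprime_of_pow_eq_one hcop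
    (aut_pow_eq_one (inf_le_left : Qd ⊓ T ≤ Qd) (fun x => (hb₀e x).symm) (pow_orderOf_eq_one b))
  set M := nK S Qd X with hM
  have hMS : M ≤ S := nK_le X
  haveI := finite_of_le hMS
  have hQM : Qd ≤ M := fun g hg => mem_nK.2 ⟨hQS hg, MulAut.conj ⟨g, hg⟩, hI ⟨_, rfl⟩, fun q => rfl⟩
  have hUM : Qd ⊓ T ≤ M := inf_le_left.trans hQM
  have hMn : M ≤ Subgroup.normalizer ((Qd ⊓ T : Subgroup Ω) : Set Ω) := fun g hg =>
    mem_normalizer_inter (nK_normalizes hg) (stronglyClosed_le_normalizer c.sc (hMS hg))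
  have hact : ActsMod T M b₀ := by
    intro g hg
    obtain ⟨hgS, k, hk, hke⟩ := mem_nK.1 hg
    have hk' := hbX k hk
    have hd : b * k * b⁻¹ * k⁻¹ ∈ aGenP F E p Qd := by
      rw [show b * k * b⁻¹ * k⁻¹ = b * (k * b⁻¹ * k⁻¹) by group]
      exact mul_mem hbA (c.aGenP_normal hQS (inv_mem hbA) (autInducedBy_le_autGroup hQS (hX hk)))
    obtain ⟨t, ht, hte⟩ := mem_autInducedBy.1 (hQ.low ⟨hd, hX (mul_mem hk' (inv_mem hk))⟩)
    have hval : ∀ q : Qd, ((b * k * b⁻¹) q : Ω) = t * g * (q : Ω) * (t * g)⁻¹ := fun q => by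
      have h := hte (k q)
      rw [MulAut.mul_apply, MulAut.inv_apply_self, hke] at h
      rw [h]
      group
    refine ⟨t * g, mem_nK.2 ⟨S.mul_mem (c.hTS ht) hgS, _, hk', hval⟩, ?_, fun x hx => ?_⟩
    · rw [← mul_assoc]
      exact c.tmem_conj' hgS ht
    · rw [← hb₀e, ← hb₀e, ← hval (b (Subgroup.inclusion inf_le_left x)),
        show (Subgroup.inclusion inf_le_left (⟨_, hx⟩ : ↥(Qd ⊓ T)) : Qd) = k (Subgroup.inclusion inf_le_left x) from
          Subtype.ext (hke (Subgroup.inclusion inf_le_left x)).symm, MulAut.mul_apply, MulAut.mul_apply, MulAut.inv_apply_self]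
  obtain ⟨a, ha, hac, hae⟩ := c.exists_bAut_ext hQ.inH.2 hUM hMS hMn hb₀ hb₀c hact
  have hMH : InH F T M := c.inH_of_le hQ.inH.2 hUM hMS
  -- the extension stabilizes the member
  have haQ : ∀ q : Qd, (a (Subgroup.inclusion hQM q) : Ω) ∈ Qd := by
    intro q
    have hd : (b q : Ω)⁻¹ * (a (Subgroup.inclusion hQM q) : Ω) ∈ centralizerIn T (Qd ⊓ T) := by
      refine mem_centralizerIn.2 ⟨?_, fun v hv => ?_⟩
      · have h := T.mul_mem (T.inv_mem (hbm q)) (ha.2.1 (Subgroup.inclusion hQM q))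
        convert h using 1
        show _ = ((q : Ω)⁻¹ * (b q : Ω))⁻¹ * ((q : Ω)⁻¹ * _)
        group
      · obtain ⟨u, hu⟩ := b₀.surjective ⟨v, hv⟩
        have hqu : (q : Ω) * u * (q : Ω)⁻¹ ∈ Qd ⊓ T :=
          (Subgroup.mem_normalizer_iff.1 (hMn (hQM q.2)) u).1 u.2
        have h1 := hae ⟨_, hqu⟩
        rw [show Subgroup.inclusion hUM ⟨_, hqu⟩ = Subgroup.inclusion hQM q * Subgroup.inclusion hUM u *
            (Subgroup.inclusion hQM q)⁻¹ from Subtype.ext rfl, map_mul, map_mul, map_inv, Subgroup.coe_mul,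
          Subgroup.coe_mul, Subgroup.coe_inv, hae u, hu, ← hb₀e,
          show Subgroup.inclusion (inf_le_left : Qd ⊓ T ≤ Qd) ⟨_, hqu⟩ =
            q * Subgroup.inclusion inf_le_left u * q⁻¹ from Subtype.ext rfl, map_mul, map_mul, map_inv,
          Subgroup.coe_mul, Subgroup.coe_mul, Subgroup.coe_inv, hb₀e, hu] at h1
        calc (b q : Ω)⁻¹ * (a (Subgroup.inclusion hQM q) : Ω) * v
            = (b q : Ω)⁻¹ * ((a (Subgroup.inclusion hQM q) : Ω) * v * (a (Subgroup.inclusion hQM q) : Ω)⁻¹) *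
                (a (Subgroup.inclusion hQM q) : Ω) := by group
          _ = v * ((b q : Ω)⁻¹ * (a (Subgroup.inclusion hQM q) : Ω)) := by rw [h1]; group
    rw [show (a (Subgroup.inclusion hQM q) : Ω) =
      (b q : Ω) * ((b q : Ω)⁻¹ * (a (Subgroup.inclusion hQM q) : Ω)) by group]
    exact mul_mem (b q).2 ((hQ.inH.2.self c.sc) hd).1
  obtain ⟨a₂, ha₂F, ha₂e⟩ := exists_aut_restrict hMS ha.1 hQM haQ
  have ha₂ : a₂ ∈ bAut F E Qd :=
    ⟨ha₂F, fun x => by rw [ha₂e]; exact ha.2.1 (Subgroup.inclusion hQM x), b₀, hb₀,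
      fun x => (ha₂e _).trans (hae x)⟩
  have ha₂c : (orderOf a₂).Coprime p :=
    coprime_of_pow_eq_one hac (aut_pow_eq_one hQM ha₂e (pow_orderOf_eq_one a))
  obtain ⟨v, hv, hve⟩ := c.rigid_conj hQS hQ.inH.2 ha₂ ha₂c hbb hcop fun x hx =>
    Subtype.ext (((ha₂e x).trans (hae ⟨x, x.2, hx⟩)).trans (hb₀e ⟨x, x.2, hx⟩).symm)
  obtain ⟨z, hz, hze⟩ := mem_autInducedBy.1 hv
  have hzM : z ∈ M := hUM (mem_centralizerIn.1 hz).1
  have hzn : z ∈ Subgroup.normalizer (M : Set Ω) := Subgroup.le_normalizer hzM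
  set γ := conjAut M hzn with hγ
  have hγ1 : γ ∈ (c.pSys 0).autGroup M :=
    autInducedBy_le_autGroup hMS (conjAut_mem_autInducedBy hzn (hMS hzM))
  have he : γ * a * γ⁻¹ ∈ (c.pSys 0).autGroup M :=
    mul_mem (mul_mem hγ1 (c.aGenP_le_pSys hMH (Subgroup.subset_closure ⟨ha, hac⟩))) (inv_mem hγ1)
  refine ⟨hQM, _, (mem_autGroup hMS).1 he, fun x => ((γ * a * γ⁻¹) x).2, fun x hx hT' => ?_⟩
  obtain ⟨y, hy⟩ : ∃ y, v y = ⟨x, hx⟩ := ⟨_, v.surjective ⟨x, hx⟩ |>.choose_spec⟩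
  have hγy : γ (Subgroup.inclusion hQM y) = ⟨x, hT'⟩ :=
    Subtype.ext ((hze y).symm.trans (congrArg Subtype.val hy))
  show ((γ * a * γ⁻¹) ⟨x, hT'⟩ : Ω) = (b ⟨x, hx⟩ : Ω)
  rw [← hy, ← hγy, hve]
  simp only [MulAut.mul_apply, MulAut.inv_apply_self]
  rw [hze]
  show z * (a (Subgroup.inclusion hQM y) : Ω) * z⁻¹ = _
  rw [← ha₂e]

/-- Elements of the automizer extend as far as they carry induced automorphisms to induced ones. -/
theorem extIso_conj_induced_kM {Qd : Subgroup Ω} (hQ : c.GoodM Qd) :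
    ∀ (m : ℕ) (X : Subgroup (MulAut Qd)) (b : MulAut Qd),
      Nat.card (autInducedBy S Qd) ≤ Nat.card X + m → Inn Qd ≤ X →
      X ≤ autInducedBy S Qd → b ∈ kM F E p Qd →
      X.map (MulAut.conj b).toMonoidHom ≤ autInducedBy S Qd →
      ExtIso (c.pSys 0) (nK S Qd X) S (b : Qd ≃* Qd) := by
  set P := autInducedBy S Qd with hPdef
  have hQS := hQ.inH.1
  haveI := finite_of_le hQS
  haveI : Finite (MulAut Qd) := Finite.of_injective (fun f => (f : Qd → Qd)) DFunLike.coe_injective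
  have hPp : IsPGroup p P := isPGroup_autInducedBy (c.pS)
  have hPK : P ≤ kM F E p Qd := autInducedBy_le_kM Qd
  obtain ⟨W, hW⟩ := hQ.sylow
  intro m
  induction m using Nat.strong_induction_on with
  | _ m ih =>
  intro X b hm hI hX hb hbX
  have hQX : Qd ≤ nK S Qd X := fun g hg =>
    mem_nK.2 ⟨hQ.inH.1 hg, MulAut.conj ⟨g, hg⟩, hI ⟨_, rfl⟩, fun q => rfl⟩
  have hcard : ∀ (Y : Subgroup (MulAut Qd)) (a : MulAut Qd),
      Nat.card (Y.map (MulAut.conj a).toMonoidHom) = Nat.card Y := fun Y a =>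
    Nat.card_congr (Subgroup.equivMapOfInjective Y _ (MulAut.conj a).injective).toEquiv.symm
  rcases lt_or_eq_of_le hX with hlt | heq
  swap
  · -- the automorphism normalizes the Sylow subgroup
    have hnorm : X.map (MulAut.conj b).toMonoidHom = X := Subgroup.eq_of_le_of_card_ge (hbX.trans heq.ge) (hcard X b).ge
    have hbn : b ∈ Subgroup.normalizer (X : Set (MulAut Qd)) :=
      Subgroup.mem_normalizer_fintype fun k hk => hnorm.le ⟨k, hk, rfl⟩
    obtain ⟨i, j, hij, hi, l, hl⟩ := exists_coprime_parts (p := p) b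
    have hjP : b ^ j ∈ X := by
      let y : kM F E p Qd := ⟨b ^ j, pow_mem hb j⟩
      have hy : IsPGroup p (Subgroup.zpowers y) :=
        IsPGroup.iff_card.2 ⟨l, by rw [Nat.card_zpowers, ← Subgroup.orderOf_coe]; exact hl⟩
      have hyn : y ∈ Subgroup.normalizer ((W : Subgroup (kM F E p Qd)) : Set (kM F E p Qd)) := by
        refine Subgroup.mem_normalizer_fintype fun k hk => ?_
        rw [SetLike.mem_coe, hW, Subgroup.mem_subgroupOf, ← hPdef, ← heq] at hk ⊢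
        exact (Subgroup.mem_normalizer_iff.1 (pow_mem hbn j) _).1 hk
      have h1 : y ∈ Subgroup.zpowers y ⊓ (W : Subgroup (kM F E p Qd)) :=
        hy.inf_normalizer_sylow W ▸ (⟨Subgroup.mem_zpowers y, hyn⟩ :
          y ∈ Subgroup.zpowers y ⊓ Subgroup.normalizer ((W : Subgroup (kM F E p Qd)) : Set (kM F E p Qd)))
      have h2 : y ∈ (W : Subgroup (kM F E p Qd)) := h1.2
      rwa [hW, Subgroup.mem_subgroupOf, ← hPdef, ← heq] at h2
    have hjmap : X.map (MulAut.conj (b ^ j)).toMonoidHom = X := by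
      refine Subgroup.eq_of_le_of_card_ge ?_ (hcard X _).ge
      rintro _ ⟨k, hk, rfl⟩
      exact mul_mem (mul_mem hjP hk) (inv_mem hjP)
    have e1 := c.extIso_into_pre (c.extIso_induced hQX (nK_le X) (hX hjP)) le_rfl
    rw [hjmap] at e1
    have e2 := c.extIso_coprime_kM hQ hI hX (pow_mem hb i) hi fun k hk =>
      (Subgroup.mem_normalizer_iff.1 (pow_mem hbn i) k).1 hk
    refine ((e1.trans e2).mono hQX le_rfl (nK_le X)).congr fun x => ?_
    show b x = (b ^ i) ((b ^ j) x)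
    rw [← MulAut.mul_apply, ← hij]
  -- a proper subgroup of the induced automorphisms
  let K : Subgroup (MulAut Qd) := kM F E p Qd
  let NX : Subgroup (MulAut Qd) := K ⊓ Subgroup.normalizer (X : Set (MulAut Qd))
  set Y := normalizerIn P X with hYdef
  have hXY : X < Y := lt_normalizerIn hPp hlt
  have hXYc : Nat.card X < Nat.card Y := by
    by_contra hh
    exact hXY.ne (Subgroup.eq_of_le_of_card_ge hXY.le (not_lt.1 hh))
  have hYN : Y ≤ NX := le_inf ((normalizerIn_le X).trans hPK) inf_le_right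
  have hNXK : NX ≤ K := inf_le_left
  obtain ⟨S₁, hS₁⟩ := ((hPp.to_le (normalizerIn_le X)).comap_subtype : IsPGroup p (Y.subgroupOf NX)).exists_le_sylow
  -- carry the Sylow subgroup of the normalizer into the induced automorphisms
  obtain ⟨W', hW'⟩ := ((S₁.isPGroup'.map NX.subtype).comap_subtype :
    IsPGroup p (((S₁ : Subgroup NX).map NX.subtype).subgroupOf K)).exists_le_sylow
  obtain ⟨j, hj⟩ := MulAction.exists_smul_eq K W' W
  have hjS : ∀ s : NX, s ∈ (S₁ : Subgroup NX) → (j : MulAut Qd) * s * (j : MulAut Qd)⁻¹ ∈ P := by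
    intro s hs
    have h1 : j * ⟨s, hNXK s.2⟩ * j⁻¹ ∈ (W : Subgroup K) := by
      rw [← hj, Sylow.coe_subgroup_smul]
      exact Subgroup.smul_mem_pointwise_smul _ (MulAut.conj j) _ (hW' ⟨s, hs, rfl⟩)
    rw [hW, Subgroup.mem_subgroupOf] at h1
    exact h1
  set X₂ := X.map (MulAut.conj (j : MulAut Qd)).toMonoidHom with hX₂def
  have hI₂ : Inn Qd ≤ X₂ := inn_le_map_conj hI _
  have hYP : Y.map (MulAut.conj (j : MulAut Qd)).toMonoidHom ≤ P := by
    rintro _ ⟨y, hy, rfl⟩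
    exact hjS ⟨y, hYN hy⟩ (hS₁ hy)
  have hX₂P : X₂ ≤ P := (Subgroup.map_mono hXY.le).trans hYP
  have hQX₂ : Qd ≤ nK S Qd X₂ := fun g hg =>
    mem_nK.2 ⟨hQ.inH.1 hg, MulAut.conj ⟨g, hg⟩, hI₂ ⟨_, rfl⟩, fun q => rfl⟩
  have hnKmono : ∀ {A B : Subgroup (MulAut Qd)}, A ≤ B → nK S Qd A ≤ nK S Qd B :=
    fun h g hg => by
      obtain ⟨hgU, k, hk, hke⟩ := mem_nK.1 hg
      exact mem_nK.2 ⟨hgU, k, h hk, hke⟩
  have hmlt : ∀ {Z : Subgroup (MulAut Qd)}, Nat.card Y ≤ Nat.card Z → Z ≤ P →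
      ∃ m' < m, Nat.card P ≤ Nat.card Z + m' := fun {Z} hZ hZP => by
    have := Subgroup.card_le_of_le hZP
    exact ⟨Nat.card P - Nat.card Z, by omega, by omega⟩
  have ej : ExtIso (c.pSys 0) (nK S Qd X) (nK S Qd X₂) ((j : MulAut Qd) : Qd ≃* Qd) := by
    obtain ⟨m', hm', hm''⟩ := hmlt le_rfl (normalizerIn_le X)
    exact c.extIso_into_pre ((ih m' hm' Y _ hm'' (hI.trans hXY.le) (normalizerIn_le X) j.2 hYP).mono hQX
      (hnKmono hXY.le) le_rfl) le_rfl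
  -- the normalizer of the transported subgroup
  set X' := X.map (MulAut.conj b).toMonoidHom with hX'def
  have hX'lt : X' < P := lt_of_le_of_ne hbX fun h => by
    have := Subgroup.card_le_of_le hXY.le
    have h2 := hcard X b
    rw [← hX'def, h] at h2
    exact absurd (Subgroup.eq_of_le_of_card_ge hX (by omega)) hlt.ne
  set Y' := normalizerIn P X' with hY'def
  have hXY' : X' < Y' := lt_normalizerIn hPp hX'lt
  have hXY'c : Nat.card X < Nat.card Y' := by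
    rw [← hcard X b]
    by_contra hh
    exact hXY'.ne (Subgroup.eq_of_le_of_card_ge hXY'.le (not_lt.1 hh))
  let Y₀ := Y'.map (MulAut.conj b⁻¹).toMonoidHom
  have hY₀ : Y₀ ≤ NX := by
    rintro _ ⟨y, hy, rfl⟩
    refine ⟨(kM F E p Qd).mul_mem ((kM F E p Qd).mul_mem ((kM F E p Qd).inv_mem hb) (hPK hy.1)) (by simpa using hb), ?_⟩
    refine Subgroup.mem_normalizer_fintype fun k hk => ?_
    obtain ⟨k', hk', hke⟩ := (Subgroup.mem_normalizer_iff.1 hy.2 _).1 ⟨k, hk, rfl⟩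
    change (b⁻¹ * y * b⁻¹⁻¹) * k * (b⁻¹ * y * b⁻¹⁻¹)⁻¹ ∈ X
    rw [show (b⁻¹ * y * b⁻¹⁻¹) * k * (b⁻¹ * y * b⁻¹⁻¹)⁻¹ = b⁻¹ * (y * (b * k * b⁻¹) * y⁻¹) * b by group]
    change b * k' * b⁻¹ = y * (b * k * b⁻¹) * y⁻¹ at hke
    rw [← hke]
    simpa [mul_assoc] using hk'
  obtain ⟨S', hS'⟩ := (((hPp.to_le (normalizerIn_le X')).map _).comap_subtype :
    IsPGroup p (Y₀.subgroupOf NX)).exists_le_sylow
  obtain ⟨r, hr⟩ := MulAction.exists_smul_eq NX S' S₁
  -- the part normalizing the transported subgroup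
  have eg : ExtIso (c.pSys 0) (nK S Qd X₂) (nK S Qd X₂)
      (((j : MulAut Qd) * r * (j : MulAut Qd)⁻¹ : MulAut Qd) : Qd ≃* Qd) := by
    have hU : nK S Qd X₂ ≤ S := nK_le X₂
    let G₀ : Subgroup NX :=
      { carrier := {s | ExtIso (c.pSys 0) (nK S Qd X₂) (nK S Qd X₂)
          (((j : MulAut Qd) * s * (j : MulAut Qd)⁻¹ : MulAut Qd) : Qd ≃* Qd)}
        one_mem' := (extIso_refl (c.pSys 0) hU hQX₂).congr fun x => by simp
        mul_mem' := fun {s t} hs ht => (ht.trans hs).congr fun x => by simp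
        inv_mem' := fun {s} hs => (hs.symm_of_card hU le_rfl).congr fun x => by
          rw [MulEquiv.eq_symm_apply]
          simp }
    have hX₂n : ∀ s : NX, ∀ k ∈ X₂,
        ((j : MulAut Qd) * s * (j : MulAut Qd)⁻¹) * k * ((j : MulAut Qd) * s * (j : MulAut Qd)⁻¹)⁻¹ ∈ X₂ := by
      rintro s _ ⟨k, hk, rfl⟩
      refine ⟨(s : MulAut Qd) * k * (s : MulAut Qd)⁻¹, (Subgroup.mem_normalizer_iff.1 s.2.2 k).1 hk, ?_⟩
      show (j : MulAut Qd) * ((s : MulAut Qd) * k * (s : MulAut Qd)⁻¹) * (j : MulAut Qd)⁻¹ =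
        ((j : MulAut Qd) * s * (j : MulAut Qd)⁻¹) * ((j : MulAut Qd) * k * (j : MulAut Qd)⁻¹) *
          ((j : MulAut Qd) * s * (j : MulAut Qd)⁻¹)⁻¹
      group
    have h1 : (S₁ : Subgroup NX) ⊔ pResidual p NX ≤ G₀ := by
      refine sup_le (fun s hs => ?_) ((Subgroup.closure_le _).2 fun s hs => ?_)
      · have hsP := hjS s hs
        have h2 := c.extIso_into_pre (c.extIso_induced hQX₂ hU hsP) le_rfl
        have h3 : X₂.map (MulAut.conj ((j : MulAut Qd) * s * (j : MulAut Qd)⁻¹)).toMonoidHom ≤ X₂ := by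
          rintro _ ⟨k, hk, rfl⟩
          exact hX₂n s k hk
        exact h2.mono hQX₂ le_rfl (hnKmono h3)
      · refine c.extIso_coprime_kM hQ hI₂ hX₂P (mul_mem (mul_mem j.2 (hNXK s.2)) (inv_mem j.2)) ?_ (hX₂n s)
        rw [show (j : MulAut Qd) * s * (j : MulAut Qd)⁻¹ = MulAut.conj (j : MulAut Qd) s from rfl,
          MulEquiv.orderOf_eq, Subgroup.orderOf_coe]
        exact hs
    rw [Cfsg.Lib.Fusion.sylow_sup_pResidual S₁] at h1
    exact h1 (Subgroup.mem_top r)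
  -- back from the transported subgroup
  set k₂ : MulAut Qd := (j : MulAut Qd) * r * b⁻¹ with hk₂def
  set Z := Y'.map (MulAut.conj k₂).toMonoidHom with hZdef
  have hZP : Z ≤ P := by
    rintro _ ⟨y, hy, rfl⟩
    have h2 : r * ⟨_, hY₀ ⟨y, hy, rfl⟩⟩ * r⁻¹ ∈ (S₁ : Subgroup NX) := by
      rw [← hr, Sylow.coe_subgroup_smul]
      exact Subgroup.smul_mem_pointwise_smul _ (MulAut.conj r) _ (hS' (Subgroup.mem_subgroupOf.2 ⟨y, hy, rfl⟩))
    have h3 := hjS _ h2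
    show k₂ * y * k₂⁻¹ ∈ P
    convert h3 using 1
    show k₂ * y * k₂⁻¹ = (j : MulAut Qd) * ((r : MulAut Qd) * (b⁻¹ * y * b⁻¹⁻¹) * (r : MulAut Qd)⁻¹) *
      (j : MulAut Qd)⁻¹
    rw [hk₂def]
    group
  have hX₂Z : X₂ ≤ Z := by
    rintro _ ⟨k, hk, rfl⟩
    have h2 := (Subgroup.mem_normalizer_iff''.1 r.2.2 k).1 hk
    refine ⟨b * ((r : MulAut Qd)⁻¹ * k * r) * b⁻¹, hXY'.le ⟨_, h2, rfl⟩, ?_⟩
    show k₂ * (b * ((r : MulAut Qd)⁻¹ * k * r) * b⁻¹) * k₂⁻¹ = (j : MulAut Qd) * k * (j : MulAut Qd)⁻¹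
    rw [hk₂def]
    group
  have hk₂K : k₂ ∈ K := mul_mem (mul_mem j.2 (hNXK r.2)) (inv_mem hb)
  have hZb : Z.map (MulAut.conj k₂⁻¹).toMonoidHom ≤ P := by
    rintro _ ⟨_, ⟨y, hy, rfl⟩, rfl⟩
    show k₂⁻¹ * (k₂ * y * k₂⁻¹) * k₂⁻¹⁻¹ ∈ P
    simpa [mul_assoc] using hy.1
  have ek : ExtIso (c.pSys 0) (nK S Qd X₂) S ((k₂⁻¹ : MulAut Qd) : Qd ≃* Qd) := by
    obtain ⟨m', hm', hm''⟩ : ∃ m' < m, Nat.card P ≤ Nat.card Z + m' := by
      have h2 := Subgroup.card_le_of_le hZP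
      have h3 := hcard Y' k₂
      exact ⟨Nat.card P - Nat.card Z, by rw [← hZdef] at h3; omega, by omega⟩
    exact (ih m' hm' Z _ hm'' (hI₂.trans hX₂Z) hZP (inv_mem hk₂K) hZb).mono hQX₂ (hnKmono hX₂Z) le_rfl
  refine ((ej.trans eg).trans ek).congr fun x => ?_
  show b x = k₂⁻¹ (((j : MulAut Qd) * r * (j : MulAut Qd)⁻¹) ((j : MulAut Qd) x))
  rw [← MulAut.mul_apply, ← MulAut.mul_apply, hk₂def]
  congr 1
  group

/-- A member with largest normalizer, with the automizer of the meet and reached by all members, is receptive. -/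
theorem isReceptive_pSys {Qd : Subgroup Ω} (hQ : c.GoodM Qd)
    (hK : (c.pSys 0).autGroup Qd ≤ kM F E p Qd)
    (htop : ∀ A, (c.pSys 0).IsConj Qd A → ToP (c.pSys 0) Qd A) : (c.pSys 0).IsReceptive Qd := by
  refine ⟨hQ.inH.1, fun A φ hφ hr => ?_⟩
  let e₀ := homIso hφ hr
  have he₀ : IsoIn (c.pSys 0) e₀ := isoIn_homIso hφ hr
  obtain ⟨χ, hχ⟩ := htop A (isConj_symm (isConj_iff.2 ⟨e₀, he₀⟩))
  let b : MulAut Qd := χ.symm.trans e₀
  have hb : b ∈ kM F E p Qd := hK ((mem_autGroup hQ.inH.1).2 (hχ.isoIn.symm.trans he₀))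
  set P := autInducedBy S Qd with hPdef
  let X : Subgroup (MulAut Qd) := P ⊓ P.comap (MulAut.conj b).toMonoidHom
  have hI : Inn Qd ≤ X := fun k hk => ⟨inn_le_autInducedBy hQ.inH.1 hk, by
    show (MulAut.conj b) k ∈ P
    refine inn_le_autInducedBy (S := S) hQ.inH.1 ?_
    obtain ⟨q, rfl⟩ := hk
    exact ⟨b q, MulEquiv.ext fun x => by simp⟩⟩
  have hext := c.extIso_conj_induced_kM hQ _ X b (Nat.le_add_left _ _) hI inf_le_left hb
    (Subgroup.map_le_iff_le_comap.2 inf_le_right)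
  obtain ⟨hAN, ψ, hψ, hv, hψe⟩ := hχ
  have hle : extender S A φ ≤ normalizerIn S A := extender_le φ
  have hAS : A ≤ S := hom_le hφ
  have h1 : ExtIso (c.pSys 0) (extender S A φ) (nK S Qd X) χ := by
    refine ⟨le_extender hAS (hom_mem hφ), ψ.comp (Subgroup.inclusion hle), restrict_mem hψ hle, fun t => ?_,
      fun x hx hT => hψe x hx (hle hT)⟩
    obtain ⟨htS, htN, h, hhS, hh⟩ := mem_extender.1 t.2
    set v := ψ (Subgroup.inclusion hle t) with hvdef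
    have hvn := hv (Subgroup.inclusion hle t)
    refine mem_nK.2 ⟨hvn.1, conjAut Qd hvn.2, ⟨conjAut_mem_autInducedBy _ hvn.1, ?_⟩, fun q => rfl⟩
    show (MulAut.conj b) (conjAut Qd hvn.2) ∈ P
    refine mem_autInducedBy.2 ⟨h, hhS, fun q => ?_⟩
    obtain ⟨a, rfl⟩ := e₀.surjective q
    have hta : (t : Ω) * (a : Ω) * (t : Ω)⁻¹ ∈ A := (Subgroup.mem_normalizer_iff.1 htN a).1 a.2
    show ((e₀ (χ.symm (conjAut Qd hvn.2 ((e₀.symm.trans χ) (e₀ a))))) : Ω) = _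
    rw [MulEquiv.trans_apply, MulEquiv.symm_apply_apply]
    have h3 : conjAut Qd hvn.2 (χ a) = χ ⟨_, hta⟩ := Subtype.ext (by
      show v * (χ a : Ω) * v⁻¹ = _
      rw [hvdef, ← hψe _ a.2 (hAN a.2), ← map_inv, ← map_mul, ← map_mul]
      exact hψe _ hta _)
    rw [h3, MulEquiv.symm_apply_apply]
    exact hh a hta
  obtain ⟨-, ψ', hψ', -, hψ'e⟩ := (h1.trans hext).congr (e' := e₀) fun x => by simp [b]
  exact ⟨ψ', hψ', fun x hx hT => hψ'e x hx hT⟩

end ProdCtx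

end Cfsg.Lib.FusionSys
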