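import Cfsg.Agent.Lib.FusionSys.ProductER.Tools
import Cfsg.Agent.Lib.FusionSys.StageInvariant

/-!
The `p`-residual subsystem of a normal subsystem is normal.
-/

set_option autoImplicit false
set_option linter.style.haveILetI false
set_option maxHeartbeats 800000

namespace Cfsg.Lib.FusionSys

open Cfsg Cfsg.FusionSystem

variable {Ω : Type*} [Group Ω] {S T : Subgroup Ω} {F : FusionSystem S} {E : FusionSystem T} {p : ℕ}

/-- It suffices to extend the automorphisms of order prime to `p`. -/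
theorem isNormalIn_of_ext [Finite S] [Fact p.Prime] (hS : IsPGroup p S) (h : E.IsWeaklyNormalIn F p)
    (hext : ∀ α ∈ E.autGroup T, (orderOf α).Coprime p → ∃ β ∈ F.autGroup (T ⊔ centralizerIn S T),
      (∀ x : T, ((β (Subgroup.inclusion le_sup_left x) : ↥(T ⊔ centralizerIn S T)) : Ω) = ((α x : T) : Ω)) ∧
      ∀ c : ↥(T ⊔ centralizerIn S T), (c : Ω) ∈ centralizerIn S T →
        (c : Ω)⁻¹ * ((β c : ↥(T ⊔ centralizerIn S T)) : Ω) ∈ T ⊓ Subgroup.centralizer (T : Set Ω)) :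
    E.IsNormalIn F p := by
  refine ⟨h, ?_⟩
  obtain ⟨hE, hF, hinv⟩ := h
  have hT := hinv.2.1
  have hTS := hT.1
  have hX : T ⊔ centralizerIn S T ≤ S := sup_le hTS (centralizerIn_le T)
  haveI := finite_of_le hX
  haveI := finite_of_le hTS
  haveI : Finite (MulAut T) := Finite.of_injective (fun f => (f : T → T)) DFunLike.coe_injective
  have hSn : S ≤ Subgroup.normalizer (T : Set Ω) := stronglyClosed_le_normalizer hT
  have hCinv : ∀ (β : MulAut ↥(T ⊔ centralizerIn S T)), β ∈ F.autGroup (T ⊔ centralizerIn S T) →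
      ∀ c : ↥(T ⊔ centralizerIn S T), (c : Ω) ∈ centralizerIn S T →
        ((β c : ↥(T ⊔ centralizerIn S T)) : Ω) ∈ centralizerIn S T := by
    intro β hβ c hc
    refine ⟨hX (β c).2, Subgroup.mem_centralizer_iff.2 fun t ht => ?_⟩
    have hw : (β⁻¹ ⟨t, Subgroup.mem_sup_left ht⟩ : ↥(T ⊔ centralizerIn S T)) * c =
        c * β⁻¹ ⟨t, Subgroup.mem_sup_left ht⟩ := by
      refine Subtype.ext ((Subgroup.mem_centralizer_iff.1 hc.2) _ ?_)
      exact stronglyClosed_aut_mem hT ((F.autGroup _).inv_mem hβ) hX ht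
    have := congrArg β hw
    rw [map_mul, map_mul, MulAut.apply_inv_self] at this
    exact congrArg Subtype.val this
  let W : Subgroup (MulAut T) :=
    { carrier := {α | ∃ β ∈ F.autGroup (T ⊔ centralizerIn S T),
        (∀ x : T, ((β (Subgroup.inclusion le_sup_left x) : ↥(T ⊔ centralizerIn S T)) : Ω) = ((α x : T) : Ω)) ∧
        ∀ c : ↥(T ⊔ centralizerIn S T), (c : Ω) ∈ centralizerIn S T →
          (c : Ω)⁻¹ * ((β c : ↥(T ⊔ centralizerIn S T)) : Ω) ∈ T ⊓ Subgroup.centralizer (T : Set Ω)}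
      one_mem' := ⟨1, one_mem _, fun x => rfl, fun c _ => by simp⟩
      mul_mem' := fun {a b} ⟨β, hβ, ha1, ha2⟩ ⟨γ, hγ, hb1, hb2⟩ => ⟨β * γ, mul_mem hβ hγ, fun x => by
        show ((β (γ (Subgroup.inclusion le_sup_left x)) : ↥(T ⊔ centralizerIn S T)) : Ω) = ((a (b x) : T) : Ω)
        rw [show γ (Subgroup.inclusion le_sup_left x) = Subgroup.inclusion le_sup_left (b x) from
          Subtype.ext (hb1 x), ha1], fun c hc => by
        have h := mul_mem (hb2 c hc) (ha2 (γ c) (hCinv γ hγ c hc))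
        rw [mul_assoc, mul_inv_cancel_left] at h
        exact h⟩
      inv_mem' := fun {a} ⟨β, hβ, ha1, ha2⟩ => ⟨β⁻¹, inv_mem hβ, fun x => by
        rw [show Subgroup.inclusion le_sup_left x = β (Subgroup.inclusion le_sup_left (a⁻¹ x)) from
          Subtype.ext (by rw [ha1, MulAut.apply_inv_self]; rfl), MulAut.inv_apply_self]
        rfl, fun c hc => by
        have h := ha2 (β⁻¹ c) (hCinv β⁻¹ (inv_mem hβ) c hc)
        rw [MulAut.apply_inv_self] at h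
        simpa using inv_mem h⟩ }
  suffices hW : E.autGroup T ≤ W from fun α hα => hW hα
  obtain ⟨-, R, hR⟩ := (isFullyAutomized_and_fc_of_fn (hS.to_le hTS) hE (isFullyNormalized_top E)).2
  refine le_of_sylow_of_coprime R ?_ fun α hα hc => hext α hα hc
  rw [hR, Subgroup.map_subgroupOf_eq_of_le (autInducedBy_le_autGroup le_rfl)]
  intro α hα
  obtain ⟨t, ht, hte⟩ := mem_autInducedBy.1 hα
  have htX : t ∈ Subgroup.normalizer ((T ⊔ centralizerIn S T : Subgroup Ω) : Set Ω) :=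
    Subgroup.le_normalizer (Subgroup.mem_sup_left ht)
  refine ⟨conjAut _ htX, autInducedBy_le_autGroup hX (conjAut_mem_autInducedBy htX (hTS ht)),
    fun x => (hte x).symm, fun c hc => ?_⟩
  show (c : Ω)⁻¹ * (t * c * t⁻¹) ∈ _
  rw [conj_eq_of_commute ((Subgroup.mem_centralizer_iff.1 hc.2) t ht), inv_mul_cancel]
  exact one_mem _

namespace ProdCtx

variable (c : ProdCtx F E p)
include c

/-- The automorphisms of `T` in the whole system fix the hyperfocal subgroup of the subsystem. -/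
theorem aut_hyperfocal [Finite S] {β : MulAut T} (hβ : β ∈ F.autGroup T) {x : T}
    (hx : (x : Ω) ∈ E.hyperfocalSubgroup p) : ((β x : T) : Ω) ∈ E.hyperfocalSubgroup p := by
  haveI := finite_of_le c.hTS
  have hb0 := (mem_autGroup c.hTS).1 hβ
  have hle : E.hyperfocalSubgroup p ≤
      ((E.hyperfocalSubgroup p).comap (T.subtype.comp β.toMonoidHom)).map T.subtype := by
    refine hyperfocal_le_of_coprime fun P hP α hα hc y => ?_
    have hb := restrict_mem hb0 hP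
    have hr := range_restrict_aut hP β
    set e := homIso hb hr with he
    have hα' := congr_mem_invariant c.inv hP (isoIn_homIso hb hr : IsoIn F e) hα
    have hc' : (orderOf (MulAut.congr e α)).Coprime p := by rwa [MulEquiv.orderOf_eq]
    have h := mem_hyperfocal_of_coprime (autImage_le β P) hα' hc' (e y)
    rw [show MulAut.congr e α (e y) = e (α y) by simp [MulAut.congr]] at h
    refine ⟨(⟨(y : Ω), hP y.2⟩ : T)⁻¹ * ⟨(α y : Ω), hP (α y).2⟩, ?_, rfl⟩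
    show ((β ((⟨(y : Ω), hP y.2⟩ : T)⁻¹ * ⟨(α y : Ω), hP (α y).2⟩) : T) : Ω) ∈ E.hyperfocalSubgroup p
    rw [map_mul, map_inv, Subgroup.coe_mul, Subgroup.coe_inv]
    exact h
  obtain ⟨y, hy, hye⟩ := hle hx
  rw [show x = y from Subtype.ext hye.symm]
  exact hy

/-- The hyperfocal subgroup of a normal subsystem is strongly closed. -/
theorem closed_hyperfocal [Finite S] [Fact p.Prime] : F.StronglyClosed (E.hyperfocalSubgroup p) := by
  haveI := finite_of_le c.hTS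
  have hsc := stronglyClosed_of_hyperfocal_le (c.pS.to_le c.hTS) c.satE hyperfocal_subgroupOf_normal le_rfl
    (hyperfocal_le E)
  refine ⟨(hyperfocal_le E).trans c.hTS, fun P hP φ hφ x => ?_⟩
  obtain ⟨α, hα, φ₀, hφ₀, he⟩ := c.inv.2.2.2 P (hP.trans (hyperfocal_le E)) φ hφ
  rw [he x (hom_mem hφ₀ x)]
  exact c.aut_hyperfocal hα (hsc.2 P hP φ₀ hφ₀ x)

omit c

/-- The automorphisms of `W'` fixing `T₀`, in the subsystem on `W`, trivial modulo `T`. -/
def fixK (F : FusionSystem S) (E : FusionSystem T) (T₀ : Subgroup Ω) {W W' : Subgroup Ω} (hWW' : W ≤ W') :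
    Subgroup (MulAut W') where
  carrier := {d | d ∈ F.autGroup W' ∧ (∀ x : W', (x : Ω) ∈ T₀ → d x = x) ∧
    (∀ x : W', (x : Ω)⁻¹ * (d x : Ω) ∈ T) ∧ ∃ d₀ ∈ E.autGroup W,
      ∀ x : W, (d (Subgroup.inclusion hWW' x) : Ω) = (d₀ x : Ω)}
  one_mem' := ⟨one_mem _, fun _ _ => rfl, fun x => by simp, 1, one_mem _, fun _ => rfl⟩
  mul_mem' := by
    rintro d e ⟨hd, hdf, hdm, d₀, hd₀, hde⟩ ⟨he, hef, hem, e₀, he₀, hee⟩
    refine ⟨mul_mem hd he, fun x hx => ?_, fun x => ?_, d₀ * e₀, mul_mem hd₀ he₀, fun x => ?_⟩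
    · rw [MulAut.mul_apply, hef x hx, hdf x hx]
    · have h := T.mul_mem (hem x) (hdm (e x))
      rwa [mul_assoc, mul_inv_cancel_left] at h
    · rw [MulAut.mul_apply, MulAut.mul_apply, ← hde]
      exact congrArg (fun z : W' => (d z : Ω)) (Subtype.ext (hee x))
  inv_mem' := by
    rintro d ⟨hd, hdf, hdm, d₀, hd₀, hde⟩
    refine ⟨inv_mem hd, fun x hx => ?_, fun x => ?_, d₀⁻¹, inv_mem hd₀, fun x => ?_⟩
    · conv_lhs => rw [← hdf x hx, MulAut.inv_apply_self]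
    · have h := T.inv_mem (hdm (d⁻¹ x))
      rwa [MulAut.apply_inv_self, mul_inv_rev, inv_inv] at h
    · have h : d (Subgroup.inclusion hWW' (d₀⁻¹ x)) = Subgroup.inclusion hWW' x :=
        Subtype.ext ((hde _).trans (by rw [MulAut.apply_inv_self]; rfl))
      rw [← h, MulAut.inv_apply_self]
      rfl

/-- A map sending `A` onto itself sends its centralizer to its centralizer. -/
theorem apply_mem_centralizerIn {A V : Subgroup Ω} {hAV : A ≤ V} {φ : V →* Ω}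
    (hr : (φ.comp (Subgroup.inclusion hAV)).range = A) {x : V} (hφx : φ x ∈ S)
    (hx : ∀ z ∈ A, (x : Ω) * z = z * x) : φ x ∈ centralizerIn S A := by
  refine mem_centralizerIn.2 ⟨hφx, fun y hy => ?_⟩
  obtain ⟨z, rfl⟩ := hr.ge hy
  show φ x * φ (Subgroup.inclusion hAV z) = φ (Subgroup.inclusion hAV z) * φ x
  rw [← map_mul, ← map_mul]
  exact congrArg φ (Subtype.ext (hx z z.2))

theorem fixed_sup_centralizer [Finite S] {A : Subgroup Ω} (hA : A ≤ S)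
    (h : ∀ φ ∈ F.Hom A, ∀ x : A, φ x ∈ A) {φ : ↥(A ⊔ centralizerIn S A) →* Ω}
    (hφ : φ ∈ F.Hom (A ⊔ centralizerIn S A)) (x : ↥(A ⊔ centralizerIn S A)) :
    φ x ∈ A ⊔ centralizerIn S A := by
  have hr : (φ.comp (Subgroup.inclusion (le_sup_left : A ≤ A ⊔ centralizerIn S A))).range = A :=
    range_eq_of_card_le (restrict_mem hφ _) hA (fun z => h _ (restrict_mem hφ _) z) le_rfl
  exact hom_mem_of_sup (fun x hx => Subgroup.mem_sup_left (hr.le ⟨⟨(x : Ω), hx⟩, rfl⟩))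
    (fun x hx => Subgroup.mem_sup_right
      (apply_mem_centralizerIn hr (hom_mem hφ x) (mem_centralizerIn.1 hx).2)) x

include c

theorem fixed_resW [Finite S] {T₀ : Subgroup Ω} (hsc : F.StronglyClosed T₀)
    {φ : ↥(T₀ ⊔ centralizerIn T T₀) →* Ω} (hφ : φ ∈ F.Hom (T₀ ⊔ centralizerIn T T₀))
    (x : ↥(T₀ ⊔ centralizerIn T T₀)) : φ x ∈ T₀ ⊔ centralizerIn T T₀ := by
  have hr : (φ.comp (Subgroup.inclusion (le_sup_left : T₀ ≤ T₀ ⊔ centralizerIn T T₀))).range = T₀ :=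
    range_eq_of_card_le (restrict_mem hφ _) hsc.1 (fun z => stronglyClosed_apply_mem hsc hφ z.2) le_rfl
  exact hom_mem_of_sup (fun x hx => Subgroup.mem_sup_left (stronglyClosed_apply_mem hsc hφ hx))
    (fun x hx => Subgroup.mem_sup_right (apply_mem_centralizerIn hr
      (stronglyClosed_apply_mem c.sc hφ (centralizerIn_le T₀ hx)) (mem_centralizerIn.1 hx).2)) x

theorem fixK_normal [Finite S] {T₀ W W' : Subgroup Ω} (hsc : F.StronglyClosed T₀) (hWW' : W ≤ W')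
    (hWT : W ≤ T) (hW' : W' ≤ S) (hW : ∀ φ ∈ F.Hom W, ∀ x : W, φ x ∈ W) {d : MulAut W'}
    (hd' : d ∈ fixK F E T₀ hWW') {β : MulAut W'} (hβ : β ∈ F.autGroup W') : β * d * β⁻¹ ∈ fixK F E T₀ hWW' := by
  obtain ⟨hd, hdf, hdm, d₀, hd₀, hde⟩ := hd'
  refine ⟨mul_mem (mul_mem hβ hd) (inv_mem hβ), fun x hx => ?_, fun x => ?_, ?_⟩
  · rw [MulAut.mul_apply, MulAut.mul_apply,
      hdf _ (stronglyClosed_aut_mem hsc (inv_mem hβ) hW' hx), MulAut.apply_inv_self]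
  · rw [MulAut.mul_apply, MulAut.mul_apply]
    obtain ⟨y, rfl⟩ := β.surjective x
    rw [MulAut.inv_apply_self]
    have h : ((β (y⁻¹ * d y) : W') : Ω) ∈ T := stronglyClosed_aut_mem c.sc hβ hW' (hdm y)
    rwa [map_mul, map_inv] at h
  · obtain ⟨βW, hβW, hβWe⟩ := exists_aut_restrict hW' hβ hWW'
      fun x => hW _ (restrict_mem ((mem_autGroup hW').1 hβ) hWW') x
    refine ⟨βW * d₀ * βW⁻¹, congr_mem_invariant c.inv hWT ((mem_autGroup (hWT.trans c.hTS)).1 hβW) hd₀,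
      fun x => ?_⟩
    obtain ⟨y, rfl⟩ := βW.surjective x
    rw [show Subgroup.inclusion hWW' (βW y) = β (Subgroup.inclusion hWW' y) from Subtype.ext (hβWe y),
      MulAut.mul_apply, MulAut.mul_apply, MulAut.inv_apply_self, MulAut.mul_apply, MulAut.mul_apply,
      MulAut.inv_apply_self, hβWe]
    exact congrArg (fun z : W' => (β z : Ω)) (Subtype.ext (hde y))

theorem fixK_pElement [Finite S] [Fact p.Prime] {T₀ W W' : Subgroup Ω} (hT₀ : T₀ = E.hyperfocalSubgroup p)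
    (hsc : F.StronglyClosed T₀) (hWW' : W ≤ W') (hT₀W : T₀ ≤ W) (hWT : W ≤ T) (hW' : W' ≤ S)
    (hint : ∀ x ∈ W', x ∈ T → x ∈ W) {d : MulAut W'} (hd : d ∈ fixK F E T₀ hWW') :
    ∃ k : ℕ, d ^ p ^ k = 1 := by
  haveI := finite_of_le hW'
  haveI := finite_of_le c.hTS
  haveI : Finite (MulAut W') := Finite.of_injective (fun f => (f : W' → W')) DFunLike.coe_injective
  obtain ⟨i, j, hij, hci, k, hjk⟩ := exists_coprime_parts (p := p) d
  suffices hi : d ^ i = 1 by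
    refine ⟨k, ?_⟩
    rw [hij, hi, one_mul, ← hjk, pow_orderOf_eq_one]
  obtain ⟨-, hf, hmd, d₀, hd₀, hde⟩ := pow_mem hd i
  have hscE : E.StronglyClosed T₀ := stronglyClosed_of_subsystem c.inv.1 hsc (hT₀W.trans hWT)
  have hd₀1 : d₀ = 1 := by
    have hv : d₀ ^ orderOf (d ^ i) = 1 := aut_pow_eq_one hWW' (fun x => (hde x).symm) (pow_orderOf_eq_one _)
    have hcd : (orderOf d₀).Coprime p := coprime_of_pow_eq_one hci hv
    obtain ⟨n, hn⟩ := isPGroup_aut_stab (F := E) (c.pS.to_le c.hTS) hscE hWT (a := d₀)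
      (fun x hx => Subtype.ext ((hde x).symm.trans
        (congrArg Subtype.val (hf (Subgroup.inclusion hWW' x) hx))))
      (fun x => hT₀ ▸ mem_hyperfocal_of_coprime hWT hd₀ hcd x)
    exact eq_one_of_coprime_of_pow hcd hn
  have hfixW : ∀ x : W', (x : Ω) ∈ W → (d ^ i) x = x := fun x hx => by
    refine Subtype.ext ?_
    have h := hde ⟨(x : Ω), hx⟩
    rw [hd₀1] at h
    exact h
  obtain ⟨n, hn⟩ := isPGroup_aut_stab c.pS c.sc hW' (a := d ^ i) (fun x hx => hfixW x (hint x x.2 hx)) hmd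
  exact eq_one_of_coprime_of_pow hci hn

theorem goodExt_mod {W : Subgroup Ω} {hW : W ≤ S} (hWT : W ≤ T) {ψ : MulAut ↥(W ⊔ centralizerIn S W)}
    (hψ : ψ ∈ goodExt c.sc W hW) (x : ↥(W ⊔ centralizerIn S W)) : (x : Ω)⁻¹ * (ψ x : Ω) ∈ T := by
  obtain ⟨u, hu, w, hw, huw⟩ := exists_mul_of_mem_sup_centralizer (S := S) x.2
  let u' : ↥(W ⊔ centralizerIn S W) := ⟨u, Subgroup.mem_sup_left hu⟩
  let w' : ↥(W ⊔ centralizerIn S W) := ⟨w, Subgroup.mem_sup_right hw⟩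
  have hxe : x = u' * w' := Subtype.ext huw
  have h1 : (ψ u' : Ω) ∈ T := stronglyClosed_aut_mem c.sc hψ.1.1 (sup_le hW (centralizerIn_le W)) (hWT hu)
  have h2 := hψ.2 w' hw
  rw [hxe, map_mul]
  show (u * w)⁻¹ * ((ψ u' : Ω) * (ψ w' : Ω)) ∈ T
  have := T.mul_mem (c.tmem_conj' (centralizerIn_le W hw) (T.mul_mem (T.inv_mem (hWT hu)) h1)) h2
  convert this using 1
  show _ = w⁻¹ * (u⁻¹ * (ψ u' : Ω)) * w * (w⁻¹ * (ψ w' : Ω))
  group

/-- The commutator of a good extension with a conjugation by `C_S(T₀)` fixes `T₀` and lies in the subsystem. -/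
theorem commutator_mem_fixK [Finite S] {T₀ W : Subgroup Ω} (hsc : F.StronglyClosed T₀) (hWT : W ≤ T)
    {hW : W ≤ S} (hWfix : ∀ φ ∈ F.Hom W, ∀ x : W, φ x ∈ W) {ψ₀ : MulAut ↥(W ⊔ centralizerIn S W)}
    (hψ₀ : ψ₀ ∈ goodExt c.sc W hW) {a : MulAut W} (ha : a ∈ E.autGroup W)
    (hψe : ∀ x : W, (ψ₀ (Subgroup.inclusion le_sup_left x) : Ω) = (a x : Ω)) {g : Ω}
    (hg : g ∈ centralizerIn S T₀)
    (hgn : g ∈ Subgroup.normalizer ((W ⊔ centralizerIn S W : Subgroup Ω) : Set Ω)) :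
    ψ₀ * conjAut _ hgn * ψ₀⁻¹ * (conjAut _ hgn)⁻¹ ∈
      fixK F E T₀ (le_sup_left : W ≤ W ⊔ centralizerIn S W) := by
  have hW'S : W ⊔ centralizerIn S W ≤ S := sup_le hW (centralizerIn_le W)
  set γ := conjAut _ hgn with hγ
  have hγF : γ ∈ F.autGroup (W ⊔ centralizerIn S W) :=
    autInducedBy_le_autGroup hW'S (conjAut_mem_autInducedBy hgn (centralizerIn_le T₀ hg))
  have hψF := hψ₀.1.1
  have hγfix : ∀ x : ↥(W ⊔ centralizerIn S W), (x : Ω) ∈ T₀ → γ x = x := fun x hx =>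
    Subtype.ext (conj_eq_of_commute ((mem_centralizerIn.1 hg).2 x hx))
  refine ⟨mul_mem (mul_mem (mul_mem hψF hγF) (inv_mem hψF)) (inv_mem hγF), fun x hx => ?_, fun x => ?_, ?_⟩
  · have h1 : γ⁻¹ x = x := by conv_lhs => rw [← hγfix x hx, MulAut.inv_apply_self]
    rw [MulAut.mul_apply, h1, MulAut.mul_apply, MulAut.mul_apply,
      hγfix _ (stronglyClosed_aut_mem hsc (inv_mem hψF) hW'S hx), MulAut.apply_inv_self]
  · rw [MulAut.mul_apply, MulAut.mul_apply, MulAut.mul_apply]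
    obtain ⟨y, rfl⟩ := γ.surjective x
    rw [MulAut.inv_apply_self]
    obtain ⟨z, rfl⟩ := ψ₀.surjective y
    rw [MulAut.inv_apply_self]
    have h1 : (γ (z⁻¹ * ψ₀ z) : Ω) ∈ T := stronglyClosed_aut_mem c.sc hγF hW'S (c.goodExt_mod hWT hψ₀ z)
    rw [map_mul, map_inv, Subgroup.coe_mul, Subgroup.coe_inv] at h1
    have h := T.mul_mem (T.inv_mem h1) (c.goodExt_mod hWT hψ₀ (γ z))
    rwa [mul_inv_rev, inv_inv, mul_assoc, mul_inv_cancel_left] at h
  · obtain ⟨γW, hγW, hγWe⟩ := exists_aut_restrict hW'S hγF (le_sup_left : W ≤ W ⊔ centralizerIn S W)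
      fun x => hWfix _ (restrict_mem ((mem_autGroup hW'S).1 hγF) le_sup_left) x
    refine ⟨a * (γW * a⁻¹ * γW⁻¹),
      mul_mem ha (congr_mem_invariant c.inv hWT ((mem_autGroup hW).1 hγW) (inv_mem ha)), fun x => ?_⟩
    obtain ⟨y, rfl⟩ := γW.surjective x
    rw [show Subgroup.inclusion le_sup_left (γW y) = γ (Subgroup.inclusion le_sup_left y) from
      Subtype.ext (hγWe y)]
    simp only [MulAut.mul_apply, MulAut.inv_apply_self]
    have h2 : ψ₀⁻¹ (Subgroup.inclusion le_sup_left y) = Subgroup.inclusion le_sup_left (a⁻¹ y) := by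
      refine ψ₀.injective ?_
      rw [MulAut.apply_inv_self]
      exact Subtype.ext ((hψe _).trans (by rw [MulAut.apply_inv_self]; rfl)).symm
    rw [h2, show γ (Subgroup.inclusion le_sup_left (a⁻¹ y)) = Subgroup.inclusion le_sup_left (γW (a⁻¹ y)) from
      Subtype.ext (hγWe _).symm, hψe]

/-- The extension to `T₀ C_S(T₀)` of an automorphism of `T₀ C_T(T₀)` of order prime to `p`. -/
theorem exists_residual_theta [Finite S] [Fact p.Prime] {T₀ W : Subgroup Ω} (hT₀ : T₀ = E.hyperfocalSubgroup p)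
    (hsc : F.StronglyClosed T₀) (hW : W = T₀ ⊔ centralizerIn T T₀) (hWT : W ≤ T)
    {a : MulAut W} (ha : a ∈ E.autGroup W) (hac : (orderOf a).Coprime p) :
    ∃ θ ∈ F.autGroup (T₀ ⊔ centralizerIn S T₀), ∃ v : ℕ, v.Coprime p ∧ θ ^ v = 1 ∧
      (∀ (z : ↥(T₀ ⊔ centralizerIn S T₀)) (hz : (z : Ω) ∈ W), (θ z : Ω) = (a ⟨(z : Ω), hz⟩ : Ω)) ∧
      (∀ z : ↥(T₀ ⊔ centralizerIn S T₀), (z : Ω) ∈ W ⊔ centralizerIn S W → (z : Ω)⁻¹ * (θ z : Ω) ∈ T) ∧
      ∀ y : ↥(T₀ ⊔ centralizerIn S T₀), (y : Ω) ∈ centralizerIn S T₀ →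
        ∀ hn : (y : Ω)⁻¹ * (θ y : Ω) ∈ Subgroup.normalizer ((W ⊔ centralizerIn S W : Subgroup Ω) : Set Ω),
          conjAut _ hn ∈ fixK F E T₀ (le_sup_left : W ≤ W ⊔ centralizerIn S W) := by
  classical
  have hWS : W ≤ S := hWT.trans c.hTS
  have hWfix : ∀ φ ∈ F.Hom W, ∀ x : W, φ x ∈ W := by
    subst hW
    exact fun φ hφ => c.fixed_resW hsc hφ
  have hT₀W : T₀ ≤ W := hW.ge.trans' le_sup_left
  have hWfn : F.IsFullyNormalized W := isFullyNormalized_of_fixed hWS hWfix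
  have hWc : centralizerIn T W ≤ W :=
    ((le_inf inf_le_left (inf_le_right.trans (Subgroup.centralizer_le hT₀W))).trans le_sup_right).trans hW.ge
  obtain ⟨ψ₀, hψ₀, m', hm', hψm, -, hψe⟩ :=
    exists_goodExt_pPrime (autGroup_le_goodAut c.pS c.norm hWT hWfn hWc ha) hac
  have hVS : (T₀ ⊔ centralizerIn S T₀ : Subgroup Ω) ≤ S := sup_le hsc.1 (centralizerIn_le T₀)
  have hW'S : (W ⊔ centralizerIn S W) ≤ S := sup_le hWS (centralizerIn_le W)
  have hWV : W ≤ (T₀ ⊔ centralizerIn S T₀ : Subgroup Ω) := hW.le.trans (sup_le le_sup_left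
    ((le_inf (inf_le_left.trans c.hTS) inf_le_right : centralizerIn T T₀ ≤ centralizerIn S T₀).trans le_sup_right))
  have hW'V : (W ⊔ centralizerIn S W) ≤ (T₀ ⊔ centralizerIn S T₀ : Subgroup Ω) := sup_le hWV
    ((le_inf inf_le_left (inf_le_right.trans (Subgroup.centralizer_le hT₀W)) :
      centralizerIn S W ≤ centralizerIn S T₀).trans le_sup_right)
  haveI := finite_of_le hW'S
  haveI := finite_of_le hVS
  have hfix' : ∀ φ ∈ F.Hom (W ⊔ centralizerIn S W), ∀ x : ↥(W ⊔ centralizerIn S W), φ x ∈ (W ⊔ centralizerIn S W) := fun φ hφ => fixed_sup_centralizer hWS hWfix hφ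
  have hW'fn : F.IsFullyNormalized (W ⊔ centralizerIn S W) := isFullyNormalized_of_fixed hW'S hfix'
  have hint : ∀ x ∈ (W ⊔ centralizerIn S W), x ∈ T → x ∈ W := by
    intro x hx hxT
    obtain ⟨u, hu, w, hw, huw⟩ := exists_mul_of_mem_sup_centralizer (S := S) hx
    rw [huw]
    refine W.mul_mem hu (hWc (mem_centralizerIn.2 ⟨?_, (mem_centralizerIn.1 hw).2⟩))
    have := T.mul_mem (T.inv_mem (hWT hu)) hxT
    rwa [huw, inv_mul_cancel_left] at this
  have hKn : ∀ d ∈ fixK F E T₀ (le_sup_left : W ≤ (W ⊔ centralizerIn S W)), ∀ β ∈ F.autGroup (W ⊔ centralizerIn S W),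
      β * d * β⁻¹ ∈ fixK F E T₀ (le_sup_left : W ≤ (W ⊔ centralizerIn S W)) :=
    fun d hd β hβ => c.fixK_normal hsc le_sup_left hWT hW'S hWfix hd hβ
  have hKS : fixK F E T₀ (le_sup_left : W ≤ (W ⊔ centralizerIn S W)) ≤ autInducedBy S (W ⊔ centralizerIn S W) :=
    le_autInducedBy_of_normal c.pS c.sat hW'fn (fun d hd => hd.1) hKn
      fun d hd => c.fixK_pElement hT₀ hsc le_sup_left hT₀W hWT hW'S hint hd
  have hVW' : ∀ g ∈ (T₀ ⊔ centralizerIn S T₀ : Subgroup Ω), g ∈ Subgroup.normalizer ((W ⊔ centralizerIn S W : Subgroup Ω) : Set Ω) := fun g hg => by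
    refine Subgroup.mem_normalizer_fintype (S := ((W ⊔ centralizerIn S W : Subgroup Ω) : Set Ω)) fun x hx => ?_
    exact hfix' _ (F.conj_mem hW'S (hVS hg)) ⟨x, hx⟩
  have hψhom : (W ⊔ centralizerIn S W).subtype.comp ψ₀.toMonoidHom ∈ F.Hom (W ⊔ centralizerIn S W) := (mem_autGroup hW'S).1 hψ₀.1.1
  have hψr : ((W ⊔ centralizerIn S W).subtype.comp ψ₀.toMonoidHom).range = (W ⊔ centralizerIn S W) := by
    ext y
    exact ⟨fun ⟨x, hx⟩ => hx ▸ (ψ₀ x).2, fun hy => ⟨ψ₀⁻¹ ⟨y, hy⟩, by simp⟩⟩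
  obtain ⟨Ψ, hΨ, hΨe⟩ := (isReceptive_of_fc c.pS c.sat (isFullyAutomized_and_fc_of_fn c.pS c.sat hW'fn).1).2
    (W ⊔ centralizerIn S W) _ hψhom hψr
  have hgen : ∀ g (hg : g ∈ centralizerIn S T₀), g ∈ extender S (W ⊔ centralizerIn S W) ((W ⊔ centralizerIn S W).subtype.comp ψ₀.toMonoidHom) := by
    intro g hg
    have hgn : g ∈ Subgroup.normalizer ((W ⊔ centralizerIn S W : Subgroup Ω) : Set Ω) := hVW' g (Subgroup.mem_sup_right hg)
    have hmem : ψ₀ * conjAut (W ⊔ centralizerIn S W) hgn * ψ₀⁻¹ ∈ autInducedBy S (W ⊔ centralizerIn S W) := by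
      have h := mul_mem (hKS (c.commutator_mem_fixK hsc hWT hWfix hψ₀ ha hψe hg hgn))
        (conjAut_mem_autInducedBy hgn (centralizerIn_le T₀ hg))
      rwa [inv_mul_cancel_right] at h
    obtain ⟨s, hs, hse⟩ := mem_autInducedBy.1 hmem
    refine mem_extender_of (centralizerIn_le T₀ hg) hgn hs fun x hx => ?_
    show (ψ₀ ⟨g * (x : Ω) * g⁻¹, hx⟩ : Ω) = s * (ψ₀ x : Ω) * s⁻¹
    rw [← hse (ψ₀ x), MulAut.mul_apply, MulAut.mul_apply, MulAut.inv_apply_self]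
    rfl
  have hle : (T₀ ⊔ centralizerIn S T₀ : Subgroup Ω) ≤ extender S (W ⊔ centralizerIn S W) ((W ⊔ centralizerIn S W).subtype.comp ψ₀.toMonoidHom) :=
    sup_le ((hT₀W.trans le_sup_left : T₀ ≤ (W ⊔ centralizerIn S W)).trans (le_extender hW'S (hom_mem hψhom))) fun g hg => hgen g hg
  have hΨV : Ψ.comp (Subgroup.inclusion hle) ∈ F.Hom (T₀ ⊔ centralizerIn S T₀ : Subgroup Ω) := restrict_mem hΨ hle
  obtain ⟨β₀, hβ₀, hβ₀e⟩ := exists_aut_of_hom hΨV
    (fixed_sup_centralizer hsc.1 (fun φ hφ x => hsc.2 T₀ le_rfl φ hφ x) hΨV)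
  obtain ⟨θ, hθ, v, hv, hθv, hθW', -⟩ := exists_pPrime_extension hW'V hVS hm' hψm hβ₀
    fun x => (hβ₀e _).trans (hΨe x x.2 _)
  refine ⟨θ, hθ, v, hv, hθv, fun z hz => (hθW' ⟨(z : Ω), Subgroup.mem_sup_left hz⟩).trans (hψe ⟨(z : Ω), hz⟩),
    fun z hz => (hθW' ⟨(z : Ω), hz⟩).symm ▸ c.goodExt_mod hWT hψ₀ ⟨(z : Ω), hz⟩, fun y hy hn => ?_⟩
  have hyn : (y : Ω) ∈ Subgroup.normalizer ((W ⊔ centralizerIn S W : Subgroup Ω) : Set Ω) := hVW' y y.2
  have hγF : conjAut (W ⊔ centralizerIn S W) hyn ∈ F.autGroup (W ⊔ centralizerIn S W) :=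
    autInducedBy_le_autGroup hW'S (conjAut_mem_autInducedBy hyn (centralizerIn_le T₀ hy))
  have h := hKn _ (c.commutator_mem_fixK hsc hWT hWfix hψ₀ ha hψe hy hyn) _ (inv_mem hγF)
  convert h using 1
  refine MulEquiv.ext fun w => ?_
  simp only [inv_inv, MulAut.mul_apply, MulAut.inv_apply_self]
  refine (conjAut (W ⊔ centralizerIn S W) hyn).injective ?_
  rw [MulAut.apply_inv_self]
  apply Subtype.ext
  let w'' : (T₀ ⊔ centralizerIn S T₀ : Subgroup Ω) := Subgroup.inclusion hW'V (ψ₀⁻¹ w)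
  have e1 : (θ w'' : Ω) = (w : Ω) := (hθW' (ψ₀⁻¹ w)).trans (by rw [MulAut.apply_inv_self])
  have e2 : (θ (y * w'' * y⁻¹) : Ω) = (ψ₀ (conjAut (W ⊔ centralizerIn S W) hyn (ψ₀⁻¹ w)) : Ω) := by
    rw [← hθW']
    rfl
  rw [← e2, map_mul, map_mul, map_inv, Subgroup.coe_mul, Subgroup.coe_mul, Subgroup.coe_inv, e1]
  show (y : Ω) * (((y : Ω)⁻¹ * (θ y : Ω)) * (w : Ω) * ((y : Ω)⁻¹ * (θ y : Ω))⁻¹) * (y : Ω)⁻¹ = _
  group

/-- The extension of an automorphism of order prime to `p` of the residual subsystem. -/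
theorem exists_residual_ext [Finite S] [Fact p.Prime] {T₀ : Subgroup Ω} (hT₀ : T₀ = E.hyperfocalSubgroup p)
    (hsc : F.StronglyClosed T₀) {α : MulAut T₀} (hα : α ∈ E.autGroup T₀) (hcop : (orderOf α).Coprime p) :
    ∃ β ∈ F.autGroup (T₀ ⊔ centralizerIn S T₀),
      (∀ x : T₀, ((β (Subgroup.inclusion le_sup_left x) : ↥(T₀ ⊔ centralizerIn S T₀)) : Ω) = ((α x : T₀) : Ω)) ∧
      ∀ y : ↥(T₀ ⊔ centralizerIn S T₀), (y : Ω) ∈ centralizerIn S T₀ →
        (y : Ω)⁻¹ * ((β y : ↥(T₀ ⊔ centralizerIn S T₀)) : Ω) ∈ T₀ ⊓ Subgroup.centralizer (T₀ : Set Ω) := by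
  have hTS := c.hTS
  have hT₀T : T₀ ≤ T := hT₀ ▸ hyperfocal_le E
  haveI := finite_of_le hTS
  have hTp := c.pS.to_le hTS
  have hscE : E.StronglyClosed T₀ := stronglyClosed_of_subsystem c.inv.1 hsc hT₀T
  set W := T₀ ⊔ centralizerIn T T₀ with hW
  have hWT : W ≤ T := sup_le hT₀T (centralizerIn_le T₀)
  have hfnE : E.IsFullyNormalized T₀ :=
    isFullyNormalized_of_fixed hT₀T fun φ hφ x => hscE.2 T₀ le_rfl φ hφ x
  obtain ⟨b, hb, hbα, -⟩ := exists_autGroup_ext hTp c.satE (isFullyAutomized_and_fc_of_fn hTp c.satE hfnE).1 hα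
  obtain ⟨a, ha, m, hm, ham, haα, -⟩ := exists_pPrime_extension (le_sup_left : T₀ ≤ W) hWT
    (show (orderOf α).Coprime p from hcop) (pow_orderOf_eq_one α) hb.1 hbα
  have hac : (orderOf a).Coprime p := coprime_of_pow_eq_one hm ham
  obtain ⟨θ, hθ, v, hv, hθv, hθW, hθmod, hθK⟩ := c.exists_residual_theta hT₀ hsc hW hWT ha hac
  refine ⟨θ, hθ, fun x => ?_, fun y hy => ?_⟩
  · exact (hθW _ (Subgroup.mem_sup_left x.2)).trans (haα x)
  have hVS : (T₀ ⊔ centralizerIn S T₀ : Subgroup Ω) ≤ S := sup_le hsc.1 (centralizerIn_le T₀)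
  haveI := finite_of_le hVS
  have hWS : W ≤ S := hWT.trans hTS
  have hW'S : W ⊔ centralizerIn S W ≤ S := sup_le hWS (centralizerIn_le W)
  have hWfix : ∀ φ ∈ F.Hom W, ∀ x : W, φ x ∈ W := fun φ hφ => c.fixed_resW hsc hφ
  set x := y⁻¹ * θ y with hxdef
  have hθC : (θ y : Ω) ∈ centralizerIn S T₀ :=
    apply_mem_centralizerIn (φ := (T₀ ⊔ centralizerIn S T₀ : Subgroup Ω).subtype.comp θ.toMonoidHom) (hAV := le_sup_left)
      (range_eq_of_card_le (restrict_mem ((mem_autGroup hVS).1 hθ) _) hsc.1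
        (fun z => stronglyClosed_aut_mem hsc hθ hVS z.2) le_rfl) (hVS (θ y).2) (mem_centralizerIn.1 hy).2
  have hxC : (x : Ω) ∈ centralizerIn S T₀ := mul_mem (inv_mem hy) hθC
  haveI := finite_of_le hW'S
  have hxn : (x : Ω) ∈ Subgroup.normalizer ((W ⊔ centralizerIn S W : Subgroup Ω) : Set Ω) :=
    Subgroup.mem_normalizer_fintype fun z hz =>
      fixed_sup_centralizer hWS hWfix (F.conj_mem hW'S (hVS x.2)) ⟨z, hz⟩
  obtain ⟨-, -, -, d₀, hd₀, hde⟩ := hθK y hy hxn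
  have hxW : ∀ u : W, (d₀ u : Ω) = (x : Ω) * (u : Ω) * (x : Ω)⁻¹ := fun u => (hde u).symm
  obtain ⟨t, ht, hte⟩ := mem_autInducedBy.1 (mem_autInducedBy_of_sylow c.pS hTS c.satE
    (isFullyNormalized_of_invariant c.pS c.sat c.inv.1 c.sc hWT (isFullyNormalized_of_fixed hWS hWfix)) hd₀
    (mem_autInducedBy.2 ⟨(x : Ω), hVS x.2, hxW⟩))
  have hwW : t⁻¹ * (x : Ω) ∈ centralizerIn S W := mem_centralizerIn.2
    ⟨S.mul_mem (S.inv_mem (hTS ht)) (hVS x.2), fun u hu => by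
      have h1 := (hxW ⟨u, hu⟩).symm.trans (hte ⟨u, hu⟩)
      calc t⁻¹ * (x : Ω) * u = t⁻¹ * ((x : Ω) * u * (x : Ω)⁻¹) * x := by group
        _ = u * (t⁻¹ * x) := by rw [h1]; group⟩
  have hwV : t⁻¹ * (x : Ω) ∈ (T₀ ⊔ centralizerIn S T₀ : Subgroup Ω) := by
    have h : centralizerIn S W ≤ centralizerIn S T₀ :=
      le_inf inf_le_left (inf_le_right.trans (Subgroup.centralizer_le (le_sup_left : T₀ ≤ W)))
    exact Subgroup.mem_sup_right (h hwW)
  have htV : t ∈ (T₀ ⊔ centralizerIn S T₀ : Subgroup Ω) := by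
    have := (T₀ ⊔ centralizerIn S T₀ : Subgroup Ω).mul_mem x.2 ((T₀ ⊔ centralizerIn S T₀ : Subgroup Ω).inv_mem hwV)
    rwa [mul_inv_rev, inv_inv, mul_inv_cancel_left] at this
  have hxmod : (x : Ω)⁻¹ * (θ x : Ω) ∈ T := by
    have h1 : t⁻¹ * (θ ⟨t, htV⟩ : Ω) ∈ T := T.mul_mem (T.inv_mem ht) (stronglyClosed_aut_mem c.sc hθ hVS ht)
    have h2 := hθmod ⟨_, hwV⟩ (Subgroup.mem_sup_right hwW)
    have := T.mul_mem (c.tmem_conj' (centralizerIn_le W hwW) h1) h2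
    rw [show x = ⟨t, htV⟩ * ⟨_, hwV⟩ from Subtype.ext (mul_inv_cancel_left t (x : Ω)).symm, map_mul]
    show (t * (t⁻¹ * (x : Ω)))⁻¹ * ((θ ⟨t, htV⟩ : Ω) * (θ ⟨_, hwV⟩ : Ω)) ∈ T
    convert this using 1
    show _ = (t⁻¹ * (x : Ω))⁻¹ * (t⁻¹ * (θ ⟨t, htV⟩ : Ω)) * (t⁻¹ * (x : Ω)) * ((t⁻¹ * (x : Ω))⁻¹ * (θ ⟨_, hwV⟩ : Ω))
    group
  have hxT : (x : Ω) ∈ T := mem_of_coprime_move c.pS hVS (stronglyClosed_le_normalizer c.sc) hv hθv
    (fun z hz => stronglyClosed_aut_mem c.sc hθ hVS hz) hxmod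
  have hxW' : (x : Ω) ∈ W := Subgroup.mem_sup_right (mem_centralizerIn.2 ⟨hxT, (mem_centralizerIn.1 hxC).2⟩)
  have hxT₀ : (x : Ω) ∈ T₀ := mem_of_coprime_move c.pS hVS (stronglyClosed_le_normalizer hsc) hv hθv
    (fun z hz => stronglyClosed_aut_mem hsc hθ hVS hz) (by
      rw [hθW _ hxW']
      exact hT₀.ge (mem_hyperfocal_of_coprime hWT ha hac ⟨(x : Ω), hxW'⟩))
  exact ⟨hxT₀, hxC.2⟩

/-- The `p`-residual subsystem of a normal subsystem is normal. -/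
theorem residual_isNormalIn [Finite S] [Fact p.Prime] {E₁ : FusionSystem (E.hyperfocalSubgroup p)}
    (h : E.IsPResidual p E₁) : E₁.IsNormalIn F p := by
  haveI := finite_of_le c.hTS
  have hinv : E₁.IsInvariantIn F := isInvariantIn_pPower_sub c.pS c.inv c.satE c.closed_hyperfocal (hyperfocal_le E)
    hyperfocal_subgroupOf_normal le_rfl h.1 h.2
  exact isNormalIn_of_ext c.pS ⟨h.1, c.sat, hinv⟩ fun α hα hc => c.exists_residual_ext rfl c.closed_hyperfocal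
    ((mem_autGroup (hyperfocal_le E)).2 (h.2.1 _ ((mem_autGroup le_rfl).1 hα))) hc

end ProdCtx

end Cfsg.Lib.FusionSys
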