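import Cfsg.Agent.Lib.FusionSys.ProductER.Rigid
import Cfsg.Agent.Lib.FusionSys.ProductER.Residual

/-!
Automorphisms of order prime to `p` of a self-centralizing subgroup of `T` in the subsystem extend, as
automorphisms trivial modulo `T`, to the subgroups of the normalizer on which they act modulo `T`.
-/

set_option autoImplicit false
set_option linter.style.haveILetI false
set_option maxHeartbeats 800000

namespace Cfsg.Lib.FusionSys

open Cfsg Cfsg.FusionSystem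
open scoped Pointwise

variable {Ω : Type*} [Group Ω] {S T : Subgroup Ω} {F : FusionSystem S} {E : FusionSystem T} {p : ℕ}

/-- `b` carries the action of each element of `M` on `U` to that of an element congruent modulo `T`. -/
def ActsMod (T M : Subgroup Ω) {U : Subgroup Ω} (b : MulAut U) : Prop :=
  ∀ g ∈ M, ∃ m ∈ M, g⁻¹ * m ∈ T ∧
    ∀ (x : U) (hx : g * (x : Ω) * g⁻¹ ∈ U), (b ⟨_, hx⟩ : Ω) = m * (b x : Ω) * m⁻¹

namespace ProdCtx

variable (c : ProdCtx F E p)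
include c

/-- The part of a subgroup times its centralizer lying in `T`. -/
theorem mem_of_sup_centralizer {U : Subgroup Ω} (hUT : U ≤ T) (hZ : centralizerIn T U ≤ U) {x : Ω}
    (hx : x ∈ U ⊔ centralizerIn S U) (hxT : x ∈ T) : x ∈ U := by
  obtain ⟨u, hu, w, hw, huw⟩ := exists_mul_of_mem_sup_centralizer (S := S) hx
  rw [huw]
  refine U.mul_mem hu (hZ (mem_centralizerIn.2 ⟨?_, (mem_centralizerIn.1 hw).2⟩))
  have := T.mul_mem (T.inv_mem (hUT hu)) hxT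
  rwa [huw, inv_mul_cancel_left] at this

/-- Normalizers of a subgroup normalize its product with the centralizer. -/
theorem mem_normalizer_sup_centralizer [Finite S] {U : Subgroup Ω} (hU : U ≤ S) {g : Ω} (hg : g ∈ S)
    (hgn : g ∈ Subgroup.normalizer (U : Set Ω)) :
    g ∈ Subgroup.normalizer ((U ⊔ centralizerIn S U : Subgroup Ω) : Set Ω) := by
  haveI := finite_of_le (sup_le hU (centralizerIn_le (S := S) U))
  refine Subgroup.mem_normalizer_fintype fun x hx => ?_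
  obtain ⟨u, hu, w, hw, rfl⟩ := exists_mul_of_mem_sup_centralizer hx
  rw [show g * (u * w) * g⁻¹ = (g * u * g⁻¹) * (g * w * g⁻¹) by group]
  refine mul_mem (Subgroup.mem_sup_left ((Subgroup.mem_normalizer_iff.1 hgn u).1 hu))
    (Subgroup.mem_sup_right (mem_centralizerIn.2
      ⟨S.mul_mem (S.mul_mem hg (centralizerIn_le U hw)) (S.inv_mem hg), fun y hy => ?_⟩))
  have h1 := (mem_centralizerIn.1 hw).2 _ ((Subgroup.mem_normalizer_iff''.1 hgn y).1 hy)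
  calc g * w * g⁻¹ * y = g * (w * (g⁻¹ * y * g)) * g⁻¹ := by group
    _ = g * (g⁻¹ * y * g * w) * g⁻¹ := by rw [h1]
    _ = y * (g * w * g⁻¹) := by group

/-- The receptive extension of a good extension over `M`. -/
theorem exists_ext_actsMod [Finite S] [Fact p.Prime] {U M : Subgroup Ω} (hUT : U ≤ T)
    (hZ : centralizerIn T U ≤ U) (hW : F.IsFullyNormalized (U ⊔ centralizerIn S U))
    (hMS : M ≤ S) (hMn : M ≤ Subgroup.normalizer (U : Set Ω)) {b : MulAut U} (hact : ActsMod T M b)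
    {ψ₀ : MulAut ↥(U ⊔ centralizerIn S U)} (hψ₀ : ψ₀ ∈ goodExt c.sc U (hUT.trans c.hTS))
    {m' : ℕ} (hm' : m'.Coprime p) (hψm : ψ₀ ^ m' = 1)
    (hψe : ∀ x : U, (ψ₀ (Subgroup.inclusion le_sup_left x) : Ω) = (b x : Ω)) :
    ∃ θ ∈ F.autGroup (M ⊔ (U ⊔ centralizerIn S U)), ∃ v : ℕ, v.Coprime p ∧ θ ^ v = 1 ∧
      ∀ x : ↥(U ⊔ centralizerIn S U), (θ (Subgroup.inclusion le_sup_right x) : Ω) = (ψ₀ x : Ω) := by
  classical
  have hUS : U ≤ S := hUT.trans c.hTS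
  have hW'S : U ⊔ centralizerIn S U ≤ S := sup_le hUS (centralizerIn_le U)
  have hnW : ∀ g ∈ M, g ∈ Subgroup.normalizer ((U ⊔ centralizerIn S U : Subgroup Ω) : Set Ω) :=
    fun g hg => c.mem_normalizer_sup_centralizer hUS (hMS hg) (hMn hg)
  have hψU : ∀ (x : ↥(U ⊔ centralizerIn S U)) (hx : (x : Ω) ∈ U), (ψ₀ x : Ω) = (b ⟨(x : Ω), hx⟩ : Ω) :=
    fun x hx => hψe ⟨(x : Ω), hx⟩
  have hψhom : (U ⊔ centralizerIn S U).subtype.comp ψ₀.toMonoidHom ∈ F.Hom (U ⊔ centralizerIn S U) :=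
    (mem_autGroup hW'S).1 hψ₀.1.1
  have hψr : ((U ⊔ centralizerIn S U).subtype.comp ψ₀.toMonoidHom).range = U ⊔ centralizerIn S U := by
    ext y
    exact ⟨fun ⟨x, hx⟩ => hx ▸ (ψ₀ x).2, fun hy => ⟨ψ₀⁻¹ ⟨y, hy⟩, by simp⟩⟩
  obtain ⟨Ψ, hΨ, hΨe⟩ := (isReceptive_of_fc c.pS c.sat (isFullyAutomized_and_fc_of_fn c.pS c.sat hW).1).2
    _ _ hψhom hψr
  have hind : ∀ g (hg : g ∈ M), ∀ m (hm : m ∈ M), g⁻¹ * m ∈ T →
      (∀ (x : U) (hx : g * (x : Ω) * g⁻¹ ∈ U), (b ⟨_, hx⟩ : Ω) = m * (b x : Ω) * m⁻¹) →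
      ψ₀ * conjAut _ (hnW g hg) * ψ₀⁻¹ * (conjAut _ (hnW m hm))⁻¹ ∈ kerT F T (U ⊔ centralizerIn S U) := by
    intro g hg m hm hgm hval
    set γ := conjAut _ (hnW g hg) with hγ
    set γ' := conjAut _ (hnW m hm) with hγ'
    have hγF : γ ∈ F.autGroup (U ⊔ centralizerIn S U) :=
      autInducedBy_le_autGroup hW'S (conjAut_mem_autInducedBy _ (hMS hg))
    have hγ'F : γ' ∈ F.autGroup (U ⊔ centralizerIn S U) :=
      autInducedBy_le_autGroup hW'S (conjAut_mem_autInducedBy _ (hMS hm))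
    refine ⟨mul_mem (mul_mem (mul_mem hψ₀.1.1 hγF) (inv_mem hψ₀.1.1)) (inv_mem hγ'F), fun x hx => ?_,
      fun x => ?_⟩
    · obtain ⟨y, rfl⟩ := γ'.surjective x
      simp only [MulAut.mul_apply, MulAut.inv_apply_self]
      have hy : (y : Ω) ∈ U := by
        refine c.mem_of_sup_centralizer hUT hZ y.2 ?_
        have h := stronglyClosed_aut_mem c.sc (inv_mem hγ'F) hW'S hx
        rwa [MulAut.inv_apply_self] at h
      obtain ⟨z, rfl⟩ := ψ₀.surjective y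
      rw [MulAut.inv_apply_self]
      have hz : (z : Ω) ∈ U := c.mem_of_sup_centralizer hUT hZ z.2 (by
        have h := stronglyClosed_aut_mem c.sc (inv_mem hψ₀.1.1) hW'S (hUT hy)
        rwa [MulAut.inv_apply_self] at h)
      have hgz : ((γ z : _) : Ω) ∈ U := (Subgroup.mem_normalizer_iff.1 (hMn hg) z).1 hz
      refine Subtype.ext ((hψU _ hgz).trans ((hval ⟨(z : Ω), hz⟩ hgz).trans ?_))
      show _ = m * (ψ₀ z : Ω) * m⁻¹
      rw [hψU z hz]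
    · obtain ⟨y, rfl⟩ := γ'.surjective x
      simp only [MulAut.mul_apply, MulAut.inv_apply_self]
      obtain ⟨z, rfl⟩ := ψ₀.surjective y
      rw [MulAut.inv_apply_self]
      have h1 : (γ z : Ω)⁻¹ * (ψ₀ (γ z) : Ω) ∈ T := c.goodExt_mod hUT hψ₀ _
      have h2 : (γ z : Ω)⁻¹ * (γ' (ψ₀ z) : Ω) ∈ T := by
        show (g * (z : Ω) * g⁻¹)⁻¹ * (m * (ψ₀ z : Ω) * m⁻¹) ∈ T
        have e1 := c.tmem_conj (hMS hg) (T.mul_mem (T.mul_mem (c.tmem_conj' (hW'S z.2) hgm)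
          (c.goodExt_mod hUT hψ₀ z)) (T.inv_mem hgm))
        convert e1 using 1
        group
      have h := T.mul_mem (T.inv_mem h2) h1
      rwa [mul_inv_rev, inv_inv, mul_assoc, mul_inv_cancel_left] at h
  have hle : M ⊔ (U ⊔ centralizerIn S U) ≤
      extender S (U ⊔ centralizerIn S U) ((U ⊔ centralizerIn S U).subtype.comp ψ₀.toMonoidHom) := by
    refine sup_le (fun g hg => ?_) (le_extender hW'S (hom_mem hψhom))
    obtain ⟨m, hm, hgm, hval⟩ := hact g hg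
    have hmem : ψ₀ * conjAut _ (hnW g hg) * ψ₀⁻¹ ∈ autInducedBy S (U ⊔ centralizerIn S U) := by
      have h := mul_mem (c.kerT_le_induced hW (hind g hg m hm hgm hval))
        (conjAut_mem_autInducedBy (hnW m hm) (hMS hm))
      rwa [inv_mul_cancel_right] at h
    obtain ⟨t, ht, hte⟩ := mem_autInducedBy.1 hmem
    refine mem_extender_of (hMS hg) (hnW g hg) ht fun x hx => ?_
    show (ψ₀ ⟨g * (x : Ω) * g⁻¹, hx⟩ : Ω) = t * (ψ₀ x : Ω) * t⁻¹
    rw [← hte (ψ₀ x), MulAut.mul_apply, MulAut.mul_apply, MulAut.inv_apply_self]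
    rfl
  have hV : M ⊔ (U ⊔ centralizerIn S U) ≤ S := sup_le hMS hW'S
  haveI := finite_of_le hV
  set Φ := Ψ.comp (Subgroup.inclusion hle) with hΦdef
  have hΦ : Φ ∈ F.Hom (M ⊔ (U ⊔ centralizerIn S U)) := restrict_mem hΨ hle
  have hΦW : ∀ (x : ↥(M ⊔ (U ⊔ centralizerIn S U))) (hx : (x : Ω) ∈ U ⊔ centralizerIn S U),
      Φ x = (ψ₀ ⟨(x : Ω), hx⟩ : Ω) := fun x hx => hΨe x hx _
  have hΦv : ∀ x, Φ x ∈ M ⊔ (U ⊔ centralizerIn S U) := by
    refine hom_mem_of_sup (fun x hx => ?_) fun x hx => ?_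
    · obtain ⟨m, hm, -, hval⟩ := hact _ hx
      have hC : m⁻¹ * Φ x ∈ centralizerIn S U := by
        refine mem_centralizerIn.2 ⟨S.mul_mem (S.inv_mem (hMS hm)) (hom_mem hΦ x), fun y hy => ?_⟩
        obtain ⟨u, hu⟩ := b.surjective ⟨y, hy⟩
        have hxu : (x : Ω) * u * (x : Ω)⁻¹ ∈ U := (Subgroup.mem_normalizer_iff.1 (hMn hx) u).1 u.2
        let u₁ : ↥(M ⊔ (U ⊔ centralizerIn S U)) := ⟨(u : Ω), Subgroup.mem_sup_right (Subgroup.mem_sup_left u.2)⟩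
        have h1 : Φ u₁ = y := (hΦW u₁ (Subgroup.mem_sup_left u.2)).trans
          ((hψU _ u.2).trans (congrArg Subtype.val hu))
        have h2 : Φ (x * u₁ * x⁻¹) = m * y * m⁻¹ := by
          refine (hΦW _ (Subgroup.mem_sup_left hxu)).trans ((hψU _ hxu).trans ?_)
          exact (hval u hxu).trans (congrArg (fun z => m * z * m⁻¹) (congrArg Subtype.val hu))
        rw [map_mul, map_mul, map_inv, h1] at h2
        calc m⁻¹ * Φ x * y = m⁻¹ * (Φ x * y * (Φ x)⁻¹) * Φ x := by group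
          _ = y * (m⁻¹ * Φ x) := by rw [h2]; group
      rw [show Φ x = m * (m⁻¹ * Φ x) by group]
      exact mul_mem (Subgroup.mem_sup_left hm) (Subgroup.mem_sup_right (Subgroup.mem_sup_right hC))
    · rw [hΦW x hx]
      exact Subgroup.mem_sup_right (ψ₀ _).2
  obtain ⟨β₀, hβ₀, hβ₀e⟩ := exists_aut_of_hom hΦ hΦv
  obtain ⟨θ, hθ, v, hv, hθv, hθW, -⟩ := exists_pPrime_extension
    (le_sup_right : U ⊔ centralizerIn S U ≤ M ⊔ (U ⊔ centralizerIn S U)) hV hm' hψm hβ₀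
    fun x => (hβ₀e _).trans (hΦW _ x.2)
  exact ⟨θ, hθ, v, hv, hθv, hθW⟩

/-- The extension at a fully normalized position. -/
theorem exists_bAut_ext_fn [Finite S] [Fact p.Prime] {U M : Subgroup Ω} (hUT : U ≤ T)
    (hZ : centralizerIn T U ≤ U) (hU : F.IsFullyNormalized U) (hW : F.IsFullyNormalized (U ⊔ centralizerIn S U))
    (hUM : U ≤ M) (hMS : M ≤ S) (hMn : M ≤ Subgroup.normalizer (U : Set Ω))
    {b : MulAut U} (hb : b ∈ E.autGroup U) (hbc : (orderOf b).Coprime p) (hact : ActsMod T M b) :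
    ∃ a ∈ bAut F E M, (orderOf a).Coprime p ∧ (∀ x : U, (a (Subgroup.inclusion hUM x) : Ω) = (b x : Ω)) ∧
      ∃ θ ∈ F.autGroup (M ⊔ (U ⊔ centralizerIn S U)),
        (∀ x : ↥(M ⊔ (U ⊔ centralizerIn S U)), (x : Ω)⁻¹ * (θ x : Ω) ∈ T) ∧
        (∀ x : ↥(M ⊔ (U ⊔ centralizerIn S U)), (x : Ω) ∈ U ⊔ centralizerIn S U →
          (θ x : Ω) ∈ U ⊔ centralizerIn S U) ∧
        ∀ x : M, (θ (Subgroup.inclusion le_sup_left x) : Ω) = (a x : Ω) := by
  classical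
  obtain ⟨ψ₀, hψ₀, m', hm', hψm, -, hψe⟩ :=
    exists_goodExt_pPrime (autGroup_le_goodAut c.pS c.norm hUT hU hZ hb) hbc
  obtain ⟨θ, hθ, v, hv, hθv, hθW⟩ := c.exists_ext_actsMod hUT hZ hW hMS hMn hact hψ₀ hm' hψm hψe
  have hW'S : U ⊔ centralizerIn S U ≤ S := sup_le hU.1 (centralizerIn_le U)
  have hV : M ⊔ (U ⊔ centralizerIn S U) ≤ S := sup_le hMS hW'S
  haveI := finite_of_le hV
  have hMV : M ≤ M ⊔ (U ⊔ centralizerIn S U) := le_sup_left
  set i := Subgroup.inclusion hMV with hi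
  have hθU : ∀ x : U, (θ (i (Subgroup.inclusion hUM x)) : Ω) = (b x : Ω) := fun x =>
    (hθW (Subgroup.inclusion le_sup_left x)).trans (hψe x)
  have hval : ∀ (g : M) (m : Ω), m ∈ S →
      (∀ (x : U) (hx : (g : Ω) * (x : Ω) * (g : Ω)⁻¹ ∈ U), (b ⟨_, hx⟩ : Ω) = m * (b x : Ω) * m⁻¹) →
      m⁻¹ * (θ (i g) : Ω) ∈ centralizerIn S U := by
    intro g m hm hv
    refine mem_centralizerIn.2 ⟨S.mul_mem (S.inv_mem hm) (hV (θ (i g)).2), fun y hy => ?_⟩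
    obtain ⟨u, hu⟩ := b.surjective ⟨y, hy⟩
    have hxu : (g : Ω) * u * (g : Ω)⁻¹ ∈ U := (Subgroup.mem_normalizer_iff.1 (hMn g.2) u).1 u.2
    have h1 : (θ (i (Subgroup.inclusion hUM u)) : Ω) = y := (hθU u).trans (congrArg Subtype.val hu)
    have h2 : (θ (i g * i (Subgroup.inclusion hUM u) * (i g)⁻¹) : Ω) = m * y * m⁻¹ := by
      rw [show i g * i (Subgroup.inclusion hUM u) * (i g)⁻¹ = i (Subgroup.inclusion hUM ⟨_, hxu⟩) from
        Subtype.ext rfl, hθU, hv u hxu]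
      exact congrArg (fun z => m * z * m⁻¹) (congrArg Subtype.val hu)
    rw [map_mul, map_mul, map_inv, Subgroup.coe_mul, Subgroup.coe_mul, Subgroup.coe_inv, h1] at h2
    calc m⁻¹ * (θ (i g) : Ω) * y = m⁻¹ * ((θ (i g) : Ω) * y * (θ (i g) : Ω)⁻¹) * (θ (i g) : Ω) := by group
      _ = y * (m⁻¹ * (θ (i g) : Ω)) := by rw [h2]; group
  -- trivial modulo `T` on `M`
  have hmod : ∀ g : M, (g : Ω)⁻¹ * (θ (i g) : Ω) ∈ T := by
    intro g
    obtain ⟨m, hm, hgm, hvm⟩ := hact g g.2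
    have hwC := hval g m (hMS hm) hvm
    refine mem_of_coprime_move c.pS hV (stronglyClosed_le_normalizer c.sc) hv hθv
      (fun z hz => stronglyClosed_aut_mem c.sc hθ hV hz) (x := i g) ?_
    let t₁ : ↥(M ⊔ (U ⊔ centralizerIn S U)) := ⟨(g : Ω)⁻¹ * m, hMV (M.mul_mem (M.inv_mem g.2) hm)⟩
    let w₁ : ↥(M ⊔ (U ⊔ centralizerIn S U)) :=
      ⟨m⁻¹ * (θ (i g) : Ω), Subgroup.mem_sup_right (Subgroup.mem_sup_right hwC)⟩
    have he : (i g)⁻¹ * θ (i g) = t₁ * w₁ := Subtype.ext (by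
      show (g : Ω)⁻¹ * (θ (i g) : Ω) = (g : Ω)⁻¹ * m * (m⁻¹ * (θ (i g) : Ω))
      group)
    have h1 : (w₁ : Ω)⁻¹ * (θ w₁ : Ω) ∈ T := by
      rw [show (θ w₁ : Ω) = (ψ₀ ⟨_, Subgroup.mem_sup_right hwC⟩ : Ω) from hθW ⟨_, Subgroup.mem_sup_right hwC⟩]
      exact hψ₀.2 ⟨_, Subgroup.mem_sup_right hwC⟩ hwC
    have h2 : (t₁ : Ω)⁻¹ * (θ t₁ : Ω) ∈ T :=
      T.mul_mem (T.inv_mem hgm) (stronglyClosed_aut_mem c.sc hθ hV hgm)
    rw [he, map_mul]
    show ((t₁ : Ω) * (w₁ : Ω))⁻¹ * ((θ t₁ : Ω) * (θ w₁ : Ω)) ∈ T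
    have := T.mul_mem (c.tmem_conj' (centralizerIn_le U hwC) h2) h1
    convert this using 1
    show _ = (w₁ : Ω)⁻¹ * ((t₁ : Ω)⁻¹ * (θ t₁ : Ω)) * (w₁ : Ω) * ((w₁ : Ω)⁻¹ * (θ w₁ : Ω))
    group
  have hθM : ∀ g : M, (θ (i g) : Ω) ∈ M := by
    intro g
    obtain ⟨m, hm, hgm, hvm⟩ := hact g g.2
    have hwC := hval g m (hMS hm) hvm
    have hwT : m⁻¹ * (θ (i g) : Ω) ∈ T := by
      rw [show m⁻¹ * (θ (i g) : Ω) = ((g : Ω)⁻¹ * m)⁻¹ * ((g : Ω)⁻¹ * (θ (i g) : Ω)) by group]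
      exact T.mul_mem (T.inv_mem hgm) (hmod g)
    rw [show (θ (i g) : Ω) = m * (m⁻¹ * (θ (i g) : Ω)) by group]
    exact M.mul_mem hm (hUM (hZ (mem_centralizerIn.2 ⟨hwT, (mem_centralizerIn.1 hwC).2⟩)))
  obtain ⟨a, haF, hae⟩ := exists_aut_restrict hV hθ hMV hθM
  have hac : (orderOf a).Coprime p := coprime_of_pow_eq_one hv (aut_pow_eq_one hMV hae hθv)
  have hθmodV : ∀ x : ↥(M ⊔ (U ⊔ centralizerIn S U)), (x : Ω)⁻¹ * (θ x : Ω) ∈ T := by
    intro x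
    have hn' : M ≤ Subgroup.normalizer ((U ⊔ centralizerIn S U : Subgroup Ω) : Set Ω) :=
      fun g hg => c.mem_normalizer_sup_centralizer hU.1 (hMS hg) (hMn hg)
    have hx' : (x : Ω) ∈ ((M : Set Ω) * ((U ⊔ centralizerIn S U : Subgroup Ω) : Set Ω)) := by
      rw [← Subgroup.coe_mul_of_left_le_normalizer_right _ _ hn']
      exact x.2
    obtain ⟨g, hg, y, hy, hxy⟩ := Set.mem_mul.1 hx'
    let y' : ↥(M ⊔ (U ⊔ centralizerIn S U)) := ⟨y, Subgroup.mem_sup_right hy⟩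
    have hxe : x = i ⟨g, hg⟩ * y' := Subtype.ext hxy.symm
    have h2 : y⁻¹ * (θ y' : Ω) ∈ T := by
      rw [show (θ y' : Ω) = (ψ₀ ⟨y, hy⟩ : Ω) from hθW ⟨y, hy⟩]
      exact c.goodExt_mod hUT hψ₀ ⟨y, hy⟩
    rw [hxe, map_mul]
    show (g * y)⁻¹ * ((θ (i ⟨g, hg⟩) : Ω) * (θ y' : Ω)) ∈ T
    have := T.mul_mem (c.tmem_conj' (hW'S hy) (hmod ⟨g, hg⟩)) h2
    convert this using 1
    show _ = y⁻¹ * (g⁻¹ * (θ (i ⟨g, hg⟩) : Ω)) * y * (y⁻¹ * (θ y' : Ω))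
    group
  refine ⟨a, ⟨haF, fun x => by rw [hae]; exact hmod x, ?_⟩, hac, fun x => (hae _).trans (hθU x),
    θ, hθ, hθmodV, fun x hx => ?_, fun x => (hae x).symm⟩
  swap
  · rw [show (θ x : Ω) = (ψ₀ ⟨(x : Ω), hx⟩ : Ω) from hθW ⟨(x : Ω), hx⟩]
    exact (ψ₀ _).2
  -- in the subsystem on the intersection with `T`
  set M₀ := M ⊓ T with hM₀
  have hUM₀ : U ≤ M₀ := le_inf hUM hUT
  haveI := finite_of_le hMS
  haveI := finite_of_le c.hTS
  haveI := finite_of_le (inf_le_left.trans hMS : M₀ ≤ S)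
  have hTp := c.pS.to_le c.hTS
  have hM₀n : M₀ ≤ Subgroup.normalizer (U : Set Ω) := inf_le_left.trans hMn
  have hEfn := isFullyNormalized_of_invariant c.pS c.sat c.inv.1 c.sc hUT hU
  obtain ⟨ψ, hψ, hψx⟩ := (isReceptive_of_fc hTp c.satE (isFullyAutomized_and_fc_of_fn hTp c.satE hEfn).1).2
    U (U.subtype.comp b.toMonoidHom) ((mem_autGroup hUT).1 hb) (by
      ext y
      exact ⟨fun ⟨x, hx⟩ => hx ▸ (b x).2, fun hy => ⟨b⁻¹ ⟨y, hy⟩, by simp⟩⟩)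
  have haM₀ : ∀ g : M₀, (a (Subgroup.inclusion inf_le_left g) : Ω) ∈ M₀ := fun g =>
    ⟨(a _).2, stronglyClosed_aut_mem c.sc haF hMS (x := Subgroup.inclusion inf_le_left g) g.2.2⟩
  have hag : ∀ (g : M₀) (x : U) (hx : (g : Ω) * (x : Ω) * (g : Ω)⁻¹ ∈ U), (b ⟨_, hx⟩ : Ω) =
      (a (Subgroup.inclusion inf_le_left g) : Ω) * (b x : Ω) * (a (Subgroup.inclusion inf_le_left g) : Ω)⁻¹ := by
    intro g x hx
    rw [← hθU, ← hθU, hae]
    conv_rhs => rw [← Subgroup.coe_inv, ← Subgroup.coe_mul, ← Subgroup.coe_mul, ← map_inv, ← map_mul, ← map_mul]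
    exact congrArg (fun z => (θ z : Ω)) (Subtype.ext rfl)
  have hle : M₀ ≤ extender T U (U.subtype.comp b.toMonoidHom) := fun g hg =>
    mem_extender_of hg.2 (hM₀n hg) (haM₀ ⟨g, hg⟩).2 fun x hx => hag ⟨g, hg⟩ x hx
  set χ := ψ.comp (Subgroup.inclusion hle) with hχdef
  have hχ : χ ∈ E.Hom M₀ := restrict_mem hψ hle
  have hχU : ∀ x : U, χ (Subgroup.inclusion hUM₀ x) = (b x : Ω) := fun x => hψx x x.2 _
  have hχv : ∀ g, χ g ∈ M₀ := by
    intro g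
    have hC : (a (Subgroup.inclusion inf_le_left g) : Ω)⁻¹ * χ g ∈ centralizerIn T U := by
      refine mem_centralizerIn.2 ⟨T.mul_mem (T.inv_mem (haM₀ g).2) (hom_mem hχ g), fun y hy => ?_⟩
      obtain ⟨u, hu⟩ := b.surjective ⟨y, hy⟩
      have hxu : (g : Ω) * u * (g : Ω)⁻¹ ∈ U := (Subgroup.mem_normalizer_iff.1 (hM₀n g.2) u).1 u.2
      have h2 : χ (g * Subgroup.inclusion hUM₀ u * g⁻¹) =
          (a (Subgroup.inclusion inf_le_left g) : Ω) * y * (a (Subgroup.inclusion inf_le_left g) : Ω)⁻¹ := by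
        rw [show g * Subgroup.inclusion hUM₀ u * g⁻¹ = Subgroup.inclusion hUM₀ ⟨_, hxu⟩ from Subtype.ext rfl,
          hχU, hag g u hxu]
        exact congrArg (fun z => _ * z * _) (congrArg Subtype.val hu)
      rw [map_mul, map_mul, map_inv, hχU, congrArg Subtype.val hu] at h2
      calc _ * χ g * y = (a (Subgroup.inclusion inf_le_left g) : Ω)⁻¹ * (χ g * y * (χ g)⁻¹) * χ g := by group
        _ = y * ((a (Subgroup.inclusion inf_le_left g) : Ω)⁻¹ * χ g) := by rw [h2]; group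
    rw [show χ g = (a (Subgroup.inclusion inf_le_left g) : Ω) *
      ((a (Subgroup.inclusion inf_le_left g) : Ω)⁻¹ * χ g) by group]
    exact mul_mem (haM₀ g) (hUM₀ (hZ hC))
  obtain ⟨e, he, hee⟩ := exists_aut_of_hom hχ hχv
  obtain ⟨a₀, ha₀F, ha₀e⟩ := exists_aut_restrict hMS haF (inf_le_left : M₀ ≤ M) haM₀
  refine ⟨a₀, ?_, fun x => (ha₀e x).symm⟩
  have ha₀c : (orderOf a₀).Coprime p :=
    coprime_of_pow_eq_one hac (aut_pow_eq_one inf_le_left ha₀e (pow_orderOf_eq_one a))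
  have hM₀S : M₀ ≤ S := inf_le_left.trans hMS
  have heF : e ∈ F.autGroup M₀ := (mem_autGroup hM₀S).2 (c.inv.1 _ ((mem_autGroup inf_le_right).1 he))
  obtain ⟨k, hk⟩ := isPElement_of_fix (U := T) (p := p) c.pS c.hTS hUM₀ inf_le_right hM₀n hZ
    (d := e⁻¹ * a₀) fun x hx => by
      refine e.injective (Subtype.ext ?_)
      rw [MulAut.mul_apply, MulAut.apply_inv_self, ha₀e, hee]
      rw [show x = Subgroup.inclusion hUM₀ ⟨(x : Ω), hx⟩ from rfl, hχU, hae]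
      exact hθU ⟨(x : Ω), hx⟩
  haveI : ((E.autGroup M₀).subgroupOf (F.autGroup M₀)).Normal := ⟨fun y hy g =>
    congr_mem_invariant c.inv inf_le_right ((mem_autGroup hM₀S).1 g.2) hy⟩
  exact mem_of_coprime_mod (p := p) (N := (E.autGroup M₀).subgroupOf (F.autGroup M₀)) (a := ⟨e, heF⟩)
    (b := ⟨a₀, ha₀F⟩) (d := ⟨e⁻¹ * a₀, mul_mem (inv_mem heF) ha₀F⟩) (k := k) he
    (by rw [Subgroup.orderOf_mk]; exact ha₀c) (Subtype.ext hk) (Subtype.ext (mul_inv_cancel_left e a₀).symm)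

/-- The extension at any position. -/
theorem exists_bAut_ext [Finite S] [Fact p.Prime] {U M : Subgroup Ω} (hU : UCentric F T U) (hUM : U ≤ M)
    (hMS : M ≤ S) (hMn : M ≤ Subgroup.normalizer (U : Set Ω))
    {b : MulAut U} (hb : b ∈ E.autGroup U) (hbc : (orderOf b).Coprime p) (hact : ActsMod T M b) :
    ∃ a ∈ bAut F E M, (orderOf a).Coprime p ∧ ∀ x : U, (a (Subgroup.inclusion hUM x) : Ω) = (b x : Ω) := by
  have hUS : U ≤ S := hUM.trans hMS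
  obtain ⟨μ, hμ, hμv, hμfn, hμW⟩ := exists_fn_pos c.pS c.sat hUS
  have hMN : M ≤ normalizerIn S U := fun g hg => ⟨hMS hg, hMn hg⟩
  have hμM := restrict_mem hμ hMN
  set g₂ := homIso hμM rfl with hg₂
  have hg₂F : IsoIn F g₂ := isoIn_homIso hμM rfl
  set U' := img μ (le_normalizerIn hUS) with hU'
  have hU'hom := restrict_mem hμ (le_normalizerIn hUS)
  set gU := homIso hU'hom (rfl : _ = U') with hgU
  have hgUF : IsoIn F gU := isoIn_homIso hU'hom rfl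
  have hU'c : UCentric F T U' := hU.of_conj c.sc ⟨_, hU'hom, rfl⟩
  have hU'M : U' ≤ (μ.comp (Subgroup.inclusion hMN)).range := by
    rintro _ ⟨x, rfl⟩
    exact ⟨Subgroup.inclusion hUM x, rfl⟩
  have hM'n : (μ.comp (Subgroup.inclusion hMN)).range ≤ Subgroup.normalizer (U' : Set Ω) := by
    rintro _ ⟨x, rfl⟩
    exact (hμv _).2
  have hval : ∀ x : U, (g₂ (Subgroup.inclusion hUM x) : Ω) = (gU x : Ω) := fun x => rfl
  have hact' : ActsMod T (μ.comp (Subgroup.inclusion hMN)).range (MulAut.congr gU b) := by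
    rintro _ ⟨g, rfl⟩
    obtain ⟨m, hm, hgm, hv⟩ := hact g g.2
    refine ⟨(g₂ ⟨m, hm⟩ : Ω), (g₂ _).2, ?_, fun y hy => ?_⟩
    · show (g₂ g : Ω)⁻¹ * (g₂ ⟨m, hm⟩ : Ω) ∈ T
      rw [← Subgroup.coe_inv, ← Subgroup.coe_mul, ← map_inv, ← map_mul]
      exact stronglyClosed_apply_mem c.sc hg₂F (x := g⁻¹ * ⟨m, hm⟩) hgm
    · obtain ⟨x, rfl⟩ := gU.surjective y
      have hxu : (g : Ω) * x * (g : Ω)⁻¹ ∈ U := (Subgroup.mem_normalizer_iff.1 (hMn g.2) x).1 x.2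
      have e1 : (⟨_, hy⟩ : U') = gU ⟨_, hxu⟩ := Subtype.ext (by
        show (g₂ g : Ω) * (g₂ (Subgroup.inclusion hUM x) : Ω) * (g₂ g : Ω)⁻¹ = _
        rw [← Subgroup.coe_inv, ← Subgroup.coe_mul, ← Subgroup.coe_mul, ← map_inv, ← map_mul, ← map_mul]
        exact congrArg (fun z => (g₂ z : Ω)) (Subtype.ext rfl))
      rw [e1, show MulAut.congr gU b (gU ⟨_, hxu⟩) = gU (b ⟨_, hxu⟩) by simp [MulAut.congr],
        show MulAut.congr gU b (gU x) = gU (b x) by simp [MulAut.congr], ← hval, ← hval]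
      conv_rhs => rw [← Subgroup.coe_inv, ← Subgroup.coe_mul, ← Subgroup.coe_mul, ← map_inv, ← map_mul, ← map_mul]
      exact congrArg (fun z => (g₂ z : Ω)) (Subtype.ext (hv x hxu))
  obtain ⟨a', ha', hac', hae', -⟩ := c.exists_bAut_ext_fn hU'c.1 (hU'c.self c.sc) hμfn hμW hU'M hg₂F.le_right hM'n
    (congr_mem_invariant c.inv hU.1 hgUF hb) (by rwa [MulEquiv.orderOf_eq]) hact'
  refine ⟨MulAut.congr g₂.symm a', c.bAut_congr hg₂F.symm ha', by rwa [MulEquiv.orderOf_eq], fun x => ?_⟩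
  refine congrArg (Subtype.val (p := (· ∈ M))) (?_ : _ = Subgroup.inclusion hUM (b x))
  refine g₂.injective (Subtype.ext ?_)
  show (g₂ (g₂.symm (a' (g₂ (Subgroup.inclusion hUM x)))) : Ω) = _
  rw [MulEquiv.apply_symm_apply, hval]
  refine Eq.trans (congrArg (fun z => (a' z : Ω)) (Subtype.ext (hval x) : g₂ (Subgroup.inclusion hUM x) =
    Subgroup.inclusion hU'M (gU x))) ((hae' (gU x)).trans ?_)
  simp [MulAut.congr]

end ProdCtx

end Cfsg.Lib.FusionSys
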