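import Cfsg.Agent.Lib.FusionSys.ProductER.System
import Cfsg.Agent.Lib.FusionSys.SatFamily
import Cfsg.Agent.Lib.FusionSys.Inner

/-!
The automizer generated by the bounding automorphisms of order prime to `p` and the conjugations contains the
automorphisms extending into the normalizer of a member with largest normalizer, at every level.
-/

set_option autoImplicit false
set_option linter.style.haveILetI false
set_option maxHeartbeats 800000

namespace Cfsg.Lib.FusionSys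

open Cfsg Cfsg.FusionSystem
open scoped Pointwise

variable {Ω : Type*} [Group Ω] {S T : Subgroup Ω} {F : FusionSystem S} {E : FusionSystem T} {p : ℕ}

/-- The expected automizer. -/
def kM (F : FusionSystem S) (E : FusionSystem T) (p : ℕ) (M : Subgroup Ω) : Subgroup (MulAut M) :=
  aGenP F E p M ⊔ autInducedBy S M

theorem autInducedBy_le_kM (M : Subgroup Ω) : autInducedBy S M ≤ kM F E p M := le_sup_right

theorem aGenP_le_kM (M : Subgroup Ω) : aGenP F E p M ≤ kM F E p M := le_sup_left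

theorem kM_le_autGroup {M : Subgroup Ω} (hM : M ≤ S) : kM F E p M ≤ F.autGroup M :=
  sup_le (aGenP_le_autGroup M) (autInducedBy_le_autGroup hM)

namespace ProdCtx

variable (c : ProdCtx F E p)
include c
variable [Finite S] [Fact p.Prime]

theorem kM_le_pSys {M : Subgroup Ω} (hM : InH F T M) : kM F E p M ≤ (c.pSys 0).autGroup M :=
  sup_le (c.aGenP_le_pSys hM) (autInducedBy_le_autGroup hM.1)

theorem exists_mul_kM {M : Subgroup Ω} (hM : M ≤ S) {k : MulAut M} (hk : k ∈ kM F E p M) :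
    ∃ a ∈ aGenP F E p M, ∃ s ∈ autInducedBy S M, k = a * s := by
  have hn : autInducedBy S M ≤ Subgroup.normalizer ((aGenP F E p M : Subgroup (MulAut M)) : Set (MulAut M)) := by
    intro s hs
    have hsF := autInducedBy_le_autGroup (F := F) hM hs
    refine Subgroup.mem_normalizer_iff.2 fun a => ⟨fun ha => c.aGenP_normal hM ha hsF, fun ha => ?_⟩
    have h := c.aGenP_normal hM ha (inv_mem hsF)
    simpa [mul_assoc] using h
  have h : k ∈ ((aGenP F E p M : Set (MulAut M)) * (autInducedBy S M : Set (MulAut M))) := by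
    rw [← Subgroup.coe_mul_of_right_le_normalizer_left _ _ hn]
    exact hk
  obtain ⟨a, ha, s, hs, has⟩ := Set.mem_mul.1 h
  exact ⟨a, ha, s, hs, has.symm⟩

theorem autGroup_pSys_le_bSys (n : ℕ) {M : Subgroup Ω} (hM : M ≤ S) :
    (c.pSys n).autGroup M ≤ c.bSys.autGroup M := fun _ ha =>
  (mem_autGroup hM).2 (c.pSys_sub_bSys n _ ((mem_autGroup hM).1 ha))

theorem mem_aGenP_of_coprime {M : Subgroup Ω} (hM : M ≤ S) {a : MulAut M} (ha : a ∈ c.bSys.autGroup M)
    (hc : (orderOf a).Coprime p) : a ∈ aGenP F E p M :=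
  Subgroup.subset_closure ⟨c.mem_bAut_of_coprime hM ha hc, hc⟩

/-- An isomorphism extending between the normalizers carries the expected automizer into the expected one. -/
theorem congr_kM_of_ext {n : ℕ} {A B : Subgroup Ω} {e : A ≃* B}
    (h : ExtIso (c.pSys n) (normalizerIn S A) (normalizerIn S B) e) {k : MulAut A} (hk : k ∈ kM F E p A) :
    MulAut.congr e k ∈ kM F E p B := by
  have he : IsoIn F e := c.isoIn_of_pSys h.isoIn
  have hle : kM F E p A ≤ (kM F E p B).comap (MulAut.congr e).toMonoidHom := by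
    refine sup_le (fun a ha => aGenP_le_kM B (c.aGenP_congr he ha)) fun s hs => autInducedBy_le_kM B ?_
    obtain ⟨hA, ψ, -, hv, hψe⟩ := h
    obtain ⟨g, hg, hge⟩ := mem_autInducedBy.1 hs
    have hgN : g ∈ normalizerIn S A := ⟨hg, mem_normalizer_of_aut hge⟩
    refine mem_autInducedBy.2 ⟨ψ ⟨g, hgN⟩, (hv _).1, fun y => ?_⟩
    obtain ⟨x, rfl⟩ := e.surjective y
    rw [show (MulAut.congr e).toMonoidHom s (e x) = e (s x) by simp [MulAut.congr],
      ← hψe _ (s x).2 (hA (s x).2), ← hψe _ x.2 (hA x.2), ← map_inv, ← map_mul, ← map_mul]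
    exact congrArg ψ (Subtype.ext (hge x))
  exact hle hk

/-- Restrictions of stabilizers with an induced Sylow subgroup. -/
theorem restr_mem_kM {n : ℕ} {R0 Ps : Subgroup Ω} (hst : SylowStab (c.pSys n) p R0 Ps) (hPs : Ps ≤ R0)
    (hR0 : R0 ≤ S) (k : stabAut (c.pSys n) R0 Ps) : restrAut hPs k ∈ kM F E p Ps := by
  haveI := finite_mulAut_of_le hR0
  obtain ⟨W, hW⟩ := hst
  have h : (W : Subgroup (stabAut (c.pSys n) R0 Ps)) ⊔ pResidual p (stabAut (c.pSys n) R0 Ps) ≤
      (kM F E p Ps).comap (restrAut hPs) := by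
    refine sup_le (fun w hw => ?_) ((Subgroup.closure_le _).2 fun w hw => ?_)
    · rw [hW, Subgroup.mem_subgroupOf] at hw
      obtain ⟨g, hg, hge⟩ := mem_autInducedBy.1 hw
      exact autInducedBy_le_kM Ps (mem_autInducedBy.2 ⟨g, hg, fun a => hge ⟨a, hPs a.2⟩⟩)
    · exact aGenP_le_kM Ps (c.mem_aGenP_of_coprime (hPs.trans hR0)
        (c.autGroup_pSys_le_bSys n (hPs.trans hR0) (restrAut_mem hPs hR0 w))
        (Nat.Coprime.coprime_dvd_left (orderOf_map_dvd (restrAut hPs) w) hw))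
  rw [Cfsg.Lib.Fusion.sylow_sup_pResidual W] at h
  exact h (Subgroup.mem_top k)

/-- Automorphisms extending into the normalizer lie in the expected automizer. -/
theorem extGen_le_kM {n : ℕ} {Qd : Subgroup Ω} (hgood : GoodAbove (c.pSys n) p Qd)
    (htop : ∀ A, (c.pSys n).IsConj Qd A → ToP (c.pSys n) Qd A) :
    ∀ (m : ℕ) (R : Subgroup Ω) (α : MulAut Qd), Nat.card S ≤ Nat.card R + m → Qd < R →
      R ≤ normalizerIn S Qd →
      ExtIso (c.pSys n) R (normalizerIn S Qd) (α : Qd ≃* Qd) → α ∈ kM F E p Qd := by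
  have hS := c.pS
  set N := normalizerIn S Qd with hNdef
  have hNS : N ≤ S := normalizerIn_le Qd
  haveI := finite_of_le hNS
  intro m
  induction m using Nat.strong_induction_on with
  | _ m ih =>
  intro R α hm hQR hRN hext
  have hRS : R ≤ S := hRN.trans hNS
  haveI := finite_of_le hRS
  have hRn : R ≤ Subgroup.normalizer (Qd : Set Ω) := hRN.trans inf_le_right
  have hcard : Nat.card Qd < Nat.card R := by
    by_contra hh
    exact hQR.ne (Subgroup.eq_of_le_of_card_ge hQR.le (not_lt.1 hh))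
  rcases lt_or_eq_of_le hRN with hlt | heq
  swap
  · -- the whole normalizer
    subst heq
    obtain ⟨hQN, ψ, hψ, hv, hψe⟩ := hext
    let β : MulAut N := homIso hψ (range_eq_of_card_le hψ hNS hv le_rfl)
    have hβ : β ∈ (c.pSys n).autGroup N := (mem_autGroup hNS).2 (isoIn_homIso hψ _)
    obtain ⟨R₀, hR₀, hfa, hrec⟩ := hgood N hNS hcard
    obtain ⟨Ps, f₁, g₁, hPsR, hst, hf₁, hg₁, hg₁c⟩ := exists_good_move (A := Qd) (R := N) (T := N) hS hfa hrec
      hR₀ hQN le_rfl (le_normalizerIn hNS) inf_le_right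
    have hf₁' : ExtIso (c.pSys n) N (normalizerIn S Ps) f₁ := hf₁.mono hf₁.1 le_rfl inf_le_right
    obtain ⟨χ, hχ⟩ := htop Ps (isConj_iff.2 ⟨f₁, hf₁.isoIn⟩)
    have hsymm := hf₁'.symm_of_card (normalizerIn_le Ps) (hχ.card_le hNS)
    have hR₀S : R₀ ≤ S := hrec.1
    have hk : MulAut.congr g₁ β ∈ stabAut (c.pSys n) R₀ Ps := by
      refine ⟨congr_mem_autGroup hg₁.isoIn hβ, fun x => ?_⟩
      obtain ⟨r, rfl⟩ := g₁.surjective x
      rw [show MulAut.congr g₁ β (g₁ r) = g₁ (β r) by simp [MulAut.congr],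
        ← mem_iff_of_compat g₁ f₁ hQN hg₁c, ← mem_iff_of_compat g₁ f₁ hQN hg₁c]
      exact mem_iff_of_compat (β : N ≃* N) (α : Qd ≃* Qd) hQN (fun a => (hψe a a.2 (hQN a.2)).symm) r
    have hρ := c.restr_mem_kM hst hPsR hR₀S ⟨_, hk⟩
    have h := c.congr_kM_of_ext hsymm hρ
    convert h using 1
    refine MulEquiv.ext fun x => ?_
    show α x = f₁.symm (restrAut hPsR ⟨_, hk⟩ (f₁ x))
    rw [MulEquiv.eq_symm_apply]
    refine Subtype.ext ?_
    rw [coe_restrAut, hg₁c, show (⟨(f₁ x : Ω), hPsR (f₁ x).2⟩ : R₀) = g₁ ⟨x, hQN x.2⟩ from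
      Subtype.ext (hg₁c x), show MulAut.congr g₁ β (g₁ ⟨x, hQN x.2⟩) = g₁ (β ⟨x, hQN x.2⟩) by simp [MulAut.congr]]
    exact congrArg (fun z : N => (g₁ z : Ω)) (Subtype.ext (hψe x x.2 (hQN x.2)).symm)
  obtain ⟨-, ψ, hψ, hψv, hψe⟩ := id hext
  obtain ⟨R', E₀, hE, -, hR', -, -, hEv⟩ := exists_image_iso (A := R) hψ le_rfl
  have hR'N : R' ≤ N := by
    rw [hR']
    rintro _ ⟨x, -, rfl⟩
    exact hψv x
  have hc : ∀ a : Qd, ((α a : Qd) : Ω) = (E₀ ⟨a, hQR.le a.2⟩ : Ω) := fun a => by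
    rw [hEv]
    exact (hψe a a.2 _).symm
  have hQR' : Qd ≤ R' := by
    intro y hy
    have := (E₀ ⟨_, hQR.le ((α : Qd ≃* Qd).symm ⟨y, hy⟩).2⟩).2
    rwa [← hc, MulEquiv.apply_symm_apply] at this
  have hcR' : Nat.card R = Nat.card R' := Nat.card_congr E₀.toEquiv
  have hR'lt : R' < N := lt_of_le_of_ne hR'N fun h => by
    subst h
    exact hlt.ne (Subgroup.eq_of_le_of_card_ge hRN hcR'.ge)
  set T' := normalizerIn N R' with hT'def
  have hR'T : R' < T' := lt_normalizerIn (hS.to_le hNS) hR'lt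
  have hcT' : Nat.card R < Nat.card T' := by
    haveI : Finite T' := finite_of_le ((normalizerIn_le R').trans hNS)
    rw [hcR']
    by_contra hh
    exact hR'T.ne (Subgroup.eq_of_le_of_card_ge hR'T.le (not_lt.1 hh))
  obtain ⟨R₀, hR₀, hfa, hrec⟩ := hgood R hRS hcard
  have hR'R₀ : (c.pSys n).IsConj R' R₀ :=
    isConj_trans (isConj_symm (isConj_iff.2 ⟨E₀, hE.isoIn⟩)) hR₀
  obtain ⟨Ps, f₁, g₁, hPsR, hst, hf₁, hg₁, hg₁c⟩ := exists_good_move (A := Qd) hS hfa hrec hR'R₀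
    hQR' hR'T.le (le_inf ((normalizerIn_le R').trans hNS) inf_le_right)
    ((normalizerIn_le R').trans inf_le_right)
  obtain ⟨χ, hχ⟩ := htop Ps (isConj_iff.2 ⟨f₁, hf₁.isoIn⟩)
  have hT'S : Nat.card T' ≤ Nat.card S := card_le_of_le ((normalizerIn_le R').trans hNS)
  have hμ : (f₁.trans χ : MulAut Qd) ∈ kM F E p Qd :=
    ih (Nat.card S - Nat.card T') (by omega)
      T' _ (by omega) (lt_of_le_of_lt hQR' hR'T) (normalizerIn_le R')
      ((hf₁.mono hf₁.1 le_rfl inf_le_right).trans hχ)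
  -- the move of `R`
  let Θ : R ≃* R₀ := E₀.trans g₁
  have hΘ : IsoIn (c.pSys n) Θ := hE.isoIn.trans hg₁.isoIn
  let θ : Qd ≃* Ps := (α : Qd ≃* Qd).trans f₁
  have hθ : IsoIn (c.pSys n) θ := hext.isoIn.trans hf₁.isoIn
  have hθc : ∀ a : Qd, (θ a : Ω) = (Θ ⟨a, hQR.le a.2⟩ : Ω) := fun a => by
    show (f₁ (α a) : Ω) = (g₁ (E₀ ⟨a, hQR.le a.2⟩) : Ω)
    rw [hg₁c]
    exact congrArg (fun z : R' => (g₁ z : Ω)) (Subtype.ext (hc a))
  have hR₀S : R₀ ≤ S := hrec.1
  haveI := finite_mulAut_of_le hR₀S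
  set K₀ := stabAut (c.pSys n) R₀ Ps with hK₀def
  obtain ⟨W, hW⟩ := id hst
  set Rp := normalizerIn N R with hRpdef
  have hRRp : R < Rp := lt_normalizerIn (hS.to_le hNS) hlt
  have hRpN : Rp ≤ N := normalizerIn_le R
  have hx : ∀ g (hg : g ∈ Rp), MulAut.congr Θ (conjAut R hg.2) ∈ K₀ := by
    intro g hg
    refine ⟨congr_mem_autGroup hΘ (autInducedBy_le_autGroup hRS
      (conjAut_mem_autInducedBy hg.2 (hNS hg.1))), fun x => ?_⟩
    obtain ⟨r, rfl⟩ := Θ.surjective x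
    rw [show MulAut.congr Θ (conjAut R hg.2) (Θ r) = Θ (conjAut R hg.2 r) by simp [MulAut.congr],
      ← mem_iff_of_compat Θ θ hQR.le hθc, ← mem_iff_of_compat Θ θ hQR.le hθc, coe_conjAut]
    exact Subgroup.mem_normalizer_iff.1 hg.1.2 _
  let τ : Rp →* K₀ :=
    { toFun := fun g => ⟨_, hx g g.2⟩
      map_one' := Subtype.ext (by
        show MulAut.congr Θ (conjAut R _) = 1
        rw [show conjAut R (show (1 : Ω) ∈ Subgroup.normalizer (R : Set Ω) from Subgroup.one_mem _) = 1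
          from map_one R.normalizerMonoidHom, map_one])
      map_mul' := fun a b => Subtype.ext (by
        show MulAut.congr Θ (conjAut R _) = _
        rw [conjAut_mul a.2.2 b.2.2, map_mul]
        rfl) }
  have hRpp : IsPGroup p Rp := hS.to_le (hRpN.trans hNS)
  obtain ⟨W', hW'⟩ := ((hRpp.to_subgroup ⊤).map τ).exists_le_sylow
  obtain ⟨k, hk⟩ := MulAction.exists_smul_eq K₀ W' W
  let γ : R ≃* R₀ := Θ.trans (k : MulAut R₀)
  have hγ : ExtIso (c.pSys n) Rp (normalizerIn S R₀) γ := by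
    refine exists_extIso_of_receptive hrec (hΘ.trans ((mem_autGroup hR₀S).1 k.2.1)) hRRp.le
      (le_inf (hRpN.trans hNS) inf_le_right) fun g hg => ?_
    have h1 : k * τ ⟨g, hg⟩ * k⁻¹ ∈ (W : Subgroup K₀) := by
      rw [← hk, Sylow.coe_subgroup_smul]
      exact Subgroup.smul_mem_pointwise_smul _ (MulAut.conj k) _
        (hW' ⟨⟨g, hg⟩, Subgroup.mem_top _, rfl⟩)
    rw [hW, Subgroup.mem_subgroupOf] at h1
    convert h1 using 1
    exact MulEquiv.ext fun x => rfl
  let ρk : MulAut Ps := restrAut hPsR k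
  let θ' : Qd ≃* Ps := θ.trans ρk
  have hθR : ExtIso (c.pSys n) Rp (normalizerIn S Ps) θ' := by
    have h1 := hγ.restrict (e := θ') hQR.le fun a => by
      show ((restrAut hPsR k (θ a) : Ps) : Ω) = ((k : MulAut R₀) (Θ ⟨a, hQR.le a.2⟩) : Ω)
      rw [coe_restrAut]
      exact congrArg (fun z : R₀ => ((k : MulAut R₀) z : Ω)) (Subtype.ext (hθc a))
    exact (h1.normalizes (hRpN.trans inf_le_right)).mono h1.1 le_rfl inf_le_right
  have hαμ : (θ'.trans χ : MulAut Qd) ∈ kM F E p Qd := by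
    have hcRp : Nat.card R < Nat.card Rp := by
      haveI := finite_of_le (hRpN.trans hNS)
      by_contra hh
      exact hRRp.ne (Subgroup.eq_of_le_of_card_ge hRRp.le (not_lt.1 hh))
    have := card_le_of_le (hRpN.trans hNS)
    exact ih (Nat.card S - Nat.card Rp) (by omega) Rp _ (by omega) (hQR.trans hRRp) hRpN
      (hθR.trans hχ)
  -- the correction at `R₀`
  have hρk : ρk ∈ kM F E p Ps := c.restr_mem_kM hst hPsR hR₀S k
  have h := mul_mem (mul_mem (inv_mem hμ) (c.congr_kM_of_ext hχ (inv_mem hρk))) hαμ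
  convert h using 1
  refine MulEquiv.ext fun x => ?_
  show α x = f₁.symm (χ.symm (χ (ρk⁻¹ (χ.symm (χ (ρk (f₁ (α x))))))))
  rw [MulEquiv.symm_apply_apply, MulEquiv.symm_apply_apply, MulAut.inv_apply_self, MulEquiv.symm_apply_apply]

theorem bigIso_level {n : ℕ} {R A B : Subgroup Ω} (hn : Nat.card R = n) (hlt : n < Nat.card S) (e : A ≃* B)
    (he : IsoIn (c.pSys n) e) (hA : (c.pSys n).IsConj R A) : BigIso (c.pSys n) e := by
  refine bigIso_of_generated {M | n < Nat.card M} (fun M hM M' hM' => ?_) (fun G hG => ?_) ?_ (hn ▸ hlt) e he hA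
  · show n < Nat.card M'
    rw [← card_eq_of_isConj hM']
    exact hM
  · exact c.pSys_le fun M hM hcard a ha =>
      (mem_autGroup hM.1).2 (hG M hcard ((mem_autGroup hM.1).1 (c.gen_pSys n M hM hcard ha)))
  · show ¬ n < Nat.card R
    omega

/-- The classes at a level agree with those of the system. -/
theorem isConj_level {n : ℕ} {R A : Subgroup Ω} (hn : n ≤ Nat.card R) (h : (c.pSys 0).IsConj R A) :
    (c.pSys n).IsConj R A := by
  obtain ⟨φ, hφ, rfl⟩ := h
  rcases lt_or_eq_of_le hn with hlt | heq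
  · exact ⟨φ, (c.pSys_level n hφ).1 hlt, rfl⟩
  · obtain ⟨a, -, ψ, hψ, hψe⟩ := (c.pSys_level n hφ).2 heq.symm
    exact ⟨ψ, hψ, Subgroup.ext fun y => ⟨fun ⟨x, hx⟩ => ⟨a⁻¹ x, by rw [hψe, MulAut.apply_inv_self, hx]⟩,
      fun ⟨x, hx⟩ => ⟨a x, by rw [← hψe, hx]⟩⟩⟩

theorem isConj_of_level {n : ℕ} {R A : Subgroup Ω} (h : (c.pSys n).IsConj R A) : (c.pSys 0).IsConj R A := by
  obtain ⟨φ, hφ, hr⟩ := h
  exact ⟨φ, c.pSys_mono (Nat.zero_le n) R hφ, hr⟩

/-- The automizer of a member with largest normalizer and the extensions to it. -/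
theorem aut_le_kM {Qd : Subgroup Ω} (hQS : Qd ≤ S) (hgood : GoodAbove (c.pSys (Nat.card Qd)) p Qd)
    (hmax : ∀ A, (c.pSys 0).IsConj Qd A → Nat.card (normalizerIn S A) ≤ Nat.card (normalizerIn S Qd)) :
    (c.pSys 0).autGroup Qd ≤ kM F E p Qd ∧ ∀ A, (c.pSys 0).IsConj Qd A → ToP (c.pSys 0) Qd A := by
  set n := Nat.card Qd with hn
  suffices h : (c.pSys n).autGroup Qd ≤ kM F E p Qd ∧ ∀ A, (c.pSys n).IsConj Qd A → ToP (c.pSys n) Qd A by
    refine ⟨fun β hβ => ?_, fun A hA => ?_⟩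
    · obtain ⟨a, ha, ψ, hψ, hψe⟩ := (c.pSys_level n ((mem_autGroup hQS).1 hβ)).2 rfl
      have hr : ψ.range = Qd := Subgroup.ext fun y =>
        ⟨fun ⟨x, hx⟩ => by
          rw [← hx, show x = a (a⁻¹ x) from (MulAut.apply_inv_self _ a x).symm, ← hψe]
          exact (β _).2,
        fun hy => ⟨a (β⁻¹ ⟨y, hy⟩), by
          rw [← hψe]
          exact congrArg Subtype.val (MulAut.apply_inv_self _ β ⟨y, hy⟩)⟩⟩
      have hb : β = (homIso hψ hr : MulAut Qd) * a := MulEquiv.ext fun x => Subtype.ext (hψe x)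
      rw [hb]
      refine mul_mem (h.1 ((mem_autGroup hQS).2 (isoIn_homIso hψ hr))) ?_
      rcases ha with rfl | ⟨-, ha⟩
      · exact one_mem _
      · exact aGenP_le_kM Qd ha
    · obtain ⟨e, hA, ψ, hψ, hv, he⟩ := h.2 A (c.isConj_level hn.le hA)
      exact ⟨e, hA, ψ, c.pSys_mono (Nat.zero_le n) _ hψ, hv, he⟩
  rcases lt_or_eq_of_le (card_le_of_le hQS : n ≤ Nat.card S) with hlt | heq
  swap
  · have hQU : Qd = S := eq_of_le_of_card_le le_rfl hQS heq.ge
    subst hQU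
    constructor
    · intro β hβ
      have hin : c.pSys n ≤ innerFusionSystem Qd := c.pSys_le fun M hM hcard => by
        have := card_le_of_le hM.1
        omega
      obtain ⟨-, g, hg, hge⟩ := hin _ ((mem_autGroup le_rfl).1 hβ)
      exact autInducedBy_le_kM Qd (mem_autInducedBy.2 ⟨g, hg, hge⟩)
    · intro A hA
      obtain rfl := eq_top_of_isConj hA
      exact ⟨MulEquiv.refl _, extIso_refl _ (normalizerIn_le _) (le_normalizerIn le_rfl)⟩
  have hbig : ∀ (A B : Subgroup Ω) (e : A ≃* B), IsoIn (c.pSys n) e → (c.pSys n).IsConj Qd A →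
      BigIso (c.pSys n) e := fun A B e he hA => c.bigIso_level hn.symm hlt e he hA
  have hclass : ∀ A, (c.pSys n).IsConj Qd A → ToP (c.pSys n) Qd A := fun A hA =>
    toP_of_isConj c.pS hgood hbig (fun A hA => hmax A (c.isConj_of_level hA)) hA
  refine ⟨(autGroup_le_closure_extGen c.pS hclass hbig hQS).trans ((Subgroup.closure_le _).2 ?_), hclass⟩
  rintro α ⟨R, h1, h2, h3⟩
  exact c.extGen_le_kM hgood hclass _ R α (Nat.le_add_left _ _) h1 h2 h3

end ProdCtx

end Cfsg.Lib.FusionSys
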