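import Cfsg.Agent.Lib.FusionSys.ProductER.Reach

/-!
A subgroup meeting `T` in a subgroup that is not self-centralizing for all conjugates moves in the system to one
where this intersection does not contain its centralizer in `T`.
-/

set_option autoImplicit false
set_option linter.style.haveILetI false
set_option maxHeartbeats 800000

namespace Cfsg.Lib.FusionSys

open Cfsg Cfsg.FusionSystem
open scoped Pointwise

variable {Ω : Type*} [Group Ω] {S T : Subgroup Ω} {F : FusionSystem S} {E : FusionSystem T} {p : ℕ}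

namespace ProdCtx

variable (c : ProdCtx F E p)
include c
variable [Finite S] [Fact p.Prime]

theorem uCentric_of_pMaxT {U : Subgroup Ω} (hU : c.PMaxT U) (hC : centralizerIn T U ≤ U) : UCentric F T U := by
  haveI := finite_of_le c.hTS
  exact c.uCentric_of_centricE (isCentric_of_isFullyCentralized
    (isFullyAutomized_and_fc_of_fn (c.pS.to_le c.hTS) c.satE (c.fnE_of_pMaxT hU)).1 hC)

theorem inter_map {M Q : Subgroup Ω} {e : M ≃* Q} (he : IsoIn F e) {y : Ω} (hy : y ∈ Q ⊓ T) :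
    ∃ a : M, (a : Ω) ∈ T ∧ (e a : Ω) = y :=
  ⟨e.symm ⟨y, hy.1⟩, stronglyClosed_apply_mem c.sc he.symm (x := ⟨y, hy.1⟩) hy.2, by
    rw [MulEquiv.apply_symm_apply]⟩

/-- The move for a member that is not self-centralizing, when its normalizer in `T` is. -/
theorem exists_step {M : Subgroup Ω} (hM : M ≤ S) (hC : centralizerIn T (M ⊓ T) ≤ M ⊓ T)
    (hnc : ¬ UCentric F T (M ⊓ T)) (hN : UCentric F T (normalizerIn T (M ⊓ T))) :
    ∃ (Q : Subgroup Ω) (e : M ≃* Q), IsoIn (c.pSys 0) e ∧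
      Nat.card (normalizerIn T (M ⊓ T)) < Nat.card (normalizerIn T (Q ⊓ T)) := by
  classical
  haveI := finite_of_le c.hTS
  set A := M ⊓ T with hA
  have hAT : A ≤ T := inf_le_right
  have hAS : A ≤ S := hAT.trans c.hTS
  obtain ⟨U0, hAU, hmax⟩ := c.exists_pMax hAT
  have hU0T : U0 ≤ T := hmax.1.1
  have hU0S : U0 ≤ S := hU0T.trans c.hTS
  have hFconj : F.IsConj A U0 := by
    obtain ⟨φ, hφ, hr⟩ := hAU
    exact ⟨φ, hφ.1, hr⟩
  haveI := finite_of_le hU0S
  haveI : Finite (MulAut U0) := Finite.of_injective (fun f => (f : U0 → U0)) DFunLike.coe_injective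
  obtain ⟨e0, he0⟩ := isConj_iff.1 hAU
  set NA := normalizerIn T A with hNA
  have hNAS : NA ≤ S := (normalizerIn_le A).trans c.hTS
  have hAN : A ≤ NA := le_normalizerIn hAT
  have hMn : ∀ g ∈ M, g ∈ Subgroup.normalizer (A : Set Ω) := fun g hg =>
    mem_normalizer_inter (Subgroup.le_normalizer hg) (stronglyClosed_le_normalizer c.sc (hM hg))
  set H := M ⊔ NA with hH
  have hHS : H ≤ S := sup_le hM hNAS
  have hHA : H ≤ Subgroup.normalizer (A : Set Ω) := sup_le hMn inf_le_right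
  have hHN : H ≤ normalizerIn S NA := le_inf hHS fun g hg =>
    mem_normalizer_inter (stronglyClosed_le_normalizer c.sc (hHS hg)) (Subgroup.le_normalizer (hHA hg))
  -- the Sylow subgroup
  set B := c.bSys.autGroup U0 with hB
  set X := (autInducedBy H A).map (MulAut.congr e0).toMonoidHom with hX
  have hXB : X ≤ B := by
    rintro _ ⟨d, hd, rfl⟩
    exact congr_mem_autGroup he0 (autInducedBy_le_autGroup hAS (autInducedBy_mono hHS hd))
  obtain ⟨R, hR⟩ := ((isPGroup_autInducedBy (P := U0) (c.pS.to_le c.hTS)).comap_subtype :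
    IsPGroup p ((autInducedBy T U0).subgroupOf B)).exists_le_sylow
  obtain ⟨W', hW'⟩ := (((isPGroup_autInducedBy (P := A) (c.pS.to_le hHS)).map
    (MulAut.congr e0).toMonoidHom).comap_subtype : IsPGroup p (X.subgroupOf B)).exists_le_sylow
  obtain ⟨k, hk⟩ := MulAction.exists_smul_eq B W' R
  set Rm := (R : Subgroup B).map B.subtype with hRm
  have hRmp : IsPGroup p Rm := R.isPGroup'.map _
  have hTB : autInducedBy T U0 ≤ B := (autInducedBy_mono c.hTS).trans (autInducedBy_le_autGroup hU0S)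
  have hTR : autInducedBy T U0 ≤ Rm := fun a ha => ⟨⟨a, hTB ha⟩, hR (Subgroup.mem_subgroupOf.2 ha), rfl⟩
  set w : A ≃* U0 := e0.trans (k : MulAut U0) with hw
  have hwB : IsoIn c.bSys w := he0.trans ((mem_autGroup hU0S).1 k.2)
  have hwR : ∀ g (hg : g ∈ H), MulAut.congr w (conjAut A (hHA hg)) ∈ Rm := by
    intro g hg
    have hd := conjAut_mem_autInducedBy (P := A) (hHA hg) hg
    have h1 : k * ⟨_, hXB ⟨_, hd, rfl⟩⟩ * k⁻¹ ∈ (R : Subgroup B) := by
      rw [← hk, Sylow.coe_subgroup_smul]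
      exact Subgroup.smul_mem_pointwise_smul _ (MulAut.conj k) _ (hW' (Subgroup.mem_subgroupOf.2 ⟨_, hd, rfl⟩))
    refine ⟨_, h1, ?_⟩
    exact MulEquiv.ext fun x => by simp [hw, MulAut.congr]
  have hNAH : NA ≤ H := le_sup_right
  obtain ⟨-, -, RE, hRE⟩ := isFullyAutomized_and_fc_of_fn (c.pS.to_le c.hTS) c.satE (c.fnE_of_pMaxT hmax.1)
  have hwT : ∀ t (ht : t ∈ NA), MulAut.congr w (conjAut A ht.2) ∈ autInducedBy S U0 := fun t ht =>
    autInducedBy_mono c.hTS (mem_of_pGroup_sylow RE hRE hTR hRmp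
      (congr_mem_invariant c.inv hAT (c.isoIn_of_bSys hwB)
        (autInducedBy_le_autGroup hAT (conjAut_mem_autInducedBy ht.2 ht.1)))
      (hwR t (hNAH ht)))
  obtain ⟨N', ŵ, hŵ, hN', hUN', hŵe⟩ := c.exists_lift hmax.1 hwB hwT
  have hN'T : N' ≤ T := hN'.trans (normalizerIn_le U0)
  have hN'S : N' ≤ S := hN'T.trans c.hTS
  have hNlt : N' < normalizerIn T U0 := by
    refine lt_of_le_of_ne hN' fun h => hnc ?_
    have hcard : Nat.card (normalizerIn T U0) = Nat.card NA := by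
      rw [← h]
      exact (Nat.card_congr ŵ.toEquiv).symm
    exact c.uCentric_of_pMaxT (c.pMaxT_of_card hmax.1 (isConj_symm hAU) hcard.le) hC
  have hN'c : UCentric F T N' := hN.of_conj c.sc (isConj_iff.2 ⟨ŵ, c.isoIn_of_bSys hŵ⟩)
  obtain ⟨N0, hN0, hN0c⟩ := c.exists_goodU hN'c
  have hZ : centralizerIn N' U0 ≤ U0 := by
    intro y hy
    obtain ⟨hyN, hyc⟩ := mem_centralizerIn.1 hy
    obtain ⟨z, hz⟩ := ŵ.surjective ⟨y, hyN⟩
    have hzA : (z : Ω) ∈ A := by
      refine hC (mem_centralizerIn.2 ⟨z.2.1, fun a ha => ?_⟩)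
      have h1 := hyc _ (w ⟨a, ha⟩).2
      rw [← hŵe ⟨a, ha⟩ (hAN ha), show y = (ŵ z : Ω) by rw [hz], ← Subgroup.coe_mul, ← Subgroup.coe_mul,
        ← map_mul, ← map_mul] at h1
      exact congrArg Subtype.val (ŵ.injective (Subtype.ext h1))
    have h2 := hŵe ⟨(z : Ω), hzA⟩ z.2
    rw [show y = (ŵ z : Ω) by rw [hz], h2]
    exact (w _).2
  obtain ⟨f, hf, hfd⟩ := c.exists_move hN0 hN0c hUN' (hN'.trans inf_le_right) hZ hRmp
  -- the image of `M`
  have hgB : IsoIn c.bSys (ŵ.trans f) := hŵ.trans (c.isoIn_bSys_of_pSys hf)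
  have hg : ExtIso (c.pSys 0) H (normalizerIn S N0) (ŵ.trans f) := by
    refine c.ext_of_induced hN0 _ hgB hNAH hHN fun h hh => ?_
    have hd : MulAut.congr ŵ (conjAut NA (hHN hh).2) ∈ liftStab (c.bSys.autGroup N') hUN' Rm := by
      refine ⟨congr_mem_autGroup hŵ (autInducedBy_le_autGroup hNAS
        (conjAut_mem_autInducedBy _ (hHS hh))), _, hwR h hh, fun x => ?_⟩
      obtain ⟨a, rfl⟩ := w.surjective x
      rw [show Subgroup.inclusion hUN' (w a) = ŵ ⟨(a : Ω), hAN a.2⟩ from Subtype.ext (hŵe a _).symm,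
        show MulAut.congr ŵ (conjAut NA (hHN hh).2) (ŵ ⟨(a : Ω), hAN a.2⟩) =
          ŵ (conjAut NA (hHN hh).2 ⟨(a : Ω), hAN a.2⟩) by simp [MulAut.congr],
        show MulAut.congr w (conjAut A (hHA hh)) (w a) = w (conjAut A (hHA hh) a) by simp [MulAut.congr],
        ← hŵe (conjAut A (hHA hh) a) (hAN (conjAut A (hHA hh) a).2)]
      rfl
    convert hfd _ hd using 1
    refine MulEquiv.ext fun x => ?_
    show f (ŵ (conjAut NA (hHN hh).2 ((ŵ.trans f).symm x))) = _
    rfl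
  obtain ⟨hNH, ψ, hψ, hψv, hψe⟩ := hg
  have hMH : M ≤ H := le_sup_left
  have hχ := restrict_mem hψ hMH
  set Q := (ψ.comp (Subgroup.inclusion hMH)).range with hQ
  set e := homIso hχ (rfl : _ = Q) with he
  have heD : IsoIn (c.pSys 0) e := isoIn_homIso hχ rfl
  refine ⟨Q, e, heD, ?_⟩
  have hval : ∀ (a : Ω) (ha : a ∈ A), (e ⟨a, ha.1⟩ : Ω) = (f (Subgroup.inclusion hUN' (w ⟨a, ha⟩)) : Ω) := by
    intro a ha
    refine (hψe a (hAN ha) (hMH ha.1)).trans ?_
    exact congrArg (fun z : N' => (f z : Ω)) (Subtype.ext (hŵe ⟨a, ha⟩ (hAN ha)))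
  have hfU := restrict_mem (hf : N0.subtype.comp f.toMonoidHom ∈ (c.pSys 0).Hom N') hUN'
  have hQT : ((N0.subtype.comp f.toMonoidHom).comp (Subgroup.inclusion hUN')).range = Q ⊓ T := by
    ext y
    constructor
    · rintro ⟨x, rfl⟩
      obtain ⟨a, rfl⟩ := w.surjective x
      refine ⟨⟨⟨(a : Ω), a.2.1⟩, (hval a a.2).trans (congrArg (fun z => (f z : Ω)) rfl)⟩, ?_⟩
      exact stronglyClosed_apply_mem c.sc (c.pSys_sub 0 _ hf) (x := Subgroup.inclusion hUN' (w a)) (hN'T (Subgroup.inclusion hUN' (w a)).2)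
    · intro hy
      obtain ⟨a, ha, hay⟩ := c.inter_map (c.isoIn_of_pSys heD) hy
      exact ⟨w ⟨(a : Ω), a.2, ha⟩, (hval a ⟨a.2, ha⟩).symm.trans hay⟩
  set e3 := homIso hfU hQT with he3
  set T' := normalizerIn (normalizerIn T U0) N' with hT'
  have hN''S : normalizerIn T U0 ≤ S := (normalizerIn_le U0).trans c.hTS
  haveI := finite_of_le hN''S
  have hlt' : N' < T' := lt_normalizerIn (c.pS.to_le hN''S) hNlt
  have hT'S : T' ≤ S := (normalizerIn_le N').trans hN''S
  haveI := finite_of_le hT'S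
  have h1 : Nat.card N' < Nat.card T' := by
    by_contra hh
    exact hlt'.ne (Subgroup.eq_of_le_of_card_ge hlt'.le (not_lt.1 hh))
  have hT'N : T' ≤ normalizerIn S N' := fun g hg => ⟨hT'S hg, hg.2⟩
  have hf2 : ExtIso (c.pSys 0) T' (normalizerIn S N0) f :=
    c.ext_of_induced hN0 f (c.isoIn_bSys_of_pSys hf) hlt'.le hT'N fun h hh => hfd _
      ⟨autInducedBy_le_autGroup hN'S (conjAut_mem_autInducedBy _ (hT'S hh)), conjAut U0 hh.1.2,
        hTR (conjAut_mem_autInducedBy hh.1.2 hh.1.1), fun x => rfl⟩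
  have h3 : ExtIso (c.pSys 0) T' (normalizerIn S (Q ⊓ T)) e3 :=
    c.exists_restrict_img hf2 hUN' (fun g hg => hg.1.2) fun x => rfl
  have h4 := (h3.into (V := normalizerIn T (Q ⊓ T)) fun χ hχ' x hx =>
    ⟨stronglyClosed_apply_mem c.sc (c.pSys_sub 0 _ hχ') (x := x) x.2.1.1, hx.2⟩).card_le
      ((normalizerIn_le _).trans c.hTS)
  have h5 := Nat.card_congr ŵ.toEquiv
  change Nat.card NA < Nat.card (normalizerIn T (Q ⊓ T))
  change Nat.card NA = Nat.card N' at h5
  omega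

/-- A subgroup outside the family moves in the system to one whose intersection with `T` does not contain its
centralizer there. -/
theorem exists_move_nonH : ∀ (n : ℕ) (M : Subgroup Ω), M ≤ S → Nat.card T ≤ Nat.card ↥(M ⊓ T) + n →
    ¬ UCentric F T (M ⊓ T) →
    ∃ (Q : Subgroup Ω) (e : M ≃* Q), IsoIn (c.pSys 0) e ∧ ¬ centralizerIn T (Q ⊓ T) ≤ Q ⊓ T := by
  haveI := finite_of_le c.hTS
  intro n
  induction n using Nat.strong_induction_on with
  | _ n ih =>
  suffices key : ∀ (m : ℕ) (M : Subgroup Ω), M ≤ S → Nat.card T ≤ Nat.card ↥(M ⊓ T) + n →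
      Nat.card T ≤ Nat.card (normalizerIn T (M ⊓ T)) + m → ¬ UCentric F T (M ⊓ T) →
      ∃ (Q : Subgroup Ω) (e : M ≃* Q), IsoIn (c.pSys 0) e ∧ ¬ centralizerIn T (Q ⊓ T) ≤ Q ⊓ T from
    fun M hM hn hnc => key _ M hM hn (Nat.le_add_left _ _) hnc
  intro m
  induction m using Nat.strong_induction_on with
  | _ m ihm =>
  intro M hM hn hm hnc
  by_cases hC : centralizerIn T (M ⊓ T) ≤ M ⊓ T
  swap
  · exact ⟨M, MulEquiv.refl M, isoIn_refl _ hM, hC⟩
  set A := M ⊓ T with hA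
  have hAlt : A < T := lt_of_le_of_ne inf_le_right fun h => hnc (h.symm ▸ c.uCentric_self)
  set NA := normalizerIn T A with hNA
  have hNAT : NA ≤ T := normalizerIn_le A
  by_cases hN : UCentric F T NA
  · obtain ⟨Q, e, he, hlt⟩ := c.exists_step hM hC hnc hN
    have hQS : Q ≤ S := he.le_right
    have hcQ : Nat.card ↥(M ⊓ T) = Nat.card ↥(Q ⊓ T) := card_eq_of_isConj (c.inter_conj (c.isoIn_of_pSys he))
    have hle : Nat.card (normalizerIn T (Q ⊓ T)) ≤ Nat.card T := card_le_of_le (normalizerIn_le _)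
    have e1 : Nat.card ↥(M ⊓ T) = Nat.card A := rfl
    have e2 : Nat.card (normalizerIn T (M ⊓ T)) = Nat.card (normalizerIn T A) := rfl
    have e3 : Nat.card NA = Nat.card (normalizerIn T A) := rfl
    obtain ⟨Q', e', he', hQ'⟩ := ihm (Nat.card T - Nat.card (normalizerIn T (Q ⊓ T))) (by omega) Q hQS
      (by omega) (by omega) fun h => hnc (h.of_conj c.sc (isConj_symm (c.inter_conj (c.isoIn_of_pSys he))))
    exact ⟨Q', e.trans e', he.trans he', hQ'⟩
  have hMn : ∀ g ∈ M, g ∈ Subgroup.normalizer (NA : Set Ω) := fun g hg =>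
    mem_normalizer_inter (stronglyClosed_le_normalizer c.sc (hM hg)) (Subgroup.le_normalizer
      (mem_normalizer_inter (Subgroup.le_normalizer hg) (stronglyClosed_le_normalizer c.sc (hM hg))))
  set M' := M ⊔ NA with hM'
  have hM'S : M' ≤ S := sup_le hM (hNAT.trans c.hTS)
  have hint : M' ⊓ T = NA := by
    refine le_antisymm (fun x hx => ?_) (le_inf le_sup_right hNAT)
    obtain ⟨hx1, hx2⟩ := hx
    have h : x ∈ ((M : Set Ω) * (NA : Set Ω)) := by
      rw [← Subgroup.coe_mul_of_left_le_normalizer_right _ _ hMn]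
      exact hx1
    obtain ⟨g, hg, z, hz, rfl⟩ := Set.mem_mul.1 h
    have hgT : g ∈ T := by simpa using T.mul_mem hx2 (T.inv_mem (hNAT hz))
    exact NA.mul_mem (le_normalizerIn inf_le_right ⟨hg, hgT⟩) hz
  haveI := finite_of_le (hNAT.trans c.hTS)
  have hcard : Nat.card A < Nat.card NA := by
    have hlt' : A < NA := lt_normalizerIn (c.pS.to_le c.hTS) hAlt
    by_contra hh
    exact hlt'.ne (Subgroup.eq_of_le_of_card_ge hlt'.le (not_lt.1 hh))
  have hcN : Nat.card NA ≤ Nat.card T := card_le_of_le hNAT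
  obtain ⟨Q', e', he', hQ'⟩ := ih (Nat.card T - Nat.card NA) (by omega) M' hM'S (by rw [hint]; omega)
    (by rwa [hint])
  have hMM' : M ≤ M' := le_sup_left
  have hχ := restrict_mem (he' : Q'.subtype.comp e'.toMonoidHom ∈ (c.pSys 0).Hom M') hMM'
  refine ⟨_, homIso hχ rfl, isoIn_homIso hχ rfl, fun hQ => hQ' fun z hz => ?_⟩
  have hsub : ((Q'.subtype.comp e'.toMonoidHom).comp (Subgroup.inclusion hMM')).range ⊓ T ≤ Q' ⊓ T := by
    rintro _ ⟨⟨x, rfl⟩, hxT⟩
    exact ⟨(e' _).2, hxT⟩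
  exact hsub (hQ ⟨hz.1, Subgroup.centralizer_le hsub hz.2⟩)

end ProdCtx

end Cfsg.Lib.FusionSys
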