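import Cfsg.Agent.Lib.FusionSys.ProductER.Tools

/-!
Rigidity: an automorphism of order prime to `p` in the bounding automizer moves the automorphisms fixing the
intersection with `T` only by conjugations by the centre of that intersection.
-/

set_option autoImplicit false
set_option linter.style.haveILetI false
set_option maxHeartbeats 800000

namespace Cfsg.Lib.FusionSys

open Cfsg Cfsg.FusionSystem

variable {Ω : Type*} [Group Ω] {S T : Subgroup Ω} {F : FusionSystem S} {E : FusionSystem T} {p : ℕ}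

/-- The automorphisms in the system fixing the elements of `T` and trivial modulo `T`. -/
def kerT (F : FusionSystem S) (T M : Subgroup Ω) : Subgroup (MulAut M) where
  carrier := {d | d ∈ F.autGroup M ∧ (∀ x : M, (x : Ω) ∈ T → d x = x) ∧ ∀ x : M, (x : Ω)⁻¹ * (d x : Ω) ∈ T}
  one_mem' := ⟨one_mem _, fun _ _ => rfl, fun x => by simp⟩
  mul_mem' := by
    rintro d e ⟨hd, hdf, hdm⟩ ⟨he, hef, hem⟩
    refine ⟨mul_mem hd he, fun x hx => ?_, fun x => ?_⟩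
    · rw [MulAut.mul_apply, hef x hx, hdf x hx]
    · have h := T.mul_mem (hem x) (hdm (e x))
      rwa [mul_assoc, mul_inv_cancel_left] at h
  inv_mem' := by
    rintro d ⟨hd, hdf, hdm⟩
    refine ⟨inv_mem hd, fun x hx => ?_, fun x => ?_⟩
    · conv_lhs => rw [← hdf x hx, MulAut.inv_apply_self]
    · have h := T.inv_mem (hdm (d⁻¹ x))
      rwa [MulAut.apply_inv_self, mul_inv_rev, inv_inv] at h

/-- The conjugations by elements of the centre of the intersection with `T`. -/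
def zBar (T M : Subgroup Ω) : Subgroup (MulAut M) :=
  autInducedBy (centralizerIn (M ⊓ T) (M ⊓ T)) M

/-- The averaging lemma. -/
theorem exists_div_eq_of_prod_eq_one {A : Type*} [CommGroup A] (φ : A →* A) {f : A} {m : ℕ}
    (hφ : (φ : A → A)^[m] f = f) (hprod : ∏ i ∈ Finset.range m, (φ : A → A)^[i] f = 1)
    (hm : m.Coprime (orderOf f)) : ∃ v : A, v / φ v = f := by
  have key : ∀ n : ℕ, (∏ i ∈ Finset.range n, ((φ : A → A)^[i] f) ^ (i + 1)) /
      φ (∏ i ∈ Finset.range n, ((φ : A → A)^[i] f) ^ (i + 1)) =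
      (∏ i ∈ Finset.range n, (φ : A → A)^[i] f) / ((φ : A → A)^[n] f) ^ n := by
    intro n
    induction n with
    | zero => simp
    | succ n ih =>
      rw [Finset.prod_range_succ, Finset.prod_range_succ, map_mul, map_pow,
        ← Function.iterate_succ_apply' (φ : A → A), mul_div_mul_comm, ih, pow_succ ((φ : A → A)^[n] f) n]
      simp only [div_eq_mul_inv]
      rw [show (∏ i ∈ Finset.range n, (φ : A → A)^[i] f) * (((φ : A → A)^[n] f) ^ n)⁻¹ *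
        (((φ : A → A)^[n] f) ^ n * (φ : A → A)^[n] f * (((φ : A → A)^[n + 1] f) ^ (n + 1))⁻¹) =
        (∏ i ∈ Finset.range n, (φ : A → A)^[i] f) * (φ : A → A)^[n] f * (((φ : A → A)^[n + 1] f) ^ (n + 1))⁻¹ by
        group]
  have h := key m
  rw [hprod, hφ, one_div] at h
  obtain ⟨e, he⟩ := exists_pow_eq_self_of_coprime hm
  refine ⟨((∏ i ∈ Finset.range m, ((φ : A → A)^[i] f) ^ (i + 1))⁻¹) ^ e, ?_⟩
  rw [map_pow, map_inv, ← div_pow, inv_div_inv, ← inv_div, h, inv_inv, he]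

/-- Two elements `a`, `a k` of finite order prime to `p`, with `k` in an abelian `p`-subgroup normalised by `a`, are
conjugate by that subgroup. -/
theorem exists_conj_of_coprime {G : Type*} [Group G] {A : Subgroup G} (hA : ∀ x ∈ A, ∀ y ∈ A, x * y = y * x)
    {a k : G} (hn : ∀ x ∈ A, a * x * a⁻¹ ∈ A) (hk : k ∈ A) {m : ℕ} (hm : a ^ m = 1) (hmk : (a * k) ^ m = 1)
    (hcop : m.Coprime (orderOf k)) : ∃ v ∈ A, a * k = v * a * v⁻¹ := by
  letI : CommGroup A := { (inferInstance : Group A) with mul_comm := fun x y => Subtype.ext (hA x x.2 y y.2) }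
  let φ : A →* A :=
    { toFun := fun x => ⟨a * x * a⁻¹, hn x x.2⟩
      map_one' := Subtype.ext (by simp)
      map_mul' := fun x y => Subtype.ext (by
        show a * ((x : G) * y) * a⁻¹ = a * x * a⁻¹ * (a * y * a⁻¹)
        group) }
  have hit : ∀ (n : ℕ) (x : A), (((φ : A → A)^[n] x : A) : G) = a ^ n * x * (a ^ n)⁻¹ := by
    intro n
    induction n with
    | zero => intro x; simp
    | succ n ih =>
      intro x
      rw [Function.iterate_succ_apply', pow_succ']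
      show a * (((φ : A → A)^[n] x : A) : G) * a⁻¹ = _
      rw [ih]
      group
  set f := φ ⟨k, hk⟩ with hf
  have hfe : ∀ n : ℕ, ((∏ i ∈ Finset.range n, (φ : A → A)^[i] f : A) : G) * a ^ n = (a * k) ^ n := by
    intro n
    induction n with
    | zero => simp
    | succ n ih =>
      rw [Finset.prod_range_succ, Subgroup.coe_mul, hit, pow_succ (a * k), ← ih, pow_succ a]
      show _ * (a ^ n * (a * k * a⁻¹) * (a ^ n)⁻¹) * (a ^ n * a) = _
      group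
  obtain ⟨v, hv⟩ := exists_div_eq_of_prod_eq_one φ (f := f) (m := m)
    (Subtype.ext (by rw [hit, hm]; simp))
    (Subtype.ext (by have := hfe m; rwa [hm, mul_one, hmk] at this))
    (by
      refine Nat.Coprime.coprime_dvd_right ?_ hcop
      refine orderOf_dvd_of_pow_eq_one (Subtype.ext ?_)
      rw [hf, ← map_pow]
      show a * _ * a⁻¹ = 1
      rw [Subgroup.coe_pow, pow_orderOf_eq_one, mul_one, mul_inv_cancel])
  refine ⟨v, v.2, ?_⟩
  have h := congrArg (fun x : A => (x : G)) hv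
  simp only [div_eq_mul_inv, Subgroup.coe_mul, Subgroup.coe_inv] at h
  change (v : G) * (a * (v : G) * a⁻¹)⁻¹ = a * k * a⁻¹ at h
  calc a * k = a * k * a⁻¹ * a := by group
    _ = (v : G) * a * (v : G)⁻¹ := by rw [← h]; group

namespace ProdCtx

variable (c : ProdCtx F E p)
include c

theorem kerT_normal [Finite S] {M : Subgroup Ω} (hM : M ≤ S) {d β : MulAut M} (hd : d ∈ kerT F T M)
    (hβ : β ∈ F.autGroup M) : β * d * β⁻¹ ∈ kerT F T M := by
  refine ⟨mul_mem (mul_mem hβ hd.1) (inv_mem hβ), fun x hx => ?_, fun x => ?_⟩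
  · rw [MulAut.mul_apply, MulAut.mul_apply,
      hd.2.1 _ (stronglyClosed_aut_mem c.sc (inv_mem hβ) hM hx), MulAut.apply_inv_self]
  · rw [MulAut.mul_apply, MulAut.mul_apply]
    obtain ⟨y, rfl⟩ := β.surjective x
    rw [MulAut.inv_apply_self]
    have h : (β (y⁻¹ * d y) : Ω) ∈ T := stronglyClosed_aut_mem c.sc hβ hM (hd.2.2 y)
    rwa [map_mul, map_inv] at h

theorem kerT_pElement [Finite S] [Fact p.Prime] {M : Subgroup Ω} (hM : M ≤ S) {d : MulAut M}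
    (hd : d ∈ kerT F T M) : ∃ k : ℕ, d ^ p ^ k = 1 :=
  isPGroup_aut_stab c.pS c.sc hM hd.2.1 hd.2.2

theorem kerT_le_induced [Finite S] [Fact p.Prime] {M : Subgroup Ω} (hM : F.IsFullyNormalized M) :
    kerT F T M ≤ autInducedBy S M :=
  le_autInducedBy_of_normal c.pS c.sat hM (fun _ h => h.1) (fun _ hd _ hb => c.kerT_normal hM.1 hd hb)
    fun _ hd => c.kerT_pElement hM.1 hd

theorem kerT_move [Finite S] {M : Subgroup Ω} (hM : M ≤ S) (hZ : centralizerIn T (M ⊓ T) ≤ M ⊓ T) {d : MulAut M}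
    (hd : d ∈ kerT F T M) (x : M) :
    (x : Ω)⁻¹ * (d x : Ω) ∈ centralizerIn (M ⊓ T) (M ⊓ T) := by
  have hmem : (x : Ω)⁻¹ * (d x : Ω) ∈ centralizerIn T (M ⊓ T) := by
    refine mem_centralizerIn.2 ⟨hd.2.2 x, fun u hu => ?_⟩
    let u' : M := ⟨u, hu.1⟩
    have hxu : ((x * u' * x⁻¹ : M) : Ω) ∈ T := c.tmem_conj (hM x.2) hu.2
    have h := hd.2.1 _ hxu
    rw [map_mul, map_mul, map_inv, hd.2.1 u' hu.2] at h
    have h2 : x⁻¹ * d x * u' = u' * (x⁻¹ * d x) := by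
      calc x⁻¹ * d x * u' = x⁻¹ * (d x * u' * (d x)⁻¹) * d x := by group
        _ = u' * (x⁻¹ * d x) := by rw [h]; group
    exact congrArg Subtype.val h2
  exact mem_centralizerIn.2 ⟨hZ hmem, (mem_centralizerIn.1 hmem).2⟩

theorem kerT_comm [Finite S] {M : Subgroup Ω} (hM : M ≤ S) (hZ : centralizerIn T (M ⊓ T) ≤ M ⊓ T)
    {d e : MulAut M} (hd : d ∈ kerT F T M) (he : e ∈ kerT F T M) : d * e = e * d := by
  refine MulEquiv.ext fun x => ?_
  have h1 := c.kerT_move hM hZ hd x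
  have h2 := c.kerT_move hM hZ he x
  have e1 : d (x⁻¹ * e x) = x⁻¹ * e x := hd.2.1 _ ((mem_centralizerIn.1 h2).1.2)
  have e2 : e (x⁻¹ * d x) = x⁻¹ * d x := he.2.1 _ ((mem_centralizerIn.1 h1).1.2)
  have e3 : (x⁻¹ * d x) * (x⁻¹ * e x) = (x⁻¹ * e x) * (x⁻¹ * d x) :=
    Subtype.ext ((mem_centralizerIn.1 h1).2 _ (mem_centralizerIn.1 h2).1)
  rw [MulAut.mul_apply, MulAut.mul_apply]
  calc d (e x) = d x * d (x⁻¹ * e x) := by rw [← map_mul, mul_inv_cancel_left]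
    _ = x * ((x⁻¹ * d x) * (x⁻¹ * e x)) := by rw [e1]; group
    _ = x * ((x⁻¹ * e x) * (x⁻¹ * d x)) := by rw [e3]
    _ = e x * e (x⁻¹ * d x) := by rw [e2]; group
    _ = e (d x) := by rw [← map_mul, mul_inv_cancel_left]

theorem zBar_le_kerT [Finite S] {M : Subgroup Ω} (hM : M ≤ S) : zBar T M ≤ kerT F T M := by
  intro d hd
  obtain ⟨z, hz, hze⟩ := mem_autInducedBy.1 hd
  obtain ⟨hzU, hzc⟩ := mem_centralizerIn.1 hz
  refine ⟨autInducedBy_le_autGroup hM (mem_autInducedBy.2 ⟨z, hM hzU.1, hze⟩),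
    fun x hx => Subtype.ext ((hze x).trans (conj_eq_of_commute (hzc x ⟨x.2, hx⟩))), fun x => ?_⟩
  rw [hze x, show (x : Ω)⁻¹ * (z * x * z⁻¹) = ((x : Ω)⁻¹ * z * x) * z⁻¹ by group]
  exact T.mul_mem (c.tmem_conj' (hM x.2) hzU.2) (T.inv_mem hzU.2)

theorem zBar_congr [Finite S] {M N : Subgroup Ω} {e : M ≃* N} (he : IsoIn F e) {d : MulAut M}
    (hd : d ∈ zBar T M) : MulAut.congr e d ∈ zBar T N := by
  obtain ⟨z, hz, hze⟩ := mem_autInducedBy.1 hd
  obtain ⟨hzU, hzc⟩ := mem_centralizerIn.1 hz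
  have hfwd : ∀ x : M, (x : Ω) ∈ T → (e x : Ω) ∈ T := fun x hx =>
    stronglyClosed_apply_mem c.sc he (x := x) hx
  refine mem_autInducedBy.2 ⟨(e ⟨z, hzU.1⟩ : Ω), mem_centralizerIn.2
    ⟨⟨(e _).2, hfwd _ hzU.2⟩, fun y hy => ?_⟩, fun y => ?_⟩
  · have hy' : ((e.symm ⟨y, hy.1⟩ : M) : Ω) ∈ T := stronglyClosed_apply_mem c.sc he.symm (x := ⟨y, hy.1⟩) hy.2
    have h := congrArg (fun w : M => (e w : Ω))
      (Subtype.ext (hzc _ ⟨(e.symm ⟨y, hy.1⟩).2, hy'⟩) :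
        (⟨z, hzU.1⟩ : M) * e.symm ⟨y, hy.1⟩ = e.symm ⟨y, hy.1⟩ * ⟨z, hzU.1⟩)
    simpa using h
  · obtain ⟨x, rfl⟩ := e.surjective y
    rw [show MulAut.congr e d (e x) = e (d x) by simp [MulAut.congr],
      show d x = ⟨z, hzU.1⟩ * x * ⟨z, hzU.1⟩⁻¹ from Subtype.ext (hze x), map_mul, map_mul, map_inv]
    rfl

/-- Rigidity at a fully normalized position. -/
theorem rigid_fn [Finite S] [Fact p.Prime] {M : Subgroup Ω} (hM : M ≤ S)
    (hU : F.IsFullyNormalized (M ⊓ T)) (hW : F.IsFullyNormalized (M ⊓ T ⊔ centralizerIn S (M ⊓ T)))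
    (hZ : centralizerIn T (M ⊓ T) ≤ M ⊓ T) {a : MulAut M} (ha : a ∈ bAut F E M) (hcop : (orderOf a).Coprime p)
    {s : Ω} (hs : s ∈ centralizerIn S (M ⊓ T)) (hsn : s ∈ Subgroup.normalizer (M : Set Ω))
    (hk : conjAut M hsn ∈ kerT F T M) : a * conjAut M hsn * a⁻¹ * (conjAut M hsn)⁻¹ ∈ zBar T M := by
  classical
  set U := M ⊓ T with hUdef
  obtain ⟨haF, ham, b, hbE, hbe⟩ := ha
  have hUT : U ≤ T := inf_le_right
  have hbm : b ^ orderOf a = 1 :=
    aut_pow_eq_one (inf_le_left : U ≤ M) (fun x => (hbe x).symm) (pow_orderOf_eq_one a)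
  have hbc : (orderOf b).Coprime p := coprime_of_pow_eq_one hcop hbm
  obtain ⟨ψ₀, hψ₀, m', hm', hψm, -, hψe⟩ :=
    exists_goodExt_pPrime (autGroup_le_goodAut c.pS c.norm hUT hU hZ hbE) hbc
  have hMS := hM
  have hUS : U ≤ S := hU.1
  have hW'S : U ⊔ centralizerIn S U ≤ S := sup_le hUS (centralizerIn_le U)
  have hψmod : ∀ x : ↥(U ⊔ centralizerIn S U), (x : Ω)⁻¹ * (ψ₀ x : Ω) ∈ T := by
    intro x
    obtain ⟨u, hu, w, hw, huw⟩ := exists_mul_of_mem_sup_centralizer (S := S) x.2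
    let u' : ↥(U ⊔ centralizerIn S U) := ⟨u, Subgroup.mem_sup_left hu⟩
    let w' : ↥(U ⊔ centralizerIn S U) := ⟨w, Subgroup.mem_sup_right hw⟩
    have hxe : x = u' * w' := Subtype.ext huw
    have h1 : (ψ₀ u' : Ω) ∈ T := stronglyClosed_aut_mem c.sc hψ₀.1.1 hW'S (hUT hu)
    have h2 := hψ₀.2 w' hw
    rw [hxe, map_mul]
    show (u * w)⁻¹ * ((ψ₀ u' : Ω) * (ψ₀ w' : Ω)) ∈ T
    have := T.mul_mem (c.tmem_conj' (centralizerIn_le U hw) (T.mul_mem (T.inv_mem (hUT hu)) h1)) h2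
    convert this using 1
    show _ = w⁻¹ * (u⁻¹ * (ψ₀ u' : Ω)) * w * (w⁻¹ * (ψ₀ w' : Ω))
    group
  have hMU : ∀ g ∈ M, g ∈ Subgroup.normalizer (U : Set Ω) := fun g hg => mem_normalizer_inter
    (Subgroup.le_normalizer hg) (stronglyClosed_le_normalizer c.sc (hMS hg))
  have hnW : ∀ g ∈ M, g ∈ Subgroup.normalizer ((U ⊔ centralizerIn S U : Subgroup Ω) : Set Ω) := by
    intro g hg
    haveI := finite_of_le hW'S
    refine Subgroup.mem_normalizer_fintype fun x hx => ?_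
    obtain ⟨u, hu, w, hw, rfl⟩ := exists_mul_of_mem_sup_centralizer hx
    rw [show g * (u * w) * g⁻¹ = (g * u * g⁻¹) * (g * w * g⁻¹) by group]
    refine mul_mem (Subgroup.mem_sup_left ((Subgroup.mem_normalizer_iff.1 (hMU g hg) u).1 hu))
      (Subgroup.mem_sup_right (mem_centralizerIn.2
        ⟨S.mul_mem (S.mul_mem (hMS hg) (centralizerIn_le U hw)) (S.inv_mem (hMS hg)), fun y hy => ?_⟩))
    have h1 := (mem_centralizerIn.1 hw).2 _ ((Subgroup.mem_normalizer_iff''.1 (hMU g hg) y).1 hy)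
    calc g * w * g⁻¹ * y = g * (w * (g⁻¹ * y * g)) * g⁻¹ := by group
      _ = g * (g⁻¹ * y * g * w) * g⁻¹ := by rw [h1]
      _ = y * (g * w * g⁻¹) := by group
  have hψU : ∀ (x : ↥(U ⊔ centralizerIn S U)) (hx : (x : Ω) ∈ U), (ψ₀ x : Ω) = (a ⟨(x : Ω), hx.1⟩ : Ω) :=
    fun x hx => (hψe ⟨(x : Ω), hx⟩).trans (hbe ⟨(x : Ω), hx⟩).symm
  have hint : ∀ x ∈ U ⊔ centralizerIn S U, x ∈ T → x ∈ U := by
    intro x hx hxT
    obtain ⟨u, hu, w, hw, huw⟩ := exists_mul_of_mem_sup_centralizer (S := S) hx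
    rw [huw]
    refine U.mul_mem hu (hZ (mem_centralizerIn.2 ⟨?_, (mem_centralizerIn.1 hw).2⟩))
    have := T.mul_mem (T.inv_mem (hUT hu)) hxT
    rwa [huw, inv_mul_cancel_left] at this
  -- receptivity
  have hψhom : (U ⊔ centralizerIn S U).subtype.comp ψ₀.toMonoidHom ∈ F.Hom (U ⊔ centralizerIn S U) :=
    (mem_autGroup hW'S).1 hψ₀.1.1
  have hψr : ((U ⊔ centralizerIn S U).subtype.comp ψ₀.toMonoidHom).range = U ⊔ centralizerIn S U := by
    ext y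
    exact ⟨fun ⟨x, hx⟩ => hx ▸ (ψ₀ x).2, fun hy => ⟨ψ₀⁻¹ ⟨y, hy⟩, by simp⟩⟩
  obtain ⟨Ψ, hΨ, hΨe⟩ := (isReceptive_of_fc c.pS c.sat (isFullyAutomized_and_fc_of_fn c.pS c.sat hW).1).2
    _ _ hψhom hψr
  have hind : ∀ g (hg : g ∈ M),
      ψ₀ * conjAut _ (hnW g hg) * ψ₀⁻¹ * (conjAut _ (hnW _ (a ⟨g, hg⟩).2))⁻¹ ∈ kerT F T (U ⊔ centralizerIn S U) := by
    intro g hg
    set γ := conjAut _ (hnW g hg) with hγ
    set γ' := conjAut _ (hnW _ (a ⟨g, hg⟩).2) with hγ'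
    have hγF : γ ∈ F.autGroup (U ⊔ centralizerIn S U) :=
      autInducedBy_le_autGroup hW'S (conjAut_mem_autInducedBy _ (hMS hg))
    have hγ'F : γ' ∈ F.autGroup (U ⊔ centralizerIn S U) :=
      autInducedBy_le_autGroup hW'S (conjAut_mem_autInducedBy _ (hMS (a ⟨g, hg⟩).2))
    refine ⟨mul_mem (mul_mem (mul_mem hψ₀.1.1 hγF) (inv_mem hψ₀.1.1)) (inv_mem hγ'F), fun x hx => ?_,
      fun x => ?_⟩
    · obtain ⟨y, rfl⟩ := γ'.surjective x
      simp only [MulAut.mul_apply, MulAut.inv_apply_self]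
      have hy : (y : Ω) ∈ U := by
        refine hint _ y.2 ?_
        have h := stronglyClosed_aut_mem c.sc (inv_mem hγ'F) hW'S hx
        rwa [MulAut.inv_apply_self] at h
      obtain ⟨z, rfl⟩ := ψ₀.surjective y
      rw [MulAut.inv_apply_self]
      have hz : (z : Ω) ∈ U := hint _ z.2 (by
        have h := stronglyClosed_aut_mem c.sc (inv_mem hψ₀.1.1) hW'S (hUT hy)
        rwa [MulAut.inv_apply_self] at h)
      have hgz : ((γ z : _) : Ω) ∈ U := (Subgroup.mem_normalizer_iff.1 (hMU g hg) z).1 hz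
      refine Subtype.ext ((hψU _ hgz).trans ?_)
      show (a ⟨g * (z : Ω) * g⁻¹, _⟩ : Ω) = (a ⟨g, hg⟩ : Ω) * (ψ₀ z : Ω) * (a ⟨g, hg⟩ : Ω)⁻¹
      rw [hψU z hz, ← Subgroup.coe_inv, ← Subgroup.coe_mul, ← Subgroup.coe_mul, ← map_inv, ← map_mul, ← map_mul]
      exact congrArg (fun w : M => (a w : Ω)) (Subtype.ext rfl)
    · obtain ⟨y, rfl⟩ := γ'.surjective x
      simp only [MulAut.mul_apply, MulAut.inv_apply_self]
      obtain ⟨z, rfl⟩ := ψ₀.surjective y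
      rw [MulAut.inv_apply_self]
      -- both are congruent to the conjugate of `z` by `g`
      have h1 : (γ z : Ω)⁻¹ * (ψ₀ (γ z) : Ω) ∈ T := hψmod _
      have h2 : (γ z : Ω)⁻¹ * (γ' (ψ₀ z) : Ω) ∈ T := by
        show (g * (z : Ω) * g⁻¹)⁻¹ * ((a ⟨g, hg⟩ : Ω) * (ψ₀ z : Ω) * (a ⟨g, hg⟩ : Ω)⁻¹) ∈ T
        have hag : g⁻¹ * (a ⟨g, hg⟩ : Ω) ∈ T := ham ⟨g, hg⟩
        have hgS := hMS hg
        have hzS := hW'S z.2
        have e1 := c.tmem_conj hgS (T.mul_mem (T.mul_mem (c.tmem_conj' hzS hag) (hψmod z)) (T.inv_mem hag))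
        convert e1 using 1
        group
      have h := T.mul_mem (T.inv_mem h2) h1
      rwa [mul_inv_rev, inv_inv, mul_assoc, mul_inv_cancel_left] at h
  have hle : M ⊔ (U ⊔ centralizerIn S U) ≤
      extender S (U ⊔ centralizerIn S U) ((U ⊔ centralizerIn S U).subtype.comp ψ₀.toMonoidHom) := by
    refine sup_le (fun g hg => ?_) (le_extender hW'S (hom_mem hψhom))
    have hmem : ψ₀ * conjAut _ (hnW g hg) * ψ₀⁻¹ ∈ autInducedBy S (U ⊔ centralizerIn S U) := by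
      have h := mul_mem (c.kerT_le_induced hW (hind g hg))
        (conjAut_mem_autInducedBy (hnW _ (a ⟨g, hg⟩).2) (hMS (a ⟨g, hg⟩).2))
      rwa [inv_mul_cancel_right] at h
    obtain ⟨t, ht, hte⟩ := mem_autInducedBy.1 hmem
    refine mem_extender_of (hMS hg) (hnW g hg) ht fun x hx => ?_
    show (ψ₀ ⟨g * (x : Ω) * g⁻¹, hx⟩ : Ω) = t * (ψ₀ x : Ω) * t⁻¹
    rw [← hte (ψ₀ x), MulAut.mul_apply, MulAut.mul_apply, MulAut.inv_apply_self]
    rfl
  have hV : M ⊔ (U ⊔ centralizerIn S U) ≤ S := sup_le hMS hW'S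
  haveI := finite_of_le hV
  set Φ := Ψ.comp (Subgroup.inclusion hle) with hΦdef
  have hΦ : Φ ∈ F.Hom (M ⊔ (U ⊔ centralizerIn S U)) := restrict_mem hΨ hle
  have hΦW : ∀ (x : ↥(M ⊔ (U ⊔ centralizerIn S U))) (hx : (x : Ω) ∈ U ⊔ centralizerIn S U),
      Φ x = (ψ₀ ⟨(x : Ω), hx⟩ : Ω) := fun x hx => hΨe x hx _
  -- a hom agreeing with `ψ₀` sends `g` to `a g` times the centralizer of `U`
  have hval : ∀ (χ : ↥(M ⊔ (U ⊔ centralizerIn S U)) →* Ω), χ ∈ F.Hom (M ⊔ (U ⊔ centralizerIn S U)) →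
      (∀ (x : ↥(M ⊔ (U ⊔ centralizerIn S U))) (hx : (x : Ω) ∈ U ⊔ centralizerIn S U),
        χ x = (ψ₀ ⟨(x : Ω), hx⟩ : Ω)) →
      ∀ g : M, χ (Subgroup.inclusion le_sup_left g) * (a g : Ω)⁻¹ ∈ centralizerIn S U := by
    intro χ hχ hχW g
    refine mem_centralizerIn.2 ⟨S.mul_mem (hom_mem hχ _) (S.inv_mem (hMS (a g).2)), fun y hy => ?_⟩
    obtain ⟨z, hz⟩ := b.surjective ⟨(a g : Ω)⁻¹ * y * (a g : Ω),
      (Subgroup.mem_normalizer_iff''.1 (hMU _ (a g).2) y).1 hy⟩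
    have hz' : (b z : Ω) = (a g : Ω)⁻¹ * y * (a g : Ω) := congrArg Subtype.val hz
    let z₁ : ↥(M ⊔ (U ⊔ centralizerIn S U)) := ⟨(z : Ω), Subgroup.mem_sup_left z.2.1⟩
    let g₁ : ↥(M ⊔ (U ⊔ centralizerIn S U)) := Subgroup.inclusion le_sup_left g
    have hgzU : (g : Ω) * z * (g : Ω)⁻¹ ∈ U := (Subgroup.mem_normalizer_iff.1 (hMU g g.2) z).1 z.2
    have h1 : χ z₁ = (b z : Ω) := (hχW z₁ (Subgroup.mem_sup_left z.2)).trans
      ((hψU _ z.2).trans (hbe z))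
    have h2 : χ (g₁ * z₁ * g₁⁻¹) = (a g : Ω) * (b z : Ω) * (a g : Ω)⁻¹ := by
      refine (hχW _ (Subgroup.mem_sup_left hgzU)).trans ((hψU _ hgzU).trans ?_)
      rw [← hbe]
      conv_rhs => rw [← Subgroup.coe_inv, ← Subgroup.coe_mul, ← Subgroup.coe_mul, ← map_inv, ← map_mul, ← map_mul]
      exact congrArg (fun w : M => (a w : Ω)) (Subtype.ext rfl)
    rw [map_mul, map_mul, map_inv, h1, hz'] at h2
    calc χ g₁ * (a g : Ω)⁻¹ * y = χ g₁ * ((a g : Ω)⁻¹ * y * (a g : Ω)) * (χ g₁)⁻¹ * (χ g₁ * (a g : Ω)⁻¹) := by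
          group
      _ = y * (χ g₁ * (a g : Ω)⁻¹) := by rw [h2]; group
  have hΦv : ∀ x, Φ x ∈ M ⊔ (U ⊔ centralizerIn S U) := by
    refine hom_mem_of_sup (fun x hx => ?_) fun x hx => ?_
    · have h := hval Φ hΦ hΦW ⟨(x : Ω), hx⟩
      rw [show Φ x = (Φ x * (a ⟨(x : Ω), hx⟩ : Ω)⁻¹) * (a ⟨(x : Ω), hx⟩ : Ω) by group]
      exact mul_mem (Subgroup.mem_sup_right (Subgroup.mem_sup_right h)) (Subgroup.mem_sup_left (a _).2)
    · rw [hΦW x hx]
      exact Subgroup.mem_sup_right (ψ₀ _).2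
  obtain ⟨β₀, hβ₀, hβ₀e⟩ := exists_aut_of_hom hΦ hΦv
  obtain ⟨θ, hθ, v, hv, hθv, hθW, -⟩ := exists_pPrime_extension
    (le_sup_right : U ⊔ centralizerIn S U ≤ M ⊔ (U ⊔ centralizerIn S U)) hV hm' hψm hβ₀
    fun x => (hβ₀e _).trans (hΦW _ x.2)
  have hθval : ∀ g : M, (θ (Subgroup.inclusion le_sup_left g) : Ω) * (a g : Ω)⁻¹ ∈ centralizerIn S U :=
    hval _ ((mem_autGroup hV).1 hθ) fun x hx => hθW ⟨(x : Ω), hx⟩
  have hθmodM : ∀ g : M, (g : Ω)⁻¹ * (θ (Subgroup.inclusion le_sup_left g) : Ω) ∈ T := by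
    intro g
    set g₁ : ↥(M ⊔ (U ⊔ centralizerIn S U)) := Subgroup.inclusion le_sup_left g
    set w := (θ g₁ : Ω) * (a g : Ω)⁻¹ with hwdef
    have hwC : w ∈ centralizerIn S U := hθval g
    refine mem_of_coprime_move c.pS hV (stronglyClosed_le_normalizer c.sc) hv hθv
      (fun z hz => stronglyClosed_aut_mem c.sc hθ hV hz) (x := g₁) ?_
    -- `g⁻¹ θ g` is a product of `g⁻¹ w g` and an element of `T`
    let w₁ : ↥(M ⊔ (U ⊔ centralizerIn S U)) := ⟨(g : Ω)⁻¹ * w * g,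
      mul_mem (mul_mem (inv_mem (Subgroup.mem_sup_left g.2)) (Subgroup.mem_sup_right (Subgroup.mem_sup_right hwC)))
        (Subgroup.mem_sup_left g.2)⟩
    let t₁ : ↥(M ⊔ (U ⊔ centralizerIn S U)) := ⟨(g : Ω)⁻¹ * (a g : Ω),
      mul_mem (inv_mem (Subgroup.mem_sup_left g.2)) (Subgroup.mem_sup_left (a g).2)⟩
    have he : g₁⁻¹ * θ g₁ = w₁ * t₁ := Subtype.ext (by
      show (g : Ω)⁻¹ * (θ g₁ : Ω) = (g : Ω)⁻¹ * w * g * ((g : Ω)⁻¹ * (a g : Ω))
      rw [hwdef]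
      group)
    have hw₁ : (w₁ : Ω) ∈ U ⊔ centralizerIn S U := (Subgroup.mem_normalizer_iff''.1 (hnW g g.2) w).1
      (Subgroup.mem_sup_right hwC)
    have h1 : (w₁ : Ω)⁻¹ * (θ w₁ : Ω) ∈ T := by
      rw [show (θ w₁ : Ω) = (ψ₀ ⟨_, hw₁⟩ : Ω) from hθW ⟨_, hw₁⟩]
      exact hψmod ⟨_, hw₁⟩
    have ht₁ : (t₁ : Ω) ∈ T := ham g
    have h2 : (t₁ : Ω)⁻¹ * (θ t₁ : Ω) ∈ T :=
      T.mul_mem (T.inv_mem ht₁) (stronglyClosed_aut_mem c.sc hθ hV ht₁)
    rw [he, map_mul]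
    show ((w₁ : Ω) * (t₁ : Ω))⁻¹ * ((θ w₁ : Ω) * (θ t₁ : Ω)) ∈ T
    have := T.mul_mem (T.mul_mem (T.mul_mem (T.inv_mem ht₁) h1) ht₁) h2
    convert this using 1
    group
  have hθM : ∀ g : M, (θ (Subgroup.inclusion le_sup_left g) : Ω) ∈ M := by
    intro g
    set w := (θ (Subgroup.inclusion le_sup_left g) : Ω) * (a g : Ω)⁻¹ with hwdef
    have hwT : w ∈ T := by
      have h := c.tmem_conj (hMS g.2) (T.mul_mem (hθmodM g) (T.inv_mem (ham g)))
      convert h using 1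
      rw [hwdef]
      group
    have hwU : w ∈ M := (hZ (mem_centralizerIn.2 ⟨hwT, (mem_centralizerIn.1 (hθval g)).2⟩)).1
    rw [show (θ (Subgroup.inclusion le_sup_left g) : Ω) = w * (a g : Ω) by rw [hwdef]; group]
    exact M.mul_mem hwU (a g).2
  obtain ⟨a₁, ha₁, ha₁e⟩ := exists_aut_restrict hV hθ (le_sup_left : M ≤ M ⊔ (U ⊔ centralizerIn S U)) hθM
  have hk₀ : a₁⁻¹ * a ∈ kerT F T M := by
    refine ⟨mul_mem (inv_mem ha₁) haF, fun x hx => ?_, fun x => ?_⟩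
    · refine a₁.injective ?_
      rw [MulAut.mul_apply, MulAut.apply_inv_self]
      refine Subtype.ext ?_
      rw [ha₁e]
      have hxU : (x : Ω) ∈ U := ⟨x.2, hx⟩
      exact ((hθW ⟨(x : Ω), Subgroup.mem_sup_left hxU⟩).trans (hψU _ hxU)).symm
    · rw [MulAut.mul_apply]
      obtain ⟨y, hy⟩ := a₁.surjective (a x)
      rw [← hy, MulAut.inv_apply_self]
      have h1 : (y : Ω)⁻¹ * (a₁ y : Ω) ∈ T := by rw [ha₁e]; exact hθmodM y
      rw [hy] at h1
      have := T.mul_mem (ham x) (T.inv_mem h1)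
      rwa [mul_inv_rev, inv_inv, mul_assoc, mul_inv_cancel_left] at this
  -- conclusion
  have hcomm := c.kerT_comm hMS hZ hk₀ hk
  set γs := conjAut M hsn with hγs
  obtain ⟨-, u, hu, hsu, huc⟩ := goodExt_central hZ hψ₀ ⟨s, Subgroup.mem_sup_right hs⟩ hs
  refine mem_autInducedBy.2 ⟨u, mem_centralizerIn.2 ⟨hu, fun y hy => huc y (Subgroup.mem_sup_left hy)⟩,
    fun x => ?_⟩
  have e0 : a * γs * a⁻¹ = a₁ * γs * a₁⁻¹ := by
    calc a * γs * a⁻¹ = a₁ * ((a₁⁻¹ * a) * γs) * a⁻¹ := by group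
      _ = a₁ * (γs * (a₁⁻¹ * a)) * a⁻¹ := by rw [hcomm]
      _ = a₁ * γs * a₁⁻¹ := by group
  rw [e0]
  obtain ⟨y, rfl⟩ := γs.surjective x
  simp only [MulAut.mul_apply, MulAut.inv_apply_self]
  obtain ⟨z, rfl⟩ := a₁.surjective y
  rw [MulAut.inv_apply_self, ha₁e]
  show _ = u * (s * (a₁ z : Ω) * s⁻¹) * u⁻¹
  let s₁ : ↥(M ⊔ (U ⊔ centralizerIn S U)) := ⟨s, Subgroup.mem_sup_right (Subgroup.mem_sup_right hs)⟩
  rw [show Subgroup.inclusion le_sup_left (γs z) = s₁ * Subgroup.inclusion le_sup_left z * s₁⁻¹ from Subtype.ext rfl,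
    map_mul, map_mul, map_inv, Subgroup.coe_mul, Subgroup.coe_mul, Subgroup.coe_inv, ← ha₁e,
    show (θ s₁ : Ω) = (ψ₀ ⟨s, Subgroup.mem_sup_right hs⟩ : Ω) from hθW ⟨s, Subgroup.mem_sup_right hs⟩, hsu]
  show s * u * (a₁ z : Ω) * (s * u)⁻¹ = _
  rw [show u * (s * (a₁ z : Ω) * s⁻¹) * u⁻¹ = (u * s) * (a₁ z : Ω) * (u * s)⁻¹ by group,
    huc s (Subgroup.mem_sup_right hs)]

/-- Rigidity. -/
theorem rigid [Finite S] [Fact p.Prime] {M : Subgroup Ω} (hM : M ≤ S) (hU : UCentric F T (M ⊓ T))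
    {a k : MulAut M} (ha : a ∈ bAut F E M) (hcop : (orderOf a).Coprime p) (hk : k ∈ kerT F T M) :
    a * k * a⁻¹ * k⁻¹ ∈ zBar T M := by
  obtain ⟨j, hj⟩ := c.kerT_pElement hM hk
  obtain ⟨f, hf, s, hs, hfs⟩ := exists_move_induced c.pS c.sat hM hk.1 hj
  set e₁ := homIso hf rfl with he₁
  have he₁F : IsoIn F e₁ := isoIn_homIso hf rfl
  have hM₁ : f.range ≤ S := he₁F.le_right
  set U₁ := f.range ⊓ T with hU₁
  obtain ⟨μ, hμ, hμv, hμfn, hμW⟩ := exists_fn_pos c.pS c.sat (inf_le_right.trans c.hTS : U₁ ≤ S)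
  have hMN : f.range ≤ normalizerIn S U₁ := fun g hg => ⟨hM₁ hg, mem_normalizer_inter
    (Subgroup.le_normalizer hg) (stronglyClosed_le_normalizer c.sc (hM₁ hg))⟩
  have hsn₁ : s ∈ Subgroup.normalizer (f.range : Set Ω) := by
    haveI := finite_of_le hM₁
    refine Subgroup.mem_normalizer_fintype ?_
    rintro _ ⟨x, rfl⟩
    exact ⟨k x, hfs x⟩
  have hsN : s ∈ normalizerIn S U₁ := ⟨hs, mem_normalizer_inter hsn₁ (stronglyClosed_le_normalizer c.sc hs)⟩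
  set g₂ := μ.comp (Subgroup.inclusion hMN) with hg₂def
  have hg₂ : g₂ ∈ F.Hom f.range := restrict_mem hμ hMN
  set e₂ := homIso hg₂ rfl with he₂
  have he₂F : IsoIn F e₂ := isoIn_homIso hg₂ rfl
  have hUeq : g₂.range ⊓ T = img μ (le_normalizerIn (inf_le_right.trans c.hTS : U₁ ≤ S)) := by
    ext y
    constructor
    · rintro ⟨⟨x, rfl⟩, hy⟩
      have hx : (x : Ω) ∈ T := by
        have h := stronglyClosed_apply_mem c.sc he₂F.symm (x := e₂ x) hy
        simpa using h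
      exact mem_img (μ := μ) (hX := le_normalizerIn (inf_le_right.trans c.hTS : U₁ ≤ S)) (x := Subgroup.inclusion hMN x) ⟨x.2, hx⟩
    · rintro ⟨x, rfl⟩
      exact ⟨⟨⟨(x : Ω), x.2.1⟩, rfl⟩,
        stronglyClosed_apply_mem c.sc hμ (x := Subgroup.inclusion (le_normalizerIn (inf_le_right.trans c.hTS : U₁ ≤ S)) x) x.2.2⟩
  set s₂ := μ ⟨s, hsN⟩ with hs₂def
  have hs₂n : s₂ ∈ Subgroup.normalizer (g₂.range : Set Ω) := mem_normalizer_img μ hMN hsn₁
  have hk₂eq : MulAut.congr (e₁.trans e₂) k = conjAut g₂.range hs₂n := by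
    refine MulEquiv.ext fun y => ?_
    obtain ⟨x, rfl⟩ := (e₁.trans e₂).surjective y
    rw [show MulAut.congr (e₁.trans e₂) k ((e₁.trans e₂) x) = (e₁.trans e₂) (k x) by simp [MulAut.congr]]
    refine Subtype.ext ?_
    show μ (Subgroup.inclusion hMN (e₁ (k x))) = s₂ * μ (Subgroup.inclusion hMN (e₁ x)) * s₂⁻¹
    rw [hs₂def, ← map_inv, ← map_mul, ← map_mul]
    exact congrArg μ (Subtype.ext (hfs x))
  have heF : IsoIn F (e₁.trans e₂) := he₁F.trans he₂F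
  have hk₂ : conjAut g₂.range hs₂n ∈ kerT F T g₂.range := by
    rw [← hk₂eq]
    refine ⟨congr_mem_autGroup heF hk.1, fun y hy => ?_, fun y => ?_⟩
    · obtain ⟨x, rfl⟩ := (e₁.trans e₂).surjective y
      have hx : (x : Ω) ∈ T := by
        have h := stronglyClosed_apply_mem c.sc heF.symm (x := (e₁.trans e₂) x) hy
        simpa using h
      rw [show MulAut.congr (e₁.trans e₂) k ((e₁.trans e₂) x) = (e₁.trans e₂) (k x) by simp [MulAut.congr],
        hk.2.1 x hx]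
    · obtain ⟨x, rfl⟩ := (e₁.trans e₂).surjective y
      rw [show MulAut.congr (e₁.trans e₂) k ((e₁.trans e₂) x) = (e₁.trans e₂) (k x) by simp [MulAut.congr],
        ← Subgroup.coe_inv, ← Subgroup.coe_mul, ← map_inv, ← map_mul]
      exact stronglyClosed_apply_mem c.sc heF (x := x⁻¹ * k x) (hk.2.2 x)
  have hs₂C : s₂ ∈ centralizerIn S (g₂.range ⊓ T) := by
    refine mem_centralizerIn.2 ⟨hom_mem hμ _, fun y hy => ?_⟩
    have h := congrArg Subtype.val (hk₂.2.1 ⟨y, hy.1⟩ hy.2)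
    change s₂ * y * s₂⁻¹ = y at h
    exact mul_inv_eq_iff_eq_mul.1 h
  have hconj : F.IsConj (M ⊓ T) (g₂.range ⊓ T) := by
    refine ⟨_, restrict_mem (heF : g₂.range.subtype.comp (e₁.trans e₂).toMonoidHom ∈ F.Hom M)
      (inf_le_left : M ⊓ T ≤ M), ?_⟩
    ext y
    constructor
    · rintro ⟨x, rfl⟩
      exact ⟨(e₁.trans e₂ _).2, stronglyClosed_apply_mem c.sc heF (x := Subgroup.inclusion inf_le_left x) x.2.2⟩
    · intro hy
      refine ⟨⟨_, ((e₁.trans e₂).symm ⟨y, hy.1⟩).2,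
        stronglyClosed_apply_mem c.sc heF.symm (x := ⟨y, hy.1⟩) hy.2⟩, ?_⟩
      exact congrArg Subtype.val ((e₁.trans e₂).apply_symm_apply ⟨y, hy.1⟩)
  have hU₂ : UCentric F T (g₂.range ⊓ T) := hU.of_conj c.sc hconj
  have key := c.rigid_fn he₂F.le_right (hUeq ▸ hμfn) (hUeq ▸ hμW) (hU₂.self c.sc) (c.bAut_congr heF ha)
    (show (orderOf (MulAut.congr (e₁.trans e₂) a)).Coprime p by rwa [MulEquiv.orderOf_eq]) hs₂C hs₂n hk₂
  rw [← hk₂eq, ← map_inv, ← map_mul, ← map_inv, ← map_mul, ← map_mul] at key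
  have h := c.zBar_congr heF.symm key
  convert h using 1
  exact MulEquiv.ext fun x => by simp [MulAut.congr]

/-- Two automorphisms of order prime to `p` of the bounding automizer agreeing on `M ∩ T` are conjugate by the
centre of that intersection. -/
theorem rigid_conj [Finite S] [Fact p.Prime] {M : Subgroup Ω} (hM : M ≤ S) (hU : UCentric F T (M ⊓ T))
    {a a' : MulAut M} (ha : a ∈ bAut F E M) (hca : (orderOf a).Coprime p) (ha' : a' ∈ bAut F E M)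
    (hca' : (orderOf a').Coprime p) (heq : ∀ x : M, (x : Ω) ∈ T → a x = a' x) :
    ∃ v ∈ zBar T M, a' = v * a * v⁻¹ := by
  haveI := finite_of_le hM
  haveI : Finite (MulAut M) := Finite.of_injective (fun f => (f : M → M)) DFunLike.coe_injective
  set k := a⁻¹ * a' with hkdef
  have hk : k ∈ kerT F T M := by
    refine ⟨mul_mem (inv_mem ha.1) ha'.1, fun x hx => ?_, fun x => ?_⟩
    · rw [hkdef, MulAut.mul_apply, ← heq x hx, MulAut.inv_apply_self]
    · rw [hkdef, MulAut.mul_apply]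
      obtain ⟨y, hy⟩ := a.surjective (a' x)
      rw [← hy, MulAut.inv_apply_self]
      have h1 : (y : Ω)⁻¹ * (a y : Ω) ∈ T := ha.2.1 y
      rw [hy] at h1
      have := T.mul_mem (ha'.2.1 x) (T.inv_mem h1)
      rwa [mul_inv_rev, inv_inv, mul_assoc, mul_inv_cancel_left] at this
  have hZ := hU.self c.sc
  have hZK := c.zBar_le_kerT (M := M) hM
  have hpow : ∀ n : ℕ, ∃ z ∈ zBar T M, (a * k) ^ n = k ^ n * z * a ^ n := by
    intro n
    induction n with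
    | zero => exact ⟨1, one_mem _, by simp⟩
    | succ n ih =>
      obtain ⟨z, hz, he⟩ := ih
      obtain ⟨w, hw, hwe⟩ : ∃ w ∈ zBar T M, a ^ (n + 1) * k * (a ^ (n + 1))⁻¹ = w * k := by
        refine ⟨a ^ (n + 1) * k * (a ^ (n + 1))⁻¹ * k⁻¹, c.rigid hM hU (pow_mem ha _) ?_ hk, by group⟩
        exact Nat.Coprime.coprime_dvd_left (orderOf_pow_dvd _) hca
      refine ⟨z * w, mul_mem hz hw, ?_⟩
      calc (a * k) ^ (n + 1) = k ^ n * z * (a ^ (n + 1) * k * (a ^ (n + 1))⁻¹) * a ^ (n + 1) := by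
            rw [pow_succ, he, pow_succ a]; group
        _ = k ^ n * (z * (w * k)) * a ^ (n + 1) := by rw [hwe]; group
        _ = k ^ n * (k * (z * w)) * a ^ (n + 1) := by
            rw [← mul_assoc z w k, c.kerT_comm hM hZ (hZK (mul_mem hz hw)) hk]
        _ = k ^ (n + 1) * (z * w) * a ^ (n + 1) := by rw [pow_succ]; group
  set m := orderOf a * orderOf a' with hmdef
  have hmc : m.Coprime p := Nat.Coprime.mul_left hca hca'
  have ham : a ^ m = 1 := by rw [hmdef, pow_mul, pow_orderOf_eq_one, one_pow]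
  have hakm : (a * k) ^ m = 1 := by
    rw [hkdef, mul_inv_cancel_left, hmdef, mul_comm, pow_mul, pow_orderOf_eq_one, one_pow]
  obtain ⟨z, hz, he⟩ := hpow m
  rw [hakm, ham, mul_one] at he
  obtain ⟨j, hj⟩ := c.kerT_pElement hM hk
  have hmk : m.Coprime (orderOf k) := (hmc.pow_right j).coprime_dvd_right (orderOf_dvd_of_pow_eq_one hj)
  obtain ⟨e, hke⟩ := exists_pow_eq_self_of_coprime hmk
  have hkZ : k ∈ zBar T M := by
    rw [← hke]
    refine pow_mem ?_ e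
    rw [show k ^ m = z⁻¹ from eq_inv_of_mul_eq_one_left he.symm]
    exact inv_mem hz
  obtain ⟨v, hv, hve⟩ := exists_conj_of_coprime (A := zBar T M)
    (fun x hx y hy => c.kerT_comm hM hZ (hZK hx) (hZK hy))
    (fun x hx => c.zBar_congr ((mem_autGroup hM).1 ha.1) hx) hkZ ham hakm hmk
  exact ⟨v, hv, by rw [← hve, hkdef, mul_inv_cancel_left]⟩

end ProdCtx

end Cfsg.Lib.FusionSys
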