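import Cfsg.Agent.Lib.FusionSys.ProductER.Classes
import Cfsg.Agent.Lib.FusionSys.ProductER.NonH

/-!
The system generated by the subsystem and the bounding automorphisms of order prime to `p` is saturated.
-/

set_option autoImplicit false
set_option linter.style.haveILetI false
set_option maxHeartbeats 800000

namespace Cfsg.Lib.FusionSys

open Cfsg Cfsg.FusionSystem
open scoped Pointwise

variable {Ω : Type*} [Group Ω] {S T : Subgroup Ω} {F : FusionSystem S} {E : FusionSystem T} {p : ℕ}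

namespace ProdCtx

variable (c : ProdCtx F E p)
include c
variable [Finite S] [Fact p.Prime]

/-- Outside the family, a centric member has an automorphism of the `p`-core induced by `S` and not inner. -/
theorem exists_core_not_inner {n : ℕ} {P : Subgroup Ω} (hn : Nat.card P = n) (hP : P ≤ S)
    (hnc : ¬ InH F T P) (hcen : (c.pSys n).IsCentric P) :
    ∃ Q, (c.pSys n).IsConj P Q ∧ ¬ (autInducedBy S Q ⊓ coreAut (c.pSys n) p Q ≤ Inn Q) := by
  classical
  obtain ⟨Q, e, he, hC⟩ := c.exists_move_nonH _ P hP (Nat.le_add_left _ _) fun h => hnc ⟨hP, h⟩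
  have hPQ : (c.pSys n).IsConj P Q := c.isConj_level hn.ge (isConj_iff.2 ⟨e, he⟩)
  have hQS : Q ≤ S := he.le_right
  refine ⟨Q, hPQ, fun hle => ?_⟩
  haveI := finite_of_le hQS
  haveI := finite_mulAut_of_le hQS
  set C := centralizerIn T (Q ⊓ T) with hCdef
  have hCT : C ≤ T := centralizerIn_le _
  have hQn : Q ≤ Subgroup.normalizer (C : Set Ω) := by
    haveI := finite_of_le (hCT.trans c.hTS)
    intro g hg
    refine Subgroup.mem_normalizer_fintype fun x hx => ?_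
    refine mem_centralizerIn.2 ⟨c.tmem_conj (hQS hg) (hCT hx), fun y hy => ?_⟩
    have hy' : g⁻¹ * y * g ∈ Q ⊓ T :=
      ⟨Q.mul_mem (Q.mul_mem (Q.inv_mem hg) hy.1) hg, c.tmem_conj' (hQS hg) hy.2⟩
    calc g * x * g⁻¹ * y = g * (x * (g⁻¹ * y * g)) * g⁻¹ := by group
      _ = g * (g⁻¹ * y * g * x) * g⁻¹ := by rw [(mem_centralizerIn.1 hx).2 _ hy']
      _ = y * (g * x * g⁻¹) := by group
  have hV : Q ⊔ C ≤ S := sup_le hQS (hCT.trans c.hTS)
  haveI := finite_of_le hV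
  have hlt : Q < Q ⊔ C := lt_of_le_of_ne le_sup_left fun h => hC fun x hx =>
    ⟨h.symm.le (Subgroup.mem_sup_right hx), hCT hx⟩
  obtain ⟨g, hgN, hgQ⟩ := SetLike.exists_of_lt (lt_normalizerIn (c.pS.to_le hV) hlt)
  have hg' : g ∈ ((Q : Set Ω) * (C : Set Ω)) := by
    rw [← Subgroup.coe_mul_of_left_le_normalizer_right _ _ hQn]
    exact hgN.1
  obtain ⟨q, hq, z, hz, rfl⟩ := Set.mem_mul.1 hg'
  have hzn : z ∈ Subgroup.normalizer (Q : Set Ω) := by
    have h := mul_mem (inv_mem (Subgroup.le_normalizer hq)) hgN.2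
    rwa [inv_mul_cancel_left] at h
  have hzQ : z ∉ Q := fun h => hgQ (Q.mul_mem hq h)
  -- the automorphisms fixing the intersection with `T`
  let Y : Subgroup (MulAut Q) :=
    { carrier := {d | d ∈ (c.pSys n).autGroup Q ∧ ∀ x : Q, (x : Ω) ∈ T → d x = x}
      one_mem' := ⟨one_mem _, fun _ _ => rfl⟩
      mul_mem' := fun {a b} ha hb => ⟨mul_mem ha.1 hb.1, fun x hx => by
        rw [MulAut.mul_apply, hb.2 x hx, ha.2 x hx]⟩
      inv_mem' := fun {a} ha => ⟨inv_mem ha.1, fun x hx => by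
        conv_lhs => rw [← ha.2 x hx, MulAut.inv_apply_self]⟩ }
  have hsubF : ∀ a ∈ (c.pSys n).autGroup Q, a ∈ F.autGroup Q := fun a ha =>
    (mem_autGroup hQS).2 (c.pSys_sub n _ ((mem_autGroup hQS).1 ha))
  have hYn : (Y.subgroupOf ((c.pSys n).autGroup Q)).Normal := by
    refine ⟨fun d hd b => ⟨mul_mem (mul_mem b.2 d.2) (inv_mem b.2), fun x hx => ?_⟩⟩
    show (b : MulAut Q) ((d : MulAut Q) ((b : MulAut Q)⁻¹ x)) = x
    have hd' : ∀ y : Q, (y : Ω) ∈ T → (d : MulAut Q) y = y := hd.2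
    rw [hd' _ (stronglyClosed_aut_mem c.sc (inv_mem (hsubF _ b.2)) hQS hx), MulAut.apply_inv_self]
  have hYp : IsPGroup p (Y.subgroupOf ((c.pSys n).autGroup Q)) := by
    rintro ⟨⟨d, hdA⟩, hd⟩
    obtain ⟨i, j, hij, hi, k, hk⟩ := exists_coprime_parts (p := p) d
    have hiY : d ^ i ∈ Y := pow_mem (show d ∈ Y from hd) i
    have hb := c.mem_bAut_of_coprime hQS (c.autGroup_pSys_le_bSys n hQS hiY.1) hi
    obtain ⟨l, hl⟩ := c.kerT_pElement hQS (⟨hb.1, hiY.2, hb.2.1⟩ : d ^ i ∈ kerT F T Q)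
    have h1 : d ^ i = 1 := eq_one_of_coprime_of_pow hi hl
    rw [h1, one_mul] at hij
    refine ⟨k, Subtype.ext (Subtype.ext ?_)⟩
    show d ^ p ^ k = 1
    rw [hij, ← hk, pow_orderOf_eq_one]
  have hzY : conjAut Q hzn ∈ Y := ⟨autInducedBy_le_autGroup hQS (conjAut_mem_autInducedBy hzn (c.hTS (hCT hz))),
    fun x hx => Subtype.ext (conj_eq_of_commute ((mem_centralizerIn.1 hz).2 x ⟨x.2, hx⟩))⟩
  have hzk : conjAut Q hzn ∈ coreAut (c.pSys n) p Q :=
    ⟨⟨_, hzY.1⟩, Cfsg.Lib.Core.le_pCore' hYn hYp (Subgroup.mem_subgroupOf.2 hzY), rfl⟩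
  obtain ⟨w, hw⟩ := hle ⟨conjAut_mem_autInducedBy hzn (c.hTS (hCT hz)), hzk⟩
  refine hzQ ?_
  have hmem : (w : Ω)⁻¹ * z ∈ Q := hcen.2 Q hPQ (mem_centralizerIn.2
    ⟨S.mul_mem (S.inv_mem (hQS w.2)) (c.hTS (hCT hz)), fun y hy => by
      have h1 := congrArg (fun d : MulAut Q => (d ⟨y, hy⟩ : Ω)) hw
      change (w : Ω) * y * (w : Ω)⁻¹ = z * y * z⁻¹ at h1
      calc (w : Ω)⁻¹ * z * y = (w : Ω)⁻¹ * (z * y * z⁻¹) * z := by group
        _ = y * ((w : Ω)⁻¹ * z) := by rw [← h1]; group⟩)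
  rw [show z = (w : Ω) * ((w : Ω)⁻¹ * z) by group]
  exact Q.mul_mem w.2 hmem

/-- The step of the downward induction. -/
theorem pSys_step {n : ℕ}
    (hup : ∀ R : Subgroup Ω, R ≤ S → n < Nat.card R → GoodClass (c.pSys 0) p R)
    {R : Subgroup Ω} (hR : R ≤ S) (hn : Nat.card R = n) : GoodClass (c.pSys 0) p R := by
  have hS := c.pS
  have hgood : ∀ R : Subgroup Ω, R ≤ S → Nat.card R = n → GoodAbove (c.pSys n) p R := by
    intro R _ hn M hM hcard
    rw [hn] at hcard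
    exact goodClass_congr hM
      (fun A hA => c.pSys_hom_eq (Or.inl (by rwa [← card_eq_of_isConj hA])))
      (fun M' _ hc => (c.pSys_hom_eq (Or.inl (lt_of_lt_of_le hcard hc))).subset) (hup M hM hcard)
  by_cases hc : InH F T R
  · obtain ⟨Qd, hQd, hQH, hU, hmax⟩ := c.exists_class_max hc
    have hQn : Nat.card Qd = n := (card_eq_of_isConj hQd).symm.trans hn
    obtain ⟨hK, htop⟩ := c.aut_le_kM hQH.1 (by rw [hQn]; exact hgood Qd hQH.1 hQn) hmax
    have hgM := c.goodM_of_max hQH hU hmax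
    refine ⟨Qd, hQd, ⟨hQH.1, ?_⟩, c.isReceptive_pSys hgM hK htop⟩
    rw [le_antisymm hK (c.kM_le_pSys hQH)]
    exact hgM.sylow
  have hlt : n < Nat.card S := by
    refine lt_of_le_of_ne (hn ▸ card_le_of_le hR) fun h => hc ?_
    rw [eq_of_le_of_card_le le_rfl hR (by omega)]
    exact c.inH_of_le c.uCentric_self c.hTS le_rfl
  have hclass : ∀ A, (c.pSys 0).IsConj R A → (c.pSys 0).Hom A = (c.pSys n).Hom A := fun A hA =>
    c.pSys_hom_eq (Or.inr ⟨(card_eq_of_isConj hA).symm.trans hn, fun h => hc (by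
      obtain ⟨e, he⟩ := isConj_iff.1 hA
      exact c.inH_of_iso (c.isoIn_of_pSys he).symm h)⟩)
  refine goodClass_congr hR (fun A hA => (hclass A hA).symm) (fun M _ _ => c.pSys_mono (Nat.zero_le n) M) ?_
  obtain ⟨P₁, hP₁, hmax₁⟩ := exists_max_conj (F := c.pSys n) hR
    (fun Q => Nat.card (normalizerIn S Q)) (fun Q _ => card_le_of_le (normalizerIn_le Q))
  have facts : ∀ Pm, (c.pSys n).IsConj R Pm →
      (∀ A, (c.pSys n).IsConj R A → Nat.card (normalizerIn S A) ≤ Nat.card (normalizerIn S Pm)) →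
      GoodAbove (c.pSys n) p Pm ∧
        (∀ (A B : Subgroup Ω) (e : A ≃* B), IsoIn (c.pSys n) e → (c.pSys n).IsConj Pm A →
          BigIso (c.pSys n) e) ∧
        (∀ A, (c.pSys n).IsConj Pm A → Nat.card (normalizerIn S A) ≤ Nat.card (normalizerIn S Pm)) ∧
        (∀ A, (c.pSys n).IsConj Pm A → ToP (c.pSys n) Pm A) := by
    intro Pm hPm hmax
    have hg := hgood Pm (isConj_le hPm).2 ((card_eq_of_isConj hPm).symm.trans hn)
    have hb : ∀ (A B : Subgroup Ω) (e : A ≃* B), IsoIn (c.pSys n) e → (c.pSys n).IsConj Pm A →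
        BigIso (c.pSys n) e := fun A B e he hA => c.bigIso_level hn hlt e he (isConj_trans hPm hA)
    have hm : ∀ A, (c.pSys n).IsConj Pm A → Nat.card (normalizerIn S A) ≤ Nat.card (normalizerIn S Pm) :=
      fun A hA => hmax A (isConj_trans hPm hA)
    exact ⟨hg, hb, hm, fun A hA => toP_of_isConj hS hg hb hm hA⟩
  obtain ⟨hg₁, hb₁, hm₁, hc₁⟩ := facts P₁ hP₁ hmax₁
  have hP₁S : P₁ ≤ S := (isConj_le hP₁).2
  have hlt₁ : P₁ < coreNorm (c.pSys n) p P₁ := by
    refine lt_coreNorm hS hc₁ hP₁S ?_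
    by_cases hcen : (c.pSys n).IsCentric P₁
    · refine Or.inr (c.exists_core_not_inner ((card_eq_of_isConj hP₁).symm.trans hn) hP₁S (fun h => hc ?_) hcen)
      obtain ⟨e, he⟩ := isConj_iff.1 hP₁
      exact c.inH_of_iso (c.isoIn_of_pSys he).symm h
    · exact Or.inl hcen
  obtain ⟨Pm, hconj, hle, hL⟩ := exists_good_coreNorm hS hg₁ hP₁S hlt₁
  obtain ⟨-, hrec, hst⟩ := hL hm₁
  have hPm : (c.pSys n).IsConj R Pm := isConj_trans hP₁ hconj
  obtain ⟨hg, hb, -, hcl⟩ := facts Pm hPm fun A hA => (hmax₁ A hA).trans hle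
  have hPmS : Pm ≤ S := (isConj_le hPm).2
  obtain ⟨hfa, hr⟩ := good_of_coreNorm hS hcl hPmS
    (fun α hα => extIso_coreNorm_of_mem hS hg hcl hb hPmS hα) hrec hst
  exact ⟨Pm, hPm, hfa, hr⟩

theorem goodClass_pSys : ∀ (m : ℕ) (R : Subgroup Ω), R ≤ S → Nat.card S ≤ Nat.card R + m →
    GoodClass (c.pSys 0) p R := by
  intro m
  induction m using Nat.strong_induction_on with
  | _ m ih =>
    intro R hR hm
    refine c.pSys_step (fun M hM hcard => ?_) hR rfl
    have := card_le_of_le hM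
    exact ih (Nat.card S - Nat.card M) (by omega) M hM (by omega)

/-- The system is saturated. -/
theorem isSaturated_pSys : (c.pSys 0).IsSaturated p := fun R hR =>
  c.goodClass_pSys _ R hR (Nat.le_add_left _ _)

/-- Its hyperfocal subgroup lies in `T`. -/
theorem hyperfocal_pSys_le : (c.pSys 0).hyperfocalSubgroup p ≤ T :=
  hyperfocal_le_of_coprime fun _ hP _ ha hc x =>
    (c.mem_bAut_of_coprime hP (c.autGroup_pSys_le_bSys 0 hP ha) hc).2.1 x

end ProdCtx

end Cfsg.Lib.FusionSys
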