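import Cfsg.Agent.Lib.FusionSys.ProductER.Coprime
import Cfsg.Agent.Lib.FusionSys.ExtIso

/-!
The system over `S` generated by the bounding automorphisms of order prime to `p` at the subgroups meeting `T`
in a self-centralizing subgroup, with its levels; it contains the subsystem.
-/

set_option autoImplicit false
set_option linter.style.haveILetI false
set_option maxHeartbeats 800000

namespace Cfsg.Lib.FusionSys

open Cfsg Cfsg.FusionSystem

variable {Ω : Type*} [Group Ω] {S T : Subgroup Ω} {F : FusionSystem S} {E : FusionSystem T} {p : ℕ}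

/-- The subgroups whose intersection with `T` is self-centralizing in `T` for all conjugates. -/
def InH (F : FusionSystem S) (T M : Subgroup Ω) : Prop :=
  M ≤ S ∧ UCentric F T (M ⊓ T)

namespace ProdCtx

variable (c : ProdCtx F E p)
include c

theorem inter_conj {M N : Subgroup Ω} {e : M ≃* N} (he : IsoIn F e) : F.IsConj (M ⊓ T) (N ⊓ T) := by
  refine ⟨_, restrict_mem (he : N.subtype.comp e.toMonoidHom ∈ F.Hom M) (inf_le_left : M ⊓ T ≤ M), ?_⟩
  ext y
  constructor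
  · rintro ⟨x, rfl⟩
    exact ⟨(e _).2, stronglyClosed_apply_mem c.sc he (x := Subgroup.inclusion inf_le_left x) x.2.2⟩
  · intro hy
    refine ⟨⟨_, (e.symm ⟨y, hy.1⟩).2, stronglyClosed_apply_mem c.sc he.symm (x := ⟨y, hy.1⟩) hy.2⟩, ?_⟩
    exact congrArg Subtype.val (e.apply_symm_apply ⟨y, hy.1⟩)

theorem inH_of_iso {M N : Subgroup Ω} {e : M ≃* N} (he : IsoIn F e) (hM : InH F T M) : InH F T N :=
  ⟨he.le_right, hM.2.of_conj c.sc (c.inter_conj he)⟩

theorem inH_mono {M N : Subgroup Ω} (hM : InH F T M) (hMN : M ≤ N) (hN : N ≤ S) : InH F T N :=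
  ⟨hN, hM.2.mono (inf_le_inf_right T hMN) inf_le_right⟩

theorem inH_of_le {U M : Subgroup Ω} (hU : UCentric F T U) (hUM : U ≤ M) (hM : M ≤ S) : InH F T M :=
  ⟨hM, hU.mono (le_inf hUM hU.1) inf_le_right⟩

theorem uCentric_self [Finite S] : UCentric F T T := by
  refine ⟨le_rfl, fun Q hQ => ?_⟩
  obtain ⟨φ, hφ, rfl⟩ := hQ
  rw [range_eq_of_card_le hφ c.hTS (fun x => c.sc.2 T le_rfl φ hφ x) le_rfl]
  exact centralizerIn_le _

/-- `G` contains the generators above `n`. -/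
def Gen (_c : ProdCtx F E p) (n : ℕ) (G : FusionSystem S) : Prop :=
  ∀ R : Subgroup Ω, InH F T R → n < Nat.card R → aGenP F E p R ≤ G.autGroup R

/-- The least system containing the generators above `n`. -/
def pSys (n : ℕ) : FusionSystem S where
  Hom P := {φ | φ ∈ c.bSys.Hom P ∧ ∀ G : FusionSystem S, c.Gen n G → φ ∈ G.Hom P}
  le_of_mem h := c.bSys.le_of_mem h.1
  injective_of_mem h := c.bSys.injective_of_mem h.1
  conj_mem := fun hP hg => ⟨c.bSys.conj_mem hP hg, fun G _ => G.conj_mem hP hg⟩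
  comp_mem := fun hφ hψ h => ⟨c.bSys.comp_mem hφ.1 hψ.1 h,
    fun G hG => G.comp_mem (hφ.2 G hG) (hψ.2 G hG) h⟩
  inv_mem := by
    rintro P φ hφ
    obtain ⟨ψ, hψ, hψe⟩ := c.bSys.inv_mem hφ.1
    refine ⟨ψ, ⟨hψ, fun G hG => ?_⟩, hψe⟩
    obtain ⟨χ, hχ, hχe⟩ := G.inv_mem (hφ.2 G hG)
    refine hom_congr hχ ?_
    rintro ⟨_, x, rfl⟩
    exact (hψe x).trans (hχe x).symm

theorem pSys_le {n : ℕ} {G : FusionSystem S} (hG : c.Gen n G) : c.pSys n ≤ G :=
  fun _ _ h => h.2 G hG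

theorem pSys_sub_bSys (n : ℕ) : (c.pSys n).IsSubsystemOf c.bSys := fun _ _ h => h.1

theorem pSys_sub (n : ℕ) : (c.pSys n).IsSubsystemOf F := fun _ _ h => h.1.1

theorem isoIn_of_pSys {n : ℕ} {P Q : Subgroup Ω} {e : P ≃* Q} (he : IsoIn (c.pSys n) e) : IsoIn F e :=
  c.pSys_sub n _ he

theorem isConj_of_pSys {n : ℕ} {P Q : Subgroup Ω} (h : (c.pSys n).IsConj P Q) : F.IsConj P Q := by
  obtain ⟨φ, hφ, hr⟩ := h
  exact ⟨φ, c.pSys_sub n P hφ, hr⟩

variable [Finite S] [Fact p.Prime]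

theorem gen_bSys (n : ℕ) : c.Gen n c.bSys := fun R hR _ =>
  (aGenP_le_bAut R).trans (c.bAut_le_bSys hR.1)

theorem gen_pSys (n : ℕ) : c.Gen n (c.pSys n) := fun R hR hn a ha =>
  (mem_autGroup hR.1).2 ⟨(mem_autGroup hR.1).1 (c.gen_bSys n R hR hn ha),
    fun _ hG => (mem_autGroup hR.1).1 (hG R hR hn ha)⟩

theorem aGenP_le_pSys {R : Subgroup Ω} (hR : InH F T R) : aGenP F E p R ≤ (c.pSys 0).autGroup R := by
  haveI := finite_of_le hR.1
  exact c.gen_pSys 0 R hR Nat.card_pos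

theorem pSys_mono {m n : ℕ} (h : m ≤ n) : c.pSys n ≤ c.pSys m :=
  c.pSys_le fun R hR hn => c.gen_pSys m R hR (lt_of_le_of_lt h hn)

/-- Above `n` the generators at smaller subgroups change nothing, and at `n` they only compose. -/
theorem pSys_level (n : ℕ) {M : Subgroup Ω} {φ : M →* Ω} (hφ : φ ∈ (c.pSys 0).Hom M) :
    (n < Nat.card M → φ ∈ (c.pSys n).Hom M) ∧
      (Nat.card M = n → ∃ a : MulAut M, (a = 1 ∨ InH F T M ∧ a ∈ aGenP F E p M) ∧
        ∃ ψ ∈ (c.pSys n).Hom M, ∀ x, φ x = ψ (a x)) := by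
  let Z : FusionSystem S :=
    { Hom := fun M => {φ | φ ∈ c.bSys.Hom M ∧ (n < Nat.card M → φ ∈ (c.pSys n).Hom M) ∧
        (Nat.card M = n → ∃ a : MulAut M, (a = 1 ∨ InH F T M ∧ a ∈ aGenP F E p M) ∧
          ∃ ψ ∈ (c.pSys n).Hom M, ∀ x, φ x = ψ (a x))}
      le_of_mem := fun h => c.bSys.le_of_mem h.1
      injective_of_mem := fun h => c.bSys.injective_of_mem h.1
      conj_mem := fun hP hg => ⟨c.bSys.conj_mem hP hg, fun _ => (c.pSys n).conj_mem hP hg,
        fun _ => ⟨1, Or.inl rfl, _, (c.pSys n).conj_mem hP hg, fun _ => rfl⟩⟩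
      comp_mem := by
        rintro P Q φ χ ⟨hφ, hφ₁, hφ₂⟩ ⟨hχ, hχ₁, hχ₂⟩ h
        haveI := finite_of_le (hom_le hχ)
        have hcard : Nat.card P ≤ Nat.card Q := by
          rw [← card_range hφ]
          exact Nat.card_le_card_of_injective _
            (Subgroup.inclusion_injective (by rintro _ ⟨x, rfl⟩; exact h x : φ.range ≤ Q))
        refine ⟨c.bSys.comp_mem hφ hχ h, fun hn => (c.pSys n).comp_mem (hφ₁ hn) (hχ₁ (by omega)) h,
          fun hn => ?_⟩
        obtain ⟨a, ha, ψ, hψ, hψe⟩ := hφ₂ hn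
        have hψv : ∀ x, ψ x ∈ Q := fun x => by
          have := h (a⁻¹ x)
          rwa [hψe, MulAut.apply_inv_self] at this
        rcases Nat.lt_or_ge n (Nat.card Q) with hlt | hge
        · refine ⟨a, ha, _, (c.pSys n).comp_mem hψ (hχ₁ hlt) hψv, fun x => ?_⟩
          exact congrArg χ (Subtype.ext (hψe x))
        obtain ⟨a', ha', ψ', hψ', hψ'e⟩ := hχ₂ (by omega)
        have hr : ψ.range = Q := by
          refine eq_of_le_of_card_le (hom_le hχ) (by rintro _ ⟨x, rfl⟩; exact hψv x) ?_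
          rw [card_range hψ]; omega
        set e := homIso hψ hr with he
        set a'' := MulAut.congr e.symm a' with ha''
        have he' : IsoIn F e := c.pSys_sub n _ (isoIn_homIso hψ hr)
        have hcase : a'' = 1 ∨ InH F T P ∧ a'' ∈ aGenP F E p P := by
          rcases ha' with rfl | ⟨hQc, ha'⟩
          · exact Or.inl (map_one _)
          · exact Or.inr ⟨c.inH_of_iso he'.symm hQc, c.aGenP_congr he'.symm ha'⟩
        refine ⟨a'' * a, ?_, _, (c.pSys n).comp_mem hψ hψ' hψv, fun x => ?_⟩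
        · rcases hcase with h1 | ⟨hPc, h1⟩
          · rw [h1, one_mul]; exact ha
          · rcases ha with rfl | ⟨-, ha⟩
            · rw [mul_one]; exact Or.inr ⟨hPc, h1⟩
            · exact Or.inr ⟨hPc, mul_mem h1 ha⟩
        · show χ ⟨φ x, h x⟩ = ψ' ⟨ψ (a'' (a x)), hψv _⟩
          rw [hψ'e]
          refine congrArg ψ' (Subtype.ext ?_)
          show ((a' ⟨φ x, h x⟩ : Q) : Ω) = (e (e.symm (a' (e (a x)))) : Ω)
          rw [MulEquiv.apply_symm_apply]
          exact congrArg (fun z : Q => (a' z : Ω)) (Subtype.ext (hψe x))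
      inv_mem := by
        rintro P φ ⟨hφ, hφ₁, hφ₂⟩
        obtain ⟨ρ, hρ, hρe⟩ := c.bSys.inv_mem hφ
        have hc := card_range hφ
        refine ⟨ρ, ⟨hρ, fun hn => ?_, fun hn => ?_⟩, hρe⟩
        · obtain ⟨χ, hχ, hχe⟩ := (c.pSys n).inv_mem (hφ₁ (by omega))
          refine hom_congr hχ ?_
          rintro ⟨_, x, rfl⟩
          exact (hρe x).trans (hχe x).symm
        obtain ⟨a, ha, ψ, hψ, hψe⟩ := hφ₂ (by omega)
        have hr : ψ.range = φ.range := by
          ext y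
          exact ⟨fun ⟨x, hx⟩ => ⟨a⁻¹ x, by rw [hψe, MulAut.apply_inv_self, hx]⟩,
            fun ⟨x, hx⟩ => ⟨a x, (hψe x).symm.trans hx⟩⟩
        set e := homIso hψ hr with he
        have heM := isoIn_homIso hψ hr
        have he' : IsoIn F e := c.pSys_sub n _ heM
        refine ⟨MulAut.congr e a⁻¹, ?_, _, heM.symm, ?_⟩
        · rcases ha with rfl | ⟨hPc, ha⟩
          · exact Or.inl (by rw [inv_one, map_one])
          · exact Or.inr ⟨c.inH_of_iso he' hPc, c.aGenP_congr he' (inv_mem ha)⟩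
        · rintro ⟨_, x, rfl⟩
          have h2 : e.symm ⟨φ x, x, rfl⟩ = a x := by
            rw [MulEquiv.symm_apply_eq]
            exact Subtype.ext (hψe x)
          show ρ ⟨φ x, x, rfl⟩ = ((e.symm (e (a⁻¹ (e.symm ⟨φ x, x, rfl⟩))) : P) : Ω)
          rw [MulEquiv.symm_apply_apply, h2, MulAut.inv_apply_self]
          exact hρe x }
  have hZ : c.Gen 0 Z := by
    intro R hR _ a ha
    haveI := finite_of_le hR.1
    have hb := (mem_autGroup hR.1).1 (c.gen_bSys 0 R hR Nat.card_pos ha)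
    refine (mem_autGroup hR.1).2 ⟨hb, fun hn => (mem_autGroup hR.1).1 (c.gen_pSys n R hR hn ha), fun _ => ?_⟩
    exact ⟨a, Or.inr ⟨hR, ha⟩, R.subtype, subtype_mem _ hR.1, fun _ => rfl⟩
  exact (c.pSys_le hZ M hφ).2

theorem pSys_hom_eq {n : ℕ} {M : Subgroup Ω}
    (hM : n < Nat.card M ∨ (Nat.card M = n ∧ ¬ InH F T M)) : (c.pSys 0).Hom M = (c.pSys n).Hom M := by
  refine Set.Subset.antisymm (fun φ hφ => ?_) (c.pSys_mono (Nat.zero_le n) M)
  rcases hM with h | ⟨h, hU⟩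
  · exact (c.pSys_level n hφ).1 h
  · obtain ⟨a, ha, ψ, hψ, hψe⟩ := (c.pSys_level n hφ).2 h
    rcases ha with rfl | ⟨hc, -⟩
    · exact hom_congr hψ hψe
    · exact absurd hc hU

/-- Centric subgroups of the subsystem are self-centralizing in `T` for all conjugates. -/
theorem uCentric_of_centricE {P : Subgroup Ω} (hP : E.IsCentric P) : UCentric F T P := by
  refine ⟨hP.1, ?_⟩
  rintro _ ⟨φ, hφ, rfl⟩ y hy
  obtain ⟨α, hα, φ₀, hφ₀, he⟩ := c.inv.2.2.2 P hP.1 φ hφ
  obtain ⟨hyT, hyc⟩ := mem_centralizerIn.1 hy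
  set z := α⁻¹ ⟨y, hyT⟩ with hz
  have hzc : (z : Ω) ∈ centralizerIn T φ₀.range := by
    refine mem_centralizerIn.2 ⟨z.2, ?_⟩
    rintro _ ⟨x, rfl⟩
    refine congrArg Subtype.val (show z * ⟨φ₀ x, hom_mem hφ₀ x⟩ = ⟨φ₀ x, hom_mem hφ₀ x⟩ * z from ?_)
    apply α.injective
    rw [map_mul, map_mul, hz, MulAut.apply_inv_self]
    refine Subtype.ext ?_
    show y * _ = _ * y
    rw [← he]
    exact hyc _ ⟨x, rfl⟩
  obtain ⟨x, hx⟩ := hP.2 _ ⟨φ₀, hφ₀, rfl⟩ hzc
  refine ⟨x, ?_⟩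
  rw [he x (hom_mem hφ₀ x), show (⟨φ₀ x, hom_mem hφ₀ x⟩ : T) = z from Subtype.ext hx, hz, MulAut.apply_inv_self]

/-- The automorphisms in the subsystem of order prime to `p` are bounding automorphisms. -/
theorem bAut_of_autE {P : Subgroup Ω} (hP : P ≤ T) {a : MulAut P} (ha : a ∈ E.autGroup P) :
    a ∈ bAut F E P := by
  have hh := (mem_autGroup hP).1 ha
  refine ⟨(mem_autGroup (hP.trans c.hTS)).2 (c.inv.1 _ hh), fun x => T.mul_mem (T.inv_mem (hP x.2)) (hP (a x).2), ?_⟩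
  haveI := finite_of_le c.hTS
  haveI := finite_of_le (hP.trans c.hTS)
  have hr := restrict_mem hh (inf_le_left : P ⊓ T ≤ P)
  obtain ⟨b, hb, hbe⟩ := exists_aut_of_hom (F := fullOn E T le_rfl)
    (φ := (P.subtype.comp a.toMonoidHom).comp (Subgroup.inclusion inf_le_left))
    ⟨hr, inf_le_right, fun x => hP (a _).2⟩ fun x => ⟨(a _).2, hP (a _).2⟩
  exact ⟨b, (mem_autGroup inf_le_right).2 ((mem_autGroup inf_le_right).1 hb).1, fun x => (hbe x).symm⟩

/-- The system contains the subsystem. -/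
theorem emap_mem_pSys {P : Subgroup Ω} {φ : P →* Ω} (hφ : φ ∈ E.Hom P) : φ ∈ (c.pSys 0).Hom P := by
  haveI := finite_of_le c.hTS
  have hTp := c.pS.to_le c.hTS
  suffices h : E ≤ fullOn (c.pSys 0) T c.hTS from (h P hφ).1
  refine le_of_autGroup_le hTp c.satE _ fun P hP => ?_
  have hPT : P ≤ T := hP.elim (fun e => e.le) fun e => e.1.1
  have hPS := hPT.trans c.hTS
  have hU : UCentric F T P := hP.elim (fun e => e ▸ c.uCentric_self) fun e => c.uCentric_of_centricE e.1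
  haveI := finite_of_le hPS
  haveI : Finite (MulAut P) := Finite.of_injective (fun f => (f : P → P)) DFunLike.coe_injective
  have hfn : E.IsFullyNormalized P := hP.elim (fun e => e ▸ isFullyNormalized_top E) fun e => e.2.1
  obtain ⟨-, R, hR⟩ := (isFullyAutomized_and_fc_of_fn hTp c.satE hfn).2
  refine le_of_sylow_of_coprime R (le_of_eq_of_le
    (by rw [hR, Subgroup.map_subgroupOf_eq_of_le (autInducedBy_le_autGroup hPT)])
    (autInducedBy_le_autGroup hPT)) fun a ha hc => ?_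
  have h := (mem_autGroup hPS).1 (c.aGenP_le_pSys (c.inH_of_le hU le_rfl hPS)
    (Subgroup.subset_closure ⟨c.bAut_of_autE hPT ha, hc⟩))
  exact (mem_autGroup hPT).2 ⟨h, hPT, fun x => hPT (a x).2⟩

theorem autE_le_pSys {P : Subgroup Ω} (hP : P ≤ T) : E.autGroup P ≤ (c.pSys 0).autGroup P := fun _ ha =>
  (mem_autGroup (hP.trans c.hTS)).2 (c.emap_mem_pSys ((mem_autGroup hP).1 ha))

end ProdCtx

end Cfsg.Lib.FusionSys
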