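import Cfsg.Agent.Lib.FusionSys.ProductER.Base
import Cfsg.Agent.Lib.FusionSys.ComponentCommute
import Cfsg.Agent.Lib.FusionSys.ResidualModel

/-!
Small tools for the product with a subgroup of `S`: fully normalized positions, normal `p`-subgroups of automizers,
powers of order prime to `p` of extensions.
-/

set_option autoImplicit false
set_option linter.style.haveILetI false

namespace Cfsg.Lib.FusionSys

open Cfsg Cfsg.FusionSystem

variable {Ω : Type*} [Group Ω] {S T : Subgroup Ω} {F : FusionSystem S} {E : FusionSystem T} {p : ℕ}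

/-- A subgroup sent into itself by all maps of the system is fully normalized. -/
theorem isFullyNormalized_of_fixed [Finite S] {W : Subgroup Ω} (hW : W ≤ S)
    (h : ∀ φ ∈ F.Hom W, ∀ x : W, φ x ∈ W) : F.IsFullyNormalized W := by
  refine ⟨hW, ?_⟩
  rintro Q ⟨φ, hφ, rfl⟩
  rw [range_eq_of_card_le hφ hW (h φ hφ) le_rfl]

/-- A normal `p`-subgroup of the automizer of a fully normalized subgroup consists of conjugations by `S`. -/
theorem le_autInducedBy_of_normal [Finite S] [Fact p.Prime] (hS : IsPGroup p S) (hF : F.IsSaturated p)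
    {X : Subgroup Ω} (hX : F.IsFullyNormalized X) {K : Subgroup (MulAut X)} (hKA : K ≤ F.autGroup X)
    (hn : ∀ a ∈ K, ∀ b ∈ F.autGroup X, b * a * b⁻¹ ∈ K) (hp : ∀ a ∈ K, ∃ k : ℕ, a ^ p ^ k = 1) :
    K ≤ autInducedBy S X := by
  haveI := finite_of_le hX.1
  haveI : Finite (MulAut X) := Finite.of_injective (fun f => (f : X → X)) DFunLike.coe_injective
  obtain ⟨-, -, R, hR⟩ := isFullyAutomized_and_fc_of_fn hS hF hX
  have hN : (K.subgroupOf (F.autGroup X)).Normal := ⟨fun a ha b => hn _ ha _ b.2⟩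
  have hP : IsPGroup p (K.subgroupOf (F.autGroup X)) := fun a => by
    obtain ⟨k, hk⟩ := hp _ a.2
    exact ⟨k, Subtype.ext (Subtype.ext hk)⟩
  intro a ha
  have h : (⟨a, hKA ha⟩ : F.autGroup X) ∈ (R : Subgroup (F.autGroup X)) :=
    Cfsg.Lib.Core.pCore_le_sylow R (Cfsg.Lib.Core.le_pCore' hN hP ha)
  rwa [hR, Subgroup.mem_subgroupOf] at h

/-- At a fully normalized position of a saturated system, a conjugation by an element of an overgroup `S` lying in
the automizer is a conjugation by an element of the defining group. -/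
theorem mem_autInducedBy_of_sylow [Finite S] [Fact p.Prime] (hS : IsPGroup p S) (hTS : T ≤ S)
    (hE : E.IsSaturated p) {Q : Subgroup Ω} (hQ : E.IsFullyNormalized Q) {x : MulAut Q}
    (hx : x ∈ E.autGroup Q) (hxS : x ∈ autInducedBy S Q) : x ∈ autInducedBy T Q := by
  haveI := finite_of_le hTS
  haveI := finite_of_le hQ.1
  haveI : Finite (MulAut Q) := Finite.of_injective (fun f => (f : Q → Q)) DFunLike.coe_injective
  obtain ⟨-, -, R, hR⟩ := isFullyAutomized_and_fc_of_fn (hS.to_le hTS) hE hQ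
  let X : Subgroup (E.autGroup Q) := (autInducedBy S Q).subgroupOf (E.autGroup Q)
  have hX : IsPGroup p X := fun g => by
    obtain ⟨k, hk⟩ := isPGroup_autInducedBy (P := Q) hS ⟨_, g.2⟩
    exact ⟨k, Subtype.ext (Subtype.ext (congrArg Subtype.val hk :))⟩
  have hle : (R : Subgroup (E.autGroup Q)) ≤ X := by
    rw [hR]
    exact fun a ha => autInducedBy_mono hTS ha
  have h2 : (⟨x, hx⟩ : E.autGroup Q) ∈ (R : Subgroup (E.autGroup Q)) := (R.3 hX hle) ▸ hxS
  rwa [hR, Subgroup.mem_subgroupOf] at h2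

/-- A hom of an overgroup restricting to an automorphism of order prime to `p` gives, when it preserves the
overgroup, an automorphism of order prime to `p` with the same restriction. -/
theorem exists_pPrime_extension [Finite S] [Fact p.Prime] {W V : Subgroup Ω} (hWV : W ≤ V) (hV : V ≤ S)
    {a : MulAut W} {m : ℕ} (hm : m.Coprime p) (ham : a ^ m = 1) {Ψ : MulAut V} (hΨ : Ψ ∈ F.autGroup V)
    (hΨa : ∀ x : W, ((Ψ (Subgroup.inclusion hWV x) : V) : Ω) = (a x : Ω)) :
    ∃ θ ∈ F.autGroup V, ∃ v : ℕ, v.Coprime p ∧ θ ^ v = 1 ∧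
      (∀ x : W, ((θ (Subgroup.inclusion hWV x) : V) : Ω) = (a x : Ω)) ∧ ∃ j : ℕ, θ = Ψ ^ j := by
  haveI := finite_of_le hV
  haveI : Finite (MulAut V) := Finite.of_injective (fun f => (f : V → V)) DFunLike.coe_injective
  obtain ⟨j, v, hj, hv, hΨv⟩ := exists_pPrime_pow (p := p) (e := a) Ψ (isOfFinOrder_of_finite Ψ)
    (Nat.Coprime.coprime_dvd_left (orderOf_dvd_of_pow_eq_one ham) hm)
  refine ⟨Ψ ^ j, pow_mem hΨ j, v, hv, hΨv, fun x => ?_, j, rfl⟩
  rw [← aut_pow_agree (θ := a) hWV (fun y => (hΨa y).symm) j x, hj]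

theorem coprime_of_pow_eq_one {G : Type*} [Monoid G] {g : G} {m : ℕ} (hm : m.Coprime p) (h : g ^ m = 1) :
    (orderOf g).Coprime p :=
  Nat.Coprime.coprime_dvd_left (orderOf_dvd_of_pow_eq_one h) hm

theorem eq_one_of_coprime_of_pow {G : Type*} [Monoid G] [Fact p.Prime] {g : G} (hg : (orderOf g).Coprime p) {k : ℕ}
    (h : g ^ p ^ k = 1) : g = 1 :=
  orderOf_eq_one_iff.1 (Nat.eq_one_of_dvd_coprimes (hg.pow_right k) dvd_rfl (orderOf_dvd_of_pow_eq_one h))

/-- The decomposition into powers of order prime to `p` and of `p`-power order. -/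
theorem exists_coprime_parts [Fact p.Prime] {G : Type*} [Group G] [Finite G] (g : G) :
    ∃ i j : ℕ, g = g ^ i * g ^ j ∧ (orderOf (g ^ i)).Coprime p ∧ ∃ k, orderOf (g ^ j) = p ^ k := by
  obtain ⟨u, v, hv, huv⟩ := Nat.exists_eq_pow_mul_and_not_dvd (orderOf_pos g).ne' p
    (Fact.out : p.Prime).ne_one
  have hcop : v.Coprime p := ((Fact.out : p.Prime).coprime_iff_not_dvd.2 hv).symm
  obtain ⟨i, hi₁, hi₂⟩ := Nat.chineseRemainder ((hcop.symm.pow_left u) : (p ^ u).Coprime v) 0 1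
  obtain ⟨j, hj₁, hj₂⟩ := Nat.chineseRemainder ((hcop.symm.pow_left u) : (p ^ u).Coprime v) 1 0
  have hij : i + j ≡ 1 [MOD p ^ u * v] :=
    (Nat.modEq_and_modEq_iff_modEq_mul (hcop.symm.pow_left u)).1 ⟨by simpa using hi₁.add hj₁, by simpa using hi₂.add hj₂⟩
  refine ⟨i, j, ?_, ?_, ?_⟩
  · rw [← pow_add]
    conv_lhs => rw [← pow_one g]
    exact (pow_eq_pow_iff_modEq.2 (by rwa [huv])).symm
  · refine Nat.Coprime.coprime_dvd_left (orderOf_dvd_of_pow_eq_one ?_) hcop
    obtain ⟨q, hq⟩ := Nat.modEq_zero_iff_dvd.1 hi₁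
    rw [← pow_mul, hq, mul_right_comm, ← huv, pow_mul, pow_orderOf_eq_one, one_pow]
  · obtain ⟨k, -, hk⟩ := (Nat.dvd_prime_pow Fact.out).1 (orderOf_dvd_of_pow_eq_one (x := g ^ j) (n := p ^ u) (by
      obtain ⟨q, hq⟩ := Nat.modEq_zero_iff_dvd.1 hj₂
      rw [← pow_mul, hq, mul_comm, ← mul_assoc, ← huv, pow_mul, pow_orderOf_eq_one, one_pow]))
    exact ⟨k, hk⟩

theorem mem_normalizer_inter {A B : Subgroup Ω} {g : Ω} (hA : g ∈ Subgroup.normalizer (A : Set Ω))
    (hB : g ∈ Subgroup.normalizer (B : Set Ω)) : g ∈ Subgroup.normalizer ((A ⊓ B : Subgroup Ω) : Set Ω) :=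
  Subgroup.mem_normalizer_iff.2 fun x =>
    and_congr (Subgroup.mem_normalizer_iff.1 hA x) (Subgroup.mem_normalizer_iff.1 hB x)

end Cfsg.Lib.FusionSys
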