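import Cfsg.Agent.Lib.FusionSys.ProductER.System
import Cfsg.Agent.Lib.FusionSys.SatFamily
import Cfsg.Agent.Lib.FusionSys.MeetRec

/-!
Self-centralizing subgroups of `T` with largest normalizer in the bounding class: the automizer generated by the
subsystem and the conjugations, and the extensions of its elements.
-/

set_option autoImplicit false
set_option linter.style.haveILetI false
set_option maxHeartbeats 800000

namespace Cfsg.Lib.FusionSys

open Cfsg Cfsg.FusionSystem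
open scoped Pointwise

variable {Ω : Type*} [Group Ω] {S T : Subgroup Ω} {F : FusionSystem S} {E : FusionSystem T} {p : ℕ}

theorem mem_of_pGroup_sylow {G : Type*} [Group G] [Fact p.Prime] {A P W : Subgroup G} [Finite A]
    (R : Sylow p A) (hR : (R : Subgroup A) = P.subgroupOf A) (hPW : P ≤ W) (hW : IsPGroup p W) {x : G}
    (hxA : x ∈ A) (hxW : x ∈ W) : x ∈ P := by
  have hX : IsPGroup p (W.subgroupOf A) := fun g => by
    obtain ⟨k, hk⟩ := hW ⟨_, g.2⟩
    exact ⟨k, Subtype.ext (Subtype.ext (congrArg Subtype.val hk :))⟩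
  have hle : (R : Subgroup A) ≤ W.subgroupOf A := by
    rw [hR]
    exact fun a ha => hPW ha
  have h : (⟨x, hxA⟩ : A) ∈ (R : Subgroup A) := (R.3 hX hle) ▸ hxW
  rwa [hR] at h

namespace ProdCtx

variable (c : ProdCtx F E p)
include c

/-- The automizer generated by the subsystem and the conjugations by `S`. -/
def k0 (_c : ProdCtx F E p) (U : Subgroup Ω) : Subgroup (MulAut U) :=
  E.autGroup U ⊔ autInducedBy S U

/-- `U` has largest normalizer in `T` among its conjugates in the bounding system. -/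
def PMaxT (U : Subgroup Ω) : Prop :=
  U ≤ T ∧ ∀ A, c.bSys.IsConj U A → Nat.card (normalizerIn T A) ≤ Nat.card (normalizerIn T U)

/-- `U` has in addition largest normalizer in `S` among those. -/
def PMax (U : Subgroup Ω) : Prop :=
  c.PMaxT U ∧ ∀ A, c.bSys.IsConj U A → Nat.card (normalizerIn T A) = Nat.card (normalizerIn T U) →
    Nat.card (normalizerIn S A) ≤ Nat.card (normalizerIn S U)

theorem autInducedBy_le_k0 (U : Subgroup Ω) : autInducedBy S U ≤ c.k0 U := le_sup_right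

theorem autE_le_k0 (U : Subgroup Ω) : E.autGroup U ≤ c.k0 U := le_sup_left

variable [Finite S] [Fact p.Prime]

theorem le_T_of_bConj {U A : Subgroup Ω} (hU : U ≤ T) (h : c.bSys.IsConj U A) : A ≤ T := by
  obtain ⟨φ, hφ, rfl⟩ := h
  rintro _ ⟨x, rfl⟩
  exact stronglyClosed_apply_mem c.sc hφ.1 (hU x.2)

theorem fnE_of_pMaxT {U : Subgroup Ω} (hU : c.PMaxT U) : E.IsFullyNormalized U := by
  refine ⟨hU.1, ?_⟩
  rintro _ ⟨φ, hφ, rfl⟩
  exact hU.2 _ ⟨φ, c.emap_mem_bSys hφ, rfl⟩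

theorem pMaxT_of_card {U A : Subgroup Ω} (hU : c.PMaxT U) (hA : c.bSys.IsConj U A)
    (h : Nat.card (normalizerIn T U) ≤ Nat.card (normalizerIn T A)) : c.PMaxT A :=
  ⟨c.le_T_of_bConj hU.1 hA, fun B hB => (hU.2 B (isConj_trans hA hB)).trans h⟩

theorem exists_pMax {A : Subgroup Ω} (hA : A ≤ T) : ∃ U, c.bSys.IsConj A U ∧ c.PMax U := by
  have hAS := hA.trans c.hTS
  obtain ⟨U₁, hU₁, hm₁⟩ := exists_max_conj (F := c.bSys) hAS
    (fun Q => Nat.card (normalizerIn T Q)) fun Q _ => card_le_of_le ((normalizerIn_le Q).trans c.hTS)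
  classical
  obtain ⟨U, hU, hm⟩ := exists_max_conj (F := c.bSys) hAS
    (fun Q => if Nat.card (normalizerIn T U₁) ≤ Nat.card (normalizerIn T Q) then Nat.card (normalizerIn S Q) else 0)
    fun Q _ => by
      split
      · exact card_le_of_le (normalizerIn_le Q)
      · exact Nat.zero_le _
  haveI := finite_of_le ((normalizerIn_le (S := S) U₁))
  have h1 : Nat.card (normalizerIn T U₁) ≤ Nat.card (normalizerIn T U) := by
    by_contra hh
    have := hm U₁ hU₁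
    rw [if_pos le_rfl, if_neg hh] at this
    exact Nat.card_pos.ne' (Nat.le_zero.1 this)
  refine ⟨U, hU, ⟨c.le_T_of_bConj hA hU, fun B hB => (hm₁ B (isConj_trans hU hB)).trans h1⟩, fun B hB he => ?_⟩
  have := hm B (isConj_trans hU hB)
  rw [if_pos h1, if_pos (h1.trans he.ge)] at this
  exact this

theorem k0_le_pSys {U : Subgroup Ω} (hU : U ≤ T) : c.k0 U ≤ (c.pSys 0).autGroup U :=
  sup_le (c.autE_le_pSys hU) (autInducedBy_le_autGroup (hU.trans c.hTS))

theorem k0_le_bSys {U : Subgroup Ω} (hU : U ≤ T) : c.k0 U ≤ c.bSys.autGroup U := fun a ha =>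
  (mem_autGroup (hU.trans c.hTS)).2
    (c.pSys_sub_bSys 0 _ ((mem_autGroup (hU.trans c.hTS)).1 (c.k0_le_pSys hU ha)))

theorem exists_mul_k0 {U : Subgroup Ω} (hU : U ≤ T) {k : MulAut U} (hk : k ∈ c.k0 U) :
    ∃ e ∈ E.autGroup U, ∃ s ∈ autInducedBy S U, k = e * s := by
  have hUS := hU.trans c.hTS
  have hn : autInducedBy S U ≤ Subgroup.normalizer ((E.autGroup U : Subgroup (MulAut U)) : Set (MulAut U)) := by
    intro s hs
    have hsF := autInducedBy_le_autGroup (F := F) hUS hs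
    refine Subgroup.mem_normalizer_iff.2 fun a => ⟨fun ha => congr_mem_invariant c.inv hU
      ((mem_autGroup hUS).1 hsF) ha, fun ha => ?_⟩
    have h := congr_mem_invariant c.inv hU ((mem_autGroup hUS).1 (inv_mem hsF)) ha
    convert h using 1
    refine MulEquiv.ext fun x => ?_
    show a x = s⁻¹ (s (a (s⁻¹ (s x))))
    rw [MulAut.inv_apply_self, MulAut.inv_apply_self]
  have h : k ∈ ((E.autGroup U : Set (MulAut U)) * (autInducedBy S U : Set (MulAut U))) := by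
    rw [← Subgroup.coe_mul_of_right_le_normalizer_left _ _ hn]
    exact hk
  obtain ⟨e, he, s, hs, hes⟩ := Set.mem_mul.1 h
  exact ⟨e, he, s, hs, hes.symm⟩

theorem mem_autE_of_coprime {U : Subgroup Ω} (hU : U ≤ T) {b : MulAut U} (hb : b ∈ c.bSys.autGroup U)
    (hc : (orderOf b).Coprime p) : b ∈ E.autGroup U := by
  obtain ⟨-, -, b', hb', hbe⟩ := c.mem_bAut_of_coprime (hU.trans c.hTS) hb hc
  have hr := restrict_mem ((mem_autGroup inf_le_right).1 hb') (le_inf le_rfl hU : U ≤ U ⊓ T)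
  exact (mem_autGroup hU).2 (hom_congr hr fun x => hbe (Subgroup.inclusion (le_inf le_rfl hU) x))

/-- The conjugations form a Sylow subgroup of the automizer at a member with largest normalizer. -/
theorem sylow_k0 {U : Subgroup Ω} (hmax : c.PMaxT U) :
    ∃ W : Sylow p (c.k0 U), (W : Subgroup (c.k0 U)) = (autInducedBy S U).subgroupOf (c.k0 U) := by
  have hU := hmax.1
  have hUS := hU.trans c.hTS
  haveI := finite_of_le c.hTS
  haveI := finite_of_le hUS
  haveI : Finite (MulAut U) := Finite.of_injective (fun f => (f : U → U)) DFunLike.coe_injective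
  obtain ⟨-, -, R, hR⟩ := isFullyAutomized_and_fc_of_fn (c.pS.to_le c.hTS) c.satE (c.fnE_of_pMaxT hmax)
  obtain ⟨W, hW⟩ := ((isPGroup_autInducedBy (P := U) c.pS).comap_subtype :
    IsPGroup p ((autInducedBy S U).subgroupOf (c.k0 U))).exists_le_sylow
  refine ⟨W, le_antisymm (fun x hx => ?_) hW⟩
  obtain ⟨e, he, s, hs, hxe⟩ := c.exists_mul_k0 hU x.2
  have hsW : (⟨s, c.autInducedBy_le_k0 U hs⟩ : c.k0 U) ∈ (W : Subgroup (c.k0 U)) :=
    hW (Subgroup.mem_subgroupOf.2 hs)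
  have heT : e ∈ autInducedBy T U := by
    refine mem_of_pGroup_sylow R hR (fun t ht => ?_) (W.isPGroup'.map (c.k0 U).subtype) he
      ⟨x * ⟨s, c.autInducedBy_le_k0 U hs⟩⁻¹, mul_mem hx (inv_mem hsW), ?_⟩
    · exact ⟨⟨t, c.autInducedBy_le_k0 U (autInducedBy_mono c.hTS ht)⟩,
        hW (Subgroup.mem_subgroupOf.2 (autInducedBy_mono c.hTS ht)), rfl⟩
    · show (x : MulAut U) * s⁻¹ = e
      rw [hxe, mul_inv_cancel_right]
  rw [Subgroup.mem_subgroupOf, hxe]
  exact mul_mem (autInducedBy_mono c.hTS heT) hs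

/-- A coprime automorphism of the automizer normalizing induced automorphisms extends to their elements. -/
theorem extIso_coprime {Qd : Subgroup Ω} (hQ : UCentric F T Qd) (hmax : c.PMaxT Qd) {X : Subgroup (MulAut Qd)}
    (hI : Inn Qd ≤ X) (hX : X ≤ autInducedBy S Qd) {b : MulAut Qd} (hb : b ∈ c.k0 Qd)
    (hcop : (orderOf b).Coprime p) (hbX : ∀ k ∈ X, b * k * b⁻¹ ∈ X) :
    ExtIso (c.pSys 0) (nK S Qd X) (nK S Qd X) (b : Qd ≃* Qd) := by
  set M := nK S Qd X with hM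
  have hQS := hQ.1.trans c.hTS
  have hMS : M ≤ S := nK_le X
  have hQM : Qd ≤ M := fun g hg => mem_nK.2 ⟨hQS hg, MulAut.conj ⟨g, hg⟩, hI ⟨_, rfl⟩, fun q => rfl⟩
  have hMn : M ≤ Subgroup.normalizer (Qd : Set Ω) := fun g hg => nK_normalizes hg
  have hbE := c.mem_autE_of_coprime hQ.1 (c.k0_le_bSys hQ.1 hb) hcop
  have hact : ActsMod T M b := by
    intro g hg
    obtain ⟨hgS, k, hk, hke⟩ := mem_nK.1 hg
    have hk' := hbX k hk
    have hd : b * k * b⁻¹ * k⁻¹ ∈ E.autGroup Qd := by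
      have hkF := autInducedBy_le_autGroup (F := F) hQS (hX hk)
      rw [show b * k * b⁻¹ * k⁻¹ = b * (k * b⁻¹ * k⁻¹) by group]
      exact mul_mem hbE (congr_mem_invariant c.inv hQ.1 ((mem_autGroup hQS).1 hkF) (inv_mem hbE))
    obtain ⟨t, ht, hte⟩ := mem_autInducedBy.1 (mem_autInducedBy_of_sylow c.pS c.hTS c.satE (c.fnE_of_pMaxT hmax) hd
      (hX (mul_mem hk' (inv_mem hk))))
    have hval : ∀ q : Qd, ((b * k * b⁻¹) q : Ω) = t * g * (q : Ω) * (t * g)⁻¹ := fun q => by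
      have h := hte (k q)
      rw [MulAut.mul_apply, MulAut.inv_apply_self, hke] at h
      rw [h]
      group
    refine ⟨t * g, mem_nK.2 ⟨S.mul_mem (c.hTS ht) hgS, _, hk', hval⟩, ?_, fun x hx => ?_⟩
    · rw [← mul_assoc]
      exact c.tmem_conj' hgS ht
    · rw [← hval (b x), show (⟨_, hx⟩ : Qd) = k x from Subtype.ext (hke x).symm, MulAut.mul_apply,
        MulAut.mul_apply, MulAut.inv_apply_self]
  obtain ⟨a, ha, hac, hae⟩ := c.exists_bAut_ext hQ hQM hMS hMn hbE hcop hact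
  have haD := c.aGenP_le_pSys (c.inH_of_le hQ hQM hMS) (Subgroup.subset_closure ⟨ha, hac⟩)
  exact ⟨hQM, _, (mem_autGroup hMS).1 haD, fun x => (a x).2, fun x hx hT => hae ⟨x, hx⟩⟩

omit [Finite S] [Fact p.Prime] in
/-- An automorphism induced by the intersection extends by conjugation. -/
theorem extIso_induced {Qd T' : Subgroup Ω} (hQT : Qd ≤ T') (hT : T' ≤ S) {b : MulAut Qd}
    (hb : b ∈ autInducedBy S Qd) : ExtIso (c.pSys 0) T' S (b : Qd ≃* Qd) := by
  obtain ⟨g, hg, hge⟩ := mem_autInducedBy.1 hb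
  exact ⟨hQT, _, (c.pSys 0).conj_mem hT hg,
    fun x => mul_mem (mul_mem hg (hT x.2)) (inv_mem hg), fun x hx hT' => (hge ⟨x, hx⟩).symm⟩

omit [Finite S] [Fact p.Prime] in
/-- Values of an extension induce the transported automorphisms. -/
theorem extIso_into_pre {Qd T' U' : Subgroup Ω} {b : MulAut Qd} {X : Subgroup (MulAut Qd)}
    (h : ExtIso (c.pSys 0) T' U' (b : Qd ≃* Qd)) (hT : T' ≤ nK S Qd X) :
    ExtIso (c.pSys 0) T' (nK S Qd (X.map (MulAut.conj b).toMonoidHom)) (b : Qd ≃* Qd) := by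
  obtain ⟨hQT, ψ, hψ, -, he⟩ := h
  refine ⟨hQT, ψ, hψ, fun t => ?_, he⟩
  obtain ⟨-, k, hk, hke⟩ := mem_nK.1 (hT t.2)
  refine mem_nK.2 ⟨hom_mem hψ t, b * k * b⁻¹, ⟨k, hk, rfl⟩, fun q => ?_⟩
  obtain ⟨w, rfl⟩ := (b : Qd ≃* Qd).surjective q
  rw [MulAut.mul_apply, MulAut.mul_apply, MulAut.inv_apply_self]
  have h1 := he _ (k w).2 (hQT (k w).2)
  rw [← h1, show (⟨((k w : Qd) : Ω), hQT (k w).2⟩ : T') = t * ⟨(w : Ω), hQT w.2⟩ * t⁻¹ from
    Subtype.ext (hke w), map_mul, map_mul, map_inv, he _ w.2]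

/-- Elements of the automizer extend as far as they carry induced automorphisms to induced ones. -/
theorem extIso_conj_induced {Qd : Subgroup Ω} (hQ : UCentric F T Qd) (hmax : c.PMaxT Qd) :
    ∀ (m : ℕ) (X : Subgroup (MulAut Qd)) (b : MulAut Qd),
      Nat.card (autInducedBy S Qd) ≤ Nat.card X + m → Inn Qd ≤ X →
      X ≤ autInducedBy S Qd → b ∈ c.k0 Qd →
      X.map (MulAut.conj b).toMonoidHom ≤ autInducedBy S Qd →
      ExtIso (c.pSys 0) (nK S Qd X) S (b : Qd ≃* Qd) := by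
  set P := autInducedBy S Qd with hPdef
  have hQS := hQ.1.trans c.hTS
  haveI := finite_of_le hQS
  haveI : Finite (MulAut Qd) := Finite.of_injective (fun f => (f : Qd → Qd)) DFunLike.coe_injective
  have hPp : IsPGroup p P := isPGroup_autInducedBy (c.pS)
  have hPK : P ≤ c.k0 Qd := c.autInducedBy_le_k0 Qd
  obtain ⟨W, hW⟩ := c.sylow_k0 hmax
  intro m
  induction m using Nat.strong_induction_on with
  | _ m ih =>
  intro X b hm hI hX hb hbX
  have hQX : Qd ≤ nK S Qd X := fun g hg =>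
    mem_nK.2 ⟨hQS hg, MulAut.conj ⟨g, hg⟩, hI ⟨_, rfl⟩, fun q => rfl⟩
  have hcard : ∀ (Y : Subgroup (MulAut Qd)) (a : MulAut Qd),
      Nat.card (Y.map (MulAut.conj a).toMonoidHom) = Nat.card Y := fun Y a =>
    Nat.card_congr (Subgroup.equivMapOfInjective Y _ (MulAut.conj a).injective).toEquiv.symm
  rcases lt_or_eq_of_le hX with hlt | heq
  swap
  · -- the automorphism normalizes the Sylow subgroup
    have hnorm : X.map (MulAut.conj b).toMonoidHom = X := Subgroup.eq_of_le_of_card_ge (hbX.trans heq.ge) (hcard X b).ge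
    have hbn : b ∈ Subgroup.normalizer (X : Set (MulAut Qd)) :=
      Subgroup.mem_normalizer_fintype fun k hk => hnorm.le ⟨k, hk, rfl⟩
    obtain ⟨i, j, hij, hi, l, hl⟩ := exists_coprime_parts (p := p) b
    have hjP : b ^ j ∈ X := by
      let y : c.k0 Qd := ⟨b ^ j, pow_mem hb j⟩
      have hy : IsPGroup p (Subgroup.zpowers y) :=
        IsPGroup.iff_card.2 ⟨l, by rw [Nat.card_zpowers, ← Subgroup.orderOf_coe]; exact hl⟩
      have hyn : y ∈ Subgroup.normalizer ((W : Subgroup (c.k0 Qd)) : Set (c.k0 Qd)) := by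
        refine Subgroup.mem_normalizer_fintype fun k hk => ?_
        rw [SetLike.mem_coe, hW, Subgroup.mem_subgroupOf, ← hPdef, ← heq] at hk ⊢
        exact (Subgroup.mem_normalizer_iff.1 (pow_mem hbn j) _).1 hk
      have h1 : y ∈ Subgroup.zpowers y ⊓ (W : Subgroup (c.k0 Qd)) :=
        hy.inf_normalizer_sylow W ▸ (⟨Subgroup.mem_zpowers y, hyn⟩ :
          y ∈ Subgroup.zpowers y ⊓ Subgroup.normalizer ((W : Subgroup (c.k0 Qd)) : Set (c.k0 Qd)))
      have h2 : y ∈ (W : Subgroup (c.k0 Qd)) := h1.2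
      rwa [hW, Subgroup.mem_subgroupOf, ← hPdef, ← heq] at h2
    have hjmap : X.map (MulAut.conj (b ^ j)).toMonoidHom = X := by
      refine Subgroup.eq_of_le_of_card_ge ?_ (hcard X _).ge
      rintro _ ⟨k, hk, rfl⟩
      exact mul_mem (mul_mem hjP hk) (inv_mem hjP)
    have e1 := c.extIso_into_pre (c.extIso_induced hQX (nK_le X) (hX hjP)) le_rfl
    rw [hjmap] at e1
    have e2 := c.extIso_coprime hQ hmax hI hX (pow_mem hb i) hi fun k hk =>
      (Subgroup.mem_normalizer_iff.1 (pow_mem hbn i) k).1 hk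
    refine ((e1.trans e2).mono hQX le_rfl (nK_le X)).congr fun x => ?_
    show b x = (b ^ i) ((b ^ j) x)
    rw [← MulAut.mul_apply, ← hij]
  -- a proper subgroup of the induced automorphisms
  let K : Subgroup (MulAut Qd) := c.k0 Qd
  let NX : Subgroup (MulAut Qd) := K ⊓ Subgroup.normalizer (X : Set (MulAut Qd))
  set Y := normalizerIn P X with hYdef
  have hXY : X < Y := lt_normalizerIn hPp hlt
  have hXYc : Nat.card X < Nat.card Y := by
    by_contra hh
    exact hXY.ne (Subgroup.eq_of_le_of_card_ge hXY.le (not_lt.1 hh))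
  have hYN : Y ≤ NX := le_inf ((normalizerIn_le X).trans hPK) inf_le_right
  have hNXK : NX ≤ K := inf_le_left
  obtain ⟨S₁, hS₁⟩ := ((hPp.to_le (normalizerIn_le X)).comap_subtype : IsPGroup p (Y.subgroupOf NX)).exists_le_sylow
  -- carry the Sylow subgroup of the normalizer into the induced automorphisms
  obtain ⟨W', hW'⟩ := ((S₁.isPGroup'.map NX.subtype).comap_subtype :
    IsPGroup p (((S₁ : Subgroup NX).map NX.subtype).subgroupOf K)).exists_le_sylow
  obtain ⟨j, hj⟩ := MulAction.exists_smul_eq K W' W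
  have hjS : ∀ s : NX, s ∈ (S₁ : Subgroup NX) → (j : MulAut Qd) * s * (j : MulAut Qd)⁻¹ ∈ P := by
    intro s hs
    have h1 : j * ⟨s, hNXK s.2⟩ * j⁻¹ ∈ (W : Subgroup K) := by
      rw [← hj, Sylow.coe_subgroup_smul]
      exact Subgroup.smul_mem_pointwise_smul _ (MulAut.conj j) _ (hW' ⟨s, hs, rfl⟩)
    rw [hW, Subgroup.mem_subgroupOf] at h1
    exact h1
  set X₂ := X.map (MulAut.conj (j : MulAut Qd)).toMonoidHom with hX₂def
  have hI₂ : Inn Qd ≤ X₂ := inn_le_map_conj hI _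
  have hYP : Y.map (MulAut.conj (j : MulAut Qd)).toMonoidHom ≤ P := by
    rintro _ ⟨y, hy, rfl⟩
    exact hjS ⟨y, hYN hy⟩ (hS₁ hy)
  have hX₂P : X₂ ≤ P := (Subgroup.map_mono hXY.le).trans hYP
  have hQX₂ : Qd ≤ nK S Qd X₂ := fun g hg =>
    mem_nK.2 ⟨hQS hg, MulAut.conj ⟨g, hg⟩, hI₂ ⟨_, rfl⟩, fun q => rfl⟩
  have hnKmono : ∀ {A B : Subgroup (MulAut Qd)}, A ≤ B → nK S Qd A ≤ nK S Qd B :=
    fun h g hg => by
      obtain ⟨hgU, k, hk, hke⟩ := mem_nK.1 hg
      exact mem_nK.2 ⟨hgU, k, h hk, hke⟩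
  have hmlt : ∀ {Z : Subgroup (MulAut Qd)}, Nat.card Y ≤ Nat.card Z → Z ≤ P →
      ∃ m' < m, Nat.card P ≤ Nat.card Z + m' := fun {Z} hZ hZP => by
    have := Subgroup.card_le_of_le hZP
    exact ⟨Nat.card P - Nat.card Z, by omega, by omega⟩
  have ej : ExtIso (c.pSys 0) (nK S Qd X) (nK S Qd X₂) ((j : MulAut Qd) : Qd ≃* Qd) := by
    obtain ⟨m', hm', hm''⟩ := hmlt le_rfl (normalizerIn_le X)
    exact c.extIso_into_pre ((ih m' hm' Y _ hm'' (hI.trans hXY.le) (normalizerIn_le X) j.2 hYP).mono hQX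
      (hnKmono hXY.le) le_rfl) le_rfl
  -- the normalizer of the transported subgroup
  set X' := X.map (MulAut.conj b).toMonoidHom with hX'def
  have hX'lt : X' < P := lt_of_le_of_ne hbX fun h => by
    have := Subgroup.card_le_of_le hXY.le
    have h2 := hcard X b
    rw [← hX'def, h] at h2
    exact absurd (Subgroup.eq_of_le_of_card_ge hX (by omega)) hlt.ne
  set Y' := normalizerIn P X' with hY'def
  have hXY' : X' < Y' := lt_normalizerIn hPp hX'lt
  have hXY'c : Nat.card X < Nat.card Y' := by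
    rw [← hcard X b]
    by_contra hh
    exact hXY'.ne (Subgroup.eq_of_le_of_card_ge hXY'.le (not_lt.1 hh))
  let Y₀ := Y'.map (MulAut.conj b⁻¹).toMonoidHom
  have hY₀ : Y₀ ≤ NX := by
    rintro _ ⟨y, hy, rfl⟩
    refine ⟨(c.k0 Qd).mul_mem ((c.k0 Qd).mul_mem ((c.k0 Qd).inv_mem hb) (hPK hy.1)) (by simpa using hb), ?_⟩
    refine Subgroup.mem_normalizer_fintype fun k hk => ?_
    obtain ⟨k', hk', hke⟩ := (Subgroup.mem_normalizer_iff.1 hy.2 _).1 ⟨k, hk, rfl⟩
    change (b⁻¹ * y * b⁻¹⁻¹) * k * (b⁻¹ * y * b⁻¹⁻¹)⁻¹ ∈ X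
    rw [show (b⁻¹ * y * b⁻¹⁻¹) * k * (b⁻¹ * y * b⁻¹⁻¹)⁻¹ = b⁻¹ * (y * (b * k * b⁻¹) * y⁻¹) * b by group]
    change b * k' * b⁻¹ = y * (b * k * b⁻¹) * y⁻¹ at hke
    rw [← hke]
    simpa [mul_assoc] using hk'
  obtain ⟨S', hS'⟩ := (((hPp.to_le (normalizerIn_le X')).map _).comap_subtype :
    IsPGroup p (Y₀.subgroupOf NX)).exists_le_sylow
  obtain ⟨r, hr⟩ := MulAction.exists_smul_eq NX S' S₁
  -- the part normalizing the transported subgroup
  have eg : ExtIso (c.pSys 0) (nK S Qd X₂) (nK S Qd X₂)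
      (((j : MulAut Qd) * r * (j : MulAut Qd)⁻¹ : MulAut Qd) : Qd ≃* Qd) := by
    have hU : nK S Qd X₂ ≤ S := nK_le X₂
    let G₀ : Subgroup NX :=
      { carrier := {s | ExtIso (c.pSys 0) (nK S Qd X₂) (nK S Qd X₂)
          (((j : MulAut Qd) * s * (j : MulAut Qd)⁻¹ : MulAut Qd) : Qd ≃* Qd)}
        one_mem' := (extIso_refl (c.pSys 0) hU hQX₂).congr fun x => by simp
        mul_mem' := fun {s t} hs ht => (ht.trans hs).congr fun x => by simp
        inv_mem' := fun {s} hs => (hs.symm_of_card hU le_rfl).congr fun x => by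
          rw [MulEquiv.eq_symm_apply]
          simp }
    have hX₂n : ∀ s : NX, ∀ k ∈ X₂,
        ((j : MulAut Qd) * s * (j : MulAut Qd)⁻¹) * k * ((j : MulAut Qd) * s * (j : MulAut Qd)⁻¹)⁻¹ ∈ X₂ := by
      rintro s _ ⟨k, hk, rfl⟩
      refine ⟨(s : MulAut Qd) * k * (s : MulAut Qd)⁻¹, (Subgroup.mem_normalizer_iff.1 s.2.2 k).1 hk, ?_⟩
      show (j : MulAut Qd) * ((s : MulAut Qd) * k * (s : MulAut Qd)⁻¹) * (j : MulAut Qd)⁻¹ =
        ((j : MulAut Qd) * s * (j : MulAut Qd)⁻¹) * ((j : MulAut Qd) * k * (j : MulAut Qd)⁻¹) *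
          ((j : MulAut Qd) * s * (j : MulAut Qd)⁻¹)⁻¹
      group
    have h1 : (S₁ : Subgroup NX) ⊔ pResidual p NX ≤ G₀ := by
      refine sup_le (fun s hs => ?_) ((Subgroup.closure_le _).2 fun s hs => ?_)
      · have hsP := hjS s hs
        have h2 := c.extIso_into_pre (c.extIso_induced hQX₂ hU hsP) le_rfl
        have h3 : X₂.map (MulAut.conj ((j : MulAut Qd) * s * (j : MulAut Qd)⁻¹)).toMonoidHom ≤ X₂ := by
          rintro _ ⟨k, hk, rfl⟩
          exact hX₂n s k hk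
        exact h2.mono hQX₂ le_rfl (hnKmono h3)
      · refine c.extIso_coprime hQ hmax hI₂ hX₂P (mul_mem (mul_mem j.2 (hNXK s.2)) (inv_mem j.2)) ?_ (hX₂n s)
        rw [show (j : MulAut Qd) * s * (j : MulAut Qd)⁻¹ = MulAut.conj (j : MulAut Qd) s from rfl,
          MulEquiv.orderOf_eq, Subgroup.orderOf_coe]
        exact hs
    rw [Cfsg.Lib.Fusion.sylow_sup_pResidual S₁] at h1
    exact h1 (Subgroup.mem_top r)
  -- back from the transported subgroup
  set k₂ : MulAut Qd := (j : MulAut Qd) * r * b⁻¹ with hk₂def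
  set Z := Y'.map (MulAut.conj k₂).toMonoidHom with hZdef
  have hZP : Z ≤ P := by
    rintro _ ⟨y, hy, rfl⟩
    have h2 : r * ⟨_, hY₀ ⟨y, hy, rfl⟩⟩ * r⁻¹ ∈ (S₁ : Subgroup NX) := by
      rw [← hr, Sylow.coe_subgroup_smul]
      exact Subgroup.smul_mem_pointwise_smul _ (MulAut.conj r) _ (hS' (Subgroup.mem_subgroupOf.2 ⟨y, hy, rfl⟩))
    have h3 := hjS _ h2
    show k₂ * y * k₂⁻¹ ∈ P
    convert h3 using 1
    show k₂ * y * k₂⁻¹ = (j : MulAut Qd) * ((r : MulAut Qd) * (b⁻¹ * y * b⁻¹⁻¹) * (r : MulAut Qd)⁻¹) *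
      (j : MulAut Qd)⁻¹
    rw [hk₂def]
    group
  have hX₂Z : X₂ ≤ Z := by
    rintro _ ⟨k, hk, rfl⟩
    have h2 := (Subgroup.mem_normalizer_iff''.1 r.2.2 k).1 hk
    refine ⟨b * ((r : MulAut Qd)⁻¹ * k * r) * b⁻¹, hXY'.le ⟨_, h2, rfl⟩, ?_⟩
    show k₂ * (b * ((r : MulAut Qd)⁻¹ * k * r) * b⁻¹) * k₂⁻¹ = (j : MulAut Qd) * k * (j : MulAut Qd)⁻¹
    rw [hk₂def]
    group
  have hk₂K : k₂ ∈ K := mul_mem (mul_mem j.2 (hNXK r.2)) (inv_mem hb)
  have hZb : Z.map (MulAut.conj k₂⁻¹).toMonoidHom ≤ P := by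
    rintro _ ⟨_, ⟨y, hy, rfl⟩, rfl⟩
    show k₂⁻¹ * (k₂ * y * k₂⁻¹) * k₂⁻¹⁻¹ ∈ P
    simpa [mul_assoc] using hy.1
  have ek : ExtIso (c.pSys 0) (nK S Qd X₂) S ((k₂⁻¹ : MulAut Qd) : Qd ≃* Qd) := by
    obtain ⟨m', hm', hm''⟩ : ∃ m' < m, Nat.card P ≤ Nat.card Z + m' := by
      have h2 := Subgroup.card_le_of_le hZP
      have h3 := hcard Y' k₂
      exact ⟨Nat.card P - Nat.card Z, by rw [← hZdef] at h3; omega, by omega⟩
    exact (ih m' hm' Z _ hm'' (hI₂.trans hX₂Z) hZP (inv_mem hk₂K) hZb).mono hQX₂ (hnKmono hX₂Z) le_rfl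
  refine ((ej.trans eg).trans ek).congr fun x => ?_
  show b x = k₂⁻¹ (((j : MulAut Qd) * r * (j : MulAut Qd)⁻¹) ((j : MulAut Qd) x))
  rw [← MulAut.mul_apply, ← MulAut.mul_apply, hk₂def]
  congr 1
  group


end ProdCtx

end Cfsg.Lib.FusionSys
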