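import Cfsg.Agent.Lib.FusionSys.ProductER.Saturated
import Cfsg.Agent.Lib.FusionSys.ProductER.Residual
import Cfsg.Agent.Lib.FusionSys.PPowerExists
import Cfsg.Agent.Lib.FusionSys.PPowerNormal
import Cfsg.Agent.Lib.FusionSys.ResidualLimitUnique

/-!
The saturated subsystems over a subgroup containing `T` with the given residual: existence and uniqueness.
-/

set_option autoImplicit false
set_option linter.style.haveILetI false
set_option maxHeartbeats 800000

namespace Cfsg.Lib.FusionSys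

open Cfsg Cfsg.FusionSystem
open scoped Pointwise

variable {Ω : Type*} [Group Ω] {S T R : Subgroup Ω} {F : FusionSystem S} {E : FusionSystem T}
  {D D' : FusionSystem R} {p : ℕ}

namespace ProdCtx

variable (c : ProdCtx F E p)
include c
variable [Finite S] [Fact p.Prime]

/-- At a fully normalized position of the intersection the bounding automorphisms of order prime to `p` lie in any
system over `R` with hyperfocal subgroup in `T` containing the subsystem. -/
theorem mem_of_fn_pos (hTR : T ≤ R) (hRS : R ≤ S) (hD : D.IsSaturated p) (hDF : D.IsSubsystemOf F)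
    (hhyp : D.hyperfocalSubgroup p ≤ T) (hED : E.IsSubsystemOf D) {P : Subgroup Ω} (hP : P ≤ R)
    (hU : UCentric F T (P ⊓ T)) (hfn : D.IsFullyNormalized (P ⊓ T)) {a : MulAut P} (ha : a ∈ bAut F E P)
    (hac : (orderOf a).Coprime p) : a ∈ D.autGroup P := by
  classical
  haveI := finite_of_le hRS
  have hR := c.pS.to_le hRS
  obtain ⟨haF, ham, b, hb, hbe⟩ := id ha
  have hPS := hP.trans hRS
  have hbc : (orderOf b).Coprime p := coprime_of_pow_eq_one hac
    (aut_pow_eq_one (inf_le_left : P ⊓ T ≤ P) (fun x => (hbe x).symm) (pow_orderOf_eq_one a))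
  have hUP : (P ⊓ T) ≤ P := inf_le_left
  have hUT : (P ⊓ T) ≤ T := inf_le_right
  have hUR : (P ⊓ T) ≤ R := hUP.trans hP
  have hbD : b ∈ D.autGroup (P ⊓ T) := (mem_autGroup hUR).2 (hED (P ⊓ T) ((mem_autGroup hUT).1 hb))
  have hr : ((P ⊓ T).subtype.comp b.toMonoidHom).range = (P ⊓ T) := by
    ext y
    exact ⟨fun ⟨x, hx⟩ => hx ▸ (b x).2, fun hy => ⟨b⁻¹ ⟨y, hy⟩, by simp⟩⟩
  obtain ⟨Ψ, hΨ, hΨe⟩ := (isReceptive_of_fc hR hD (isFullyAutomized_and_fc_of_fn hR hD hfn).1).2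
    (P ⊓ T) _ ((mem_autGroup hUR).1 hbD) hr
  have hPn : P ≤ Subgroup.normalizer ((P ⊓ T : Subgroup Ω) : Set Ω) := fun g hg =>
    mem_normalizer_inter (Subgroup.le_normalizer hg) (stronglyClosed_le_normalizer c.sc (hPS hg))
  have hconjU : ∀ (g : P) (x : ↥(P ⊓ T)) (hx : (g : Ω) * (x : Ω) * (g : Ω)⁻¹ ∈ (P ⊓ T)),
      (b ⟨_, hx⟩ : Ω) = (a g : Ω) * (b x : Ω) * (a g : Ω)⁻¹ := by
    intro g x hx
    rw [← hbe, ← hbe]
    conv_rhs => rw [← Subgroup.coe_inv, ← Subgroup.coe_mul, ← Subgroup.coe_mul, ← map_inv, ← map_mul, ← map_mul]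
    exact congrArg (fun w : P => (a w : Ω)) (Subtype.ext rfl)
  have hle : P ⊔ centralizerIn R (P ⊓ T) ≤ extender R (P ⊓ T) ((P ⊓ T).subtype.comp b.toMonoidHom) := by
    refine sup_le (fun g hg => mem_extender_of (hP hg) (hPn hg) (hP (a ⟨g, hg⟩).2) fun x hx =>
      hconjU ⟨g, hg⟩ x hx) fun g hg => ?_
    refine mem_extender_of (centralizerIn_le (P ⊓ T) hg) (centralizerIn_le_normalizerIn (P ⊓ T) hg).2 R.one_mem fun x hx => ?_
    rw [one_mul, inv_one, mul_one]
    exact congrArg (fun w : ↥(P ⊓ T) => (b w : Ω)) (Subtype.ext (conj_eq_of_commute ((mem_centralizerIn.1 hg).2 x x.2)))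
  set V := P ⊔ centralizerIn R (P ⊓ T) with hV
  have hVR : V ≤ R := sup_le hP (centralizerIn_le (P ⊓ T))
  have hPV : P ≤ V := le_sup_left
  haveI := finite_of_le hVR
  set Φ := Ψ.comp (Subgroup.inclusion hle) with hΦdef
  have hΦ : Φ ∈ D.Hom V := restrict_mem hΨ hle
  have hΦU : ∀ x : ↥(P ⊓ T), Φ (Subgroup.inclusion (hUP.trans hPV) x) = (b x : Ω) := fun x => hΨe x x.2 _
  have hΦv : ∀ x, Φ x ∈ V := by
    refine hom_mem_of_sup (fun x hx => ?_) fun x hx => ?_
    · have hC : (a ⟨x, hx⟩ : Ω)⁻¹ * Φ x ∈ centralizerIn R (P ⊓ T) := by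
        refine mem_centralizerIn.2 ⟨R.mul_mem (R.inv_mem (hP (a _).2)) (hom_mem hΦ x), fun y hy => ?_⟩
        obtain ⟨u, hu⟩ := b.surjective ⟨y, hy⟩
        have hxu : (x : Ω) * u * (x : Ω)⁻¹ ∈ (P ⊓ T) := (Subgroup.mem_normalizer_iff.1 (hPn hx) u).1 u.2
        have h2 : Φ (x * Subgroup.inclusion (hUP.trans hPV) u * x⁻¹) = (a ⟨x, hx⟩ : Ω) * y * (a ⟨x, hx⟩ : Ω)⁻¹ := by
          rw [show x * Subgroup.inclusion (hUP.trans hPV) u * x⁻¹ =
              Subgroup.inclusion (hUP.trans hPV) ⟨_, hxu⟩ from Subtype.ext rfl, hΦU, hconjU ⟨x, hx⟩ u hxu]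
          exact congrArg (fun z => _ * z * _) (congrArg Subtype.val hu)
        rw [map_mul, map_mul, map_inv, hΦU, congrArg Subtype.val hu] at h2
        calc (a ⟨x, hx⟩ : Ω)⁻¹ * Φ x * y = (a ⟨x, hx⟩ : Ω)⁻¹ * (Φ x * y * (Φ x)⁻¹) * Φ x := by group
          _ = y * ((a ⟨x, hx⟩ : Ω)⁻¹ * Φ x) := by rw [h2]; group
      rw [show Φ x = (a ⟨x, hx⟩ : Ω) * ((a ⟨x, hx⟩ : Ω)⁻¹ * Φ x) by group]
      exact mul_mem (Subgroup.mem_sup_left (a _).2) (Subgroup.mem_sup_right hC)
    · refine Subgroup.mem_sup_right (mem_centralizerIn.2 ⟨hom_mem hΦ x, fun y hy => ?_⟩)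
      obtain ⟨u, hu⟩ := b.surjective ⟨y, hy⟩
      rw [show y = Φ (Subgroup.inclusion (hUP.trans hPV) u) from
        ((hΦU u).trans (congrArg Subtype.val hu)).symm, ← map_mul, ← map_mul]
      exact congrArg Φ (Subtype.ext ((mem_centralizerIn.1 hx).2 u u.2))
  obtain ⟨β₀, hβ₀, hβ₀e⟩ := exists_aut_of_hom hΦ hΦv
  obtain ⟨θ, hθ, v, hv, hθv, hθe, -⟩ := exists_pPrime_extension (hUP.trans hPV) hVR hbc (pow_orderOf_eq_one b)
    hβ₀ fun x => (hβ₀e _).trans (hΦU x)
  have hθT : ∀ g : V, (g : Ω)⁻¹ * (θ g : Ω) ∈ T := fun g =>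
    hhyp (mem_hyperfocal_of_coprime hVR hθ (coprime_of_pow_eq_one hv hθv) g)
  have hθP : ∀ g : P, (θ (Subgroup.inclusion hPV g) : Ω) ∈ P := by
    intro g
    have hd : (a g : Ω)⁻¹ * (θ (Subgroup.inclusion hPV g) : Ω) ∈ centralizerIn T (P ⊓ T) := by
      refine mem_centralizerIn.2 ⟨?_, fun y hy => ?_⟩
      · have h := T.mul_mem (T.inv_mem (ham g)) (hθT (Subgroup.inclusion hPV g))
        convert h using 1
        show _ = ((g : Ω)⁻¹ * (a g : Ω))⁻¹ * ((g : Ω)⁻¹ * _)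
        group
      · obtain ⟨u, hu⟩ := b.surjective ⟨y, hy⟩
        have hgu : (g : Ω) * u * (g : Ω)⁻¹ ∈ (P ⊓ T) := (Subgroup.mem_normalizer_iff.1 (hPn g.2) u).1 u.2
        have h1 := (hθe ⟨_, hgu⟩).trans (hconjU g u hgu)
        rw [show Subgroup.inclusion (hUP.trans hPV) ⟨_, hgu⟩ = Subgroup.inclusion hPV g *
            Subgroup.inclusion (hUP.trans hPV) u * (Subgroup.inclusion hPV g)⁻¹ from Subtype.ext rfl,
          map_mul, map_mul, map_inv, Subgroup.coe_mul, Subgroup.coe_mul, Subgroup.coe_inv, hθe u, hu] at h1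
        calc (a g : Ω)⁻¹ * (θ (Subgroup.inclusion hPV g) : Ω) * y
            = (a g : Ω)⁻¹ * ((θ (Subgroup.inclusion hPV g) : Ω) * y * (θ (Subgroup.inclusion hPV g) : Ω)⁻¹) *
                (θ (Subgroup.inclusion hPV g) : Ω) := by group
          _ = y * ((a g : Ω)⁻¹ * (θ (Subgroup.inclusion hPV g) : Ω)) := by rw [h1]; group
    rw [show (θ (Subgroup.inclusion hPV g) : Ω) =
      (a g : Ω) * ((a g : Ω)⁻¹ * (θ (Subgroup.inclusion hPV g) : Ω)) by group]
    exact mul_mem (a g).2 ((hU.self c.sc) hd).1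
  obtain ⟨a₂, ha₂D, ha₂e⟩ := exists_aut_restrict hVR hθ hPV hθP
  have ha₂ : a₂ ∈ bAut F E P := ⟨(mem_autGroup hPS).2 (hDF P ((mem_autGroup hP).1 ha₂D)),
    fun x => by rw [ha₂e]; exact hθT (Subgroup.inclusion hPV x), b, hb, fun x => (ha₂e _).trans (hθe x)⟩
  have ha₂c : (orderOf a₂).Coprime p :=
    coprime_of_pow_eq_one hv (aut_pow_eq_one hPV ha₂e hθv)
  obtain ⟨w, hw, hwe⟩ := c.rigid_conj hPS hU ha₂ ha₂c ha hac fun x hx =>
    Subtype.ext (((ha₂e x).trans (hθe ⟨x, x.2, hx⟩)).trans (hbe ⟨x, x.2, hx⟩).symm)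
  have hwD : w ∈ D.autGroup P := autInducedBy_le_autGroup hP
    (autInducedBy_mono ((centralizerIn_le _).trans hUR) hw)
  rw [hwe]
  exact mul_mem (mul_mem hwD ha₂D) (inv_mem hwD)

/-- The bounding automorphisms of order prime to `p` lie in any such system. -/
theorem mem_of_bAut (hTR : T ≤ R) (hRS : R ≤ S) (hD : D.IsSaturated p) (hDF : D.IsSubsystemOf F)
    (hhyp : D.hyperfocalSubgroup p ≤ T) (hED : E.IsSubsystemOf D) {P : Subgroup Ω} (hP : P ≤ R)
    (hU : UCentric F T (P ⊓ T)) {a : MulAut P} (ha : a ∈ bAut F E P) (hac : (orderOf a).Coprime p) :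
    a ∈ D.autGroup P := by
  haveI := finite_of_le hRS
  have hR := c.pS.to_le hRS
  obtain ⟨U0, hU0, hfn⟩ := exists_isFullyNormalized D (inf_le_left.trans hP : P ⊓ T ≤ R)
  obtain ⟨hfc, hfa⟩ := isFullyAutomized_and_fc_of_fn hR hD hfn
  obtain ⟨ν, hν, hνv, hνU⟩ := exists_normalizer_map hR hfa (isReceptive_of_fc hR hD hfc) hU0
  have hPN : P ≤ normalizerIn R (P ⊓ T) := fun g hg =>
    ⟨hP hg, mem_normalizer_inter (Subgroup.le_normalizer hg) (stronglyClosed_le_normalizer c.sc (hRS (hP hg)))⟩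
  have hνP := restrict_mem hν hPN
  set e := homIso hνP (rfl : _ = (ν.comp (Subgroup.inclusion hPN)).range) with he
  have heD : IsoIn D e := isoIn_homIso hνP rfl
  have heF : IsoIn F e := hDF P heD
  have hint : (ν.comp (Subgroup.inclusion hPN)).range ⊓ T = U0 := by
    rw [← hνU]
    ext y
    rw [mem_map_subgroupOf]
    constructor
    · rintro ⟨⟨x, rfl⟩, hy⟩
      have hx : (x : Ω) ∈ T := by
        have h := stronglyClosed_apply_mem c.sc heF.symm (x := e x) hy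
        change ((e.symm (e x) : P) : Ω) ∈ T at h
        rwa [MulEquiv.symm_apply_apply] at h
      exact ⟨(x : Ω), hPN x.2, ⟨x.2, hx⟩, rfl⟩
    · rintro ⟨x, hx, hxU, rfl⟩
      exact ⟨⟨⟨x, hxU.1⟩, rfl⟩, stronglyClosed_apply_mem c.sc (hDF _ hν) (x := ⟨x, hx⟩) hxU.2⟩
  have h := c.mem_of_fn_pos hTR hRS hD hDF hhyp hED (range_le hνP) (hU.of_conj c.sc (c.inter_conj heF))
    (hint.symm ▸ hfn) (c.bAut_congr heF ha) (by rwa [MulEquiv.orderOf_eq])
  have h2 := congr_mem_autGroup heD.symm h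
  convert h2 using 1
  exact MulEquiv.ext fun x => by simp [MulAut.congr]

/-- At an essential subgroup of such a system the intersection with `T` is self-centralizing. -/
theorem uCentric_of_essential (hTR : T ≤ R) (hRS : R ≤ S) (hD : D.IsSaturated p) (hDF : D.IsSubsystemOf F)
    (hhyp : D.hyperfocalSubgroup p ≤ T) (hED : E.IsSubsystemOf D) {P : Subgroup Ω}
    (hP : D.IsEssential p P) : UCentric F T (P ⊓ T) := by
  classical
  haveI := finite_of_le hRS
  have hR := c.pS.to_le hRS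
  have hPR : P ≤ R := hP.1.1
  have hscD : D.StronglyClosed T := stronglyClosed_of_subsystem hDF c.sc hTR
  obtain ⟨U0, hU0, hfn⟩ := exists_isFullyNormalized D (inf_le_left.trans hPR : P ⊓ T ≤ R)
  obtain ⟨hfc, hfa⟩ := isFullyAutomized_and_fc_of_fn hR hD hfn
  have hrec := isReceptive_of_fc hR hD hfc
  obtain ⟨ν, hν, hνv, hνU⟩ := exists_normalizer_map hR hfa hrec hU0
  have hPN : P ≤ normalizerIn R (P ⊓ T) := fun g hg =>
    ⟨hPR hg, mem_normalizer_inter (Subgroup.le_normalizer hg) (stronglyClosed_le_normalizer c.sc (hRS (hPR hg)))⟩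
  have hνP := restrict_mem hν hPN
  set P' := (ν.comp (Subgroup.inclusion hPN)).range with hP'
  set e := homIso hνP (rfl : _ = P') with he
  have heD : IsoIn D e := isoIn_homIso hνP rfl
  have heF : IsoIn F e := hDF P heD
  have hU0T : U0 ≤ T := by
    obtain ⟨φ, hφ, rfl⟩ := hU0
    rintro _ ⟨x, rfl⟩
    exact stronglyClosed_apply_mem c.sc (hDF _ hφ) (x := x) x.2.2
  have hint : P' ⊓ T = U0 := by
    rw [← hνU]
    ext y
    rw [mem_map_subgroupOf]
    constructor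
    · rintro ⟨⟨x, rfl⟩, hy⟩
      have hx : (x : Ω) ∈ T := by
        have h := stronglyClosed_apply_mem c.sc heF.symm (x := e x) hy
        change ((e.symm (e x) : P) : Ω) ∈ T at h
        rwa [MulEquiv.symm_apply_apply] at h
      exact ⟨(x : Ω), hPN x.2, ⟨x.2, hx⟩, rfl⟩
    · rintro ⟨x, hx, hxU, rfl⟩
      exact ⟨⟨⟨x, hxU.1⟩, rfl⟩, stronglyClosed_apply_mem c.sc (hDF _ hν) (x := ⟨x, hx⟩) hxU.2⟩
  have hP'R : P' ≤ R := range_le hνP
  haveI := finite_of_le hP'R
  haveI := finite_mulAut_of_le hP'R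
  -- the centralizer in `T` at the chosen position
  have hC : centralizerIn T U0 ≤ U0 := by
    by_contra hC
    set C := centralizerIn T U0 with hCdef
    have hCT : C ≤ T := centralizerIn_le _
    have hPn : P' ≤ Subgroup.normalizer (C : Set Ω) := by
      haveI := finite_of_le (hCT.trans c.hTS)
      intro g hg
      refine Subgroup.mem_normalizer_fintype fun x hx => ?_
      refine mem_centralizerIn.2 ⟨c.tmem_conj (hRS (hP'R hg)) (hCT hx), fun y hy => ?_⟩
      have hy' : g⁻¹ * y * g ∈ U0 := by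
        rw [← hint] at hy ⊢
        exact ⟨P'.mul_mem (P'.mul_mem (P'.inv_mem hg) hy.1) hg, c.tmem_conj' (hRS (hP'R hg)) hy.2⟩
      calc g * x * g⁻¹ * y = g * (x * (g⁻¹ * y * g)) * g⁻¹ := by group
        _ = g * (g⁻¹ * y * g * x) * g⁻¹ := by rw [(mem_centralizerIn.1 hx).2 _ hy']
        _ = y * (g * x * g⁻¹) := by group
    have hV : P' ⊔ C ≤ R := sup_le hP'R (hCT.trans hTR)
    haveI := finite_of_le hV
    have hlt : P' < P' ⊔ C := lt_of_le_of_ne le_sup_left fun h => hC fun x hx => by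
      rw [← hint]
      exact ⟨h.symm.le (Subgroup.mem_sup_right hx), hCT hx⟩
    obtain ⟨g, hgN, hgQ⟩ := SetLike.exists_of_lt (lt_normalizerIn (hR.to_le hV) hlt)
    have hg' : g ∈ ((P' : Set Ω) * (C : Set Ω)) := by
      rw [← Subgroup.coe_mul_of_left_le_normalizer_right _ _ hPn]
      exact hgN.1
    obtain ⟨q, hq, z, hz, rfl⟩ := Set.mem_mul.1 hg'
    have hzn : z ∈ Subgroup.normalizer (P' : Set Ω) := by
      have h := mul_mem (inv_mem (Subgroup.le_normalizer hq)) hgN.2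
      rwa [inv_mul_cancel_left] at h
    let Y : Subgroup (MulAut P') :=
      { carrier := {d | d ∈ D.autGroup P' ∧ ∀ x : P', (x : Ω) ∈ T → d x = x}
        one_mem' := ⟨one_mem _, fun _ _ => rfl⟩
        mul_mem' := fun {a b} ha hb => ⟨mul_mem ha.1 hb.1, fun x hx => by
          rw [MulAut.mul_apply, hb.2 x hx, ha.2 x hx]⟩
        inv_mem' := fun {a} ha => ⟨inv_mem ha.1, fun x hx => by
          conv_lhs => rw [← ha.2 x hx, MulAut.inv_apply_self]⟩ }
    have hYn : (Y.subgroupOf (D.autGroup P')).Normal := by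
      refine ⟨fun d hd b => ⟨mul_mem (mul_mem b.2 d.2) (inv_mem b.2), fun x hx => ?_⟩⟩
      show (b : MulAut P') ((d : MulAut P') ((b : MulAut P')⁻¹ x)) = x
      have hd' : ∀ y : P', (y : Ω) ∈ T → (d : MulAut P') y = y := hd.2
      rw [hd' _ (stronglyClosed_aut_mem hscD (inv_mem b.2) hP'R hx), MulAut.apply_inv_self]
    have hYp : IsPGroup p (Y.subgroupOf (D.autGroup P')) := by
      rintro ⟨⟨d, hdA⟩, hd⟩
      obtain ⟨i, j, hij, hi, k, hk⟩ := exists_coprime_parts (p := p) d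
      have hiY : d ^ i ∈ Y := pow_mem (show d ∈ Y from hd) i
      obtain ⟨l, hl⟩ := c.kerT_pElement (hP'R.trans hRS)
        (⟨(mem_autGroup (hP'R.trans hRS)).2 (hDF P' ((mem_autGroup hP'R).1 hiY.1)), hiY.2,
          fun x => hhyp (mem_hyperfocal_of_coprime hP'R hiY.1 hi x)⟩ : d ^ i ∈ kerT F T P')
      have h1 : d ^ i = 1 := eq_one_of_coprime_of_pow hi hl
      rw [h1, one_mul] at hij
      refine ⟨k, Subtype.ext (Subtype.ext ?_)⟩
      show d ^ p ^ k = 1
      rw [hij, ← hk, pow_orderOf_eq_one]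
    have hzY : conjAut P' hzn ∈ Y := ⟨autInducedBy_le_autGroup hP'R (conjAut_mem_autInducedBy hzn (hTR (hCT hz))),
      fun x hx => Subtype.ext (conj_eq_of_commute ((mem_centralizerIn.1 hz).2 x (hint ▸ ⟨x.2, hx⟩)))⟩
    have hzk : conjAut P' hzn ∈ coreAut D p P' :=
      ⟨⟨_, hzY.1⟩, Cfsg.Lib.Core.le_pCore' hYn hYp (Subgroup.mem_subgroupOf.2 hzY), rfl⟩
    have hk1 := congr_mem_coreAut heD.symm hzk
    have hrad := (isRadical_of_isEssential hR hP).2
    obtain ⟨w₀, hw₀⟩ := hrad.le hk1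
    obtain ⟨w, hw⟩ : ∃ w : P', ∀ y : P', conjAut P' hzn y = w * y * w⁻¹ := by
      refine ⟨e w₀, fun y => ?_⟩
      have h1 := congrArg (fun d : MulAut P => e (d (e.symm y))) hw₀
      simpa [MulAut.congr] using h1.symm
    refine hgQ (P'.mul_mem hq ?_)
    have hmem : (w : Ω)⁻¹ * z ∈ P' := by
      refine hP.1.2 P' (isConj_iff.2 ⟨e, heD⟩) (mem_centralizerIn.2
        ⟨R.mul_mem (R.inv_mem (hP'R w.2)) (hTR (hCT hz)), fun y hy => ?_⟩)
      have h1 : z * y * z⁻¹ = (w : Ω) * y * (w : Ω)⁻¹ := congrArg Subtype.val (hw ⟨y, hy⟩)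
      calc (w : Ω)⁻¹ * z * y = (w : Ω)⁻¹ * (z * y * z⁻¹) * z := by group
        _ = y * ((w : Ω)⁻¹ * z) := by rw [h1]; group
    rw [show z = (w : Ω) * ((w : Ω)⁻¹ * z) by group]
    exact P'.mul_mem w.2 hmem
  have hUE : UCentric F T U0 := by
    refine c.uCentric_of_centricE ⟨hU0T, fun A hA => ?_⟩
    obtain ⟨χ, hχ, rfl⟩ := hA
    have hDA : D.IsConj χ.range U0 := isConj_symm ⟨χ, hED U0 hχ, rfl⟩
    obtain ⟨μ, hμ, -, hμU⟩ := exists_normalizer_map hR hfa hrec hDA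
    intro y hy
    obtain ⟨hyT, hyc⟩ := mem_centralizerIn.1 hy
    have hyN : y ∈ normalizerIn R χ.range :=
      centralizerIn_le_normalizerIn _ (mem_centralizerIn.2 ⟨hTR hyT, hyc⟩)
    have hμy : μ ⟨y, hyN⟩ ∈ U0 := by
      refine hC (mem_centralizerIn.2 ⟨stronglyClosed_apply_mem c.sc (hDF _ hμ) (x := ⟨y, hyN⟩) hyT, fun u hu => ?_⟩)
      obtain ⟨w, hw, rfl⟩ := hμU.ge hu
      rw [← map_mul, ← map_mul]
      exact congrArg μ (Subtype.ext (hyc w hw))
    obtain ⟨w, hw, hwe⟩ := hμU.ge hμy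
    rw [← show (w : Ω) = y from congrArg Subtype.val (D.injective_of_mem hμ hwe)]
    exact hw
  exact hUE.of_conj c.sc (isConj_symm (hint ▸ c.inter_conj heF))

/-- Such a system whose automorphisms of order prime to `p` on `T` come from the subsystem is contained in any other. -/
theorem system_le (hTR : T ≤ R) (hRS : R ≤ S) (hD : D.IsSaturated p) (hDF : D.IsSubsystemOf F)
    (hhyp : D.hyperfocalSubgroup p ≤ T) (hED : E.IsSubsystemOf D) (hD' : D'.IsSaturated p)
    (hD'F : D'.IsSubsystemOf F) (hhyp' : D'.hyperfocalSubgroup p ≤ T) (hED' : E.IsSubsystemOf D')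
    (hres : ∀ U, U ≤ T → ∀ a ∈ D'.autGroup U, (orderOf a).Coprime p → a ∈ E.autGroup U) : D' ≤ D := by
  haveI := finite_of_le hRS
  have hR := c.pS.to_le hRS
  refine le_of_autGroup_le hR hD' D fun P hP => ?_
  have hPR : P ≤ R := hP.elim (fun e => e.le) fun e => e.1.1
  have hU : UCentric F T (P ⊓ T) := hP.elim
    (fun e => by rw [e, inf_eq_right.2 hTR]; exact c.uCentric_self)
    fun e => c.uCentric_of_essential hTR hRS hD' hD'F hhyp' hED' e
  have hfn : D'.IsFullyNormalized P := hP.elim (fun e => e ▸ isFullyNormalized_top D') fun e => e.2.1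
  haveI := finite_mulAut_of_le hPR
  obtain ⟨-, Rs, hRs⟩ := (isFullyAutomized_and_fc_of_fn hR hD' hfn).2
  refine le_of_sylow_of_coprime Rs (le_of_eq_of_le
    (by rw [hRs, Subgroup.map_subgroupOf_eq_of_le (autInducedBy_le_autGroup hPR)])
    (autInducedBy_le_autGroup hPR)) fun a ha hac => ?_
  obtain ⟨b, hb, hbe⟩ := exists_aut_restrict hPR ha (inf_le_left : P ⊓ T ≤ P) fun x =>
    ⟨(a _).2, stronglyClosed_apply_mem c.sc (hD'F P ((mem_autGroup hPR).1 ha))
      (x := Subgroup.inclusion inf_le_left x) x.2.2⟩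
  have hbc : (orderOf b).Coprime p := coprime_of_pow_eq_one hac
    (aut_pow_eq_one (inf_le_left : P ⊓ T ≤ P) hbe (pow_orderOf_eq_one a))
  exact c.mem_of_bAut hTR hRS hD hDF hhyp hED hPR hU
    ⟨(mem_autGroup (hPR.trans hRS)).2 (hD'F P ((mem_autGroup hPR).1 ha)),
      fun x => hhyp' (mem_hyperfocal_of_coprime hPR ha hac x), b, hres _ inf_le_right b hb hbc,
      fun x => (hbe x).symm⟩ hac

/-- A saturated system over `T` between the subsystem and one with the same automorphisms of order prime to `p`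
is the subsystem. -/
theorem le_subsystem {D₁ : FusionSystem T} (hD₁ : D₁.IsSaturated p)
    (hres : ∀ U, U ≤ T → ∀ a ∈ D₁.autGroup U, (orderOf a).Coprime p → a ∈ E.autGroup U) : D₁ ≤ E := by
  haveI := finite_of_le c.hTS
  have hTp := c.pS.to_le c.hTS
  refine le_of_autGroup_le hTp hD₁ E fun P hP => ?_
  have hPT : P ≤ T := hP.elim (fun e => e.le) fun e => e.1.1
  have hfn : D₁.IsFullyNormalized P := hP.elim (fun e => e ▸ isFullyNormalized_top D₁) fun e => e.2.1
  haveI := finite_mulAut_of_le hPT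
  obtain ⟨-, Rs, hRs⟩ := (isFullyAutomized_and_fc_of_fn hTp hD₁ hfn).2
  exact le_of_sylow_of_coprime Rs (le_of_eq_of_le
    (by rw [hRs, Subgroup.map_subgroupOf_eq_of_le (autInducedBy_le_autGroup hPT)])
    (autInducedBy_le_autGroup hPT)) fun a ha hac => hres P hPT a ha hac

/-- Existence of the system over `R`. -/
theorem exists_system (hET : E.hyperfocalSubgroup p = T) (hTR : T ≤ R) (hRS : R ≤ S) :
    ∃ D : FusionSystem R, D.IsSaturated p ∧ D.IsSubsystemOf F ∧ D.hyperfocalSubgroup p = T ∧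
      E.IsSubsystemOf D ∧
      ∀ U, U ≤ T → ∀ a ∈ D.autGroup U, (orderOf a).Coprime p → a ∈ E.autGroup U := by
  haveI := finite_of_le hRS
  haveI := finite_of_le c.hTS
  obtain ⟨D, ⟨hD, hidx⟩, -⟩ := existsUnique_pPower c.pS c.isSaturated_pSys R hRS
    (c.hyperfocal_pSys_le.trans hTR)
  have hDb : ∀ {P : Subgroup Ω}, P ≤ R → ∀ a ∈ D.autGroup P, a ∈ c.bSys.autGroup P := fun {P} hP a ha =>
    (mem_autGroup (hP.trans hRS)).2 (c.pSys_sub_bSys 0 _ (hidx.1 P ((mem_autGroup hP).1 ha)))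
  have hED : E.IsSubsystemOf D :=
    subsystem_le_of_pPower c.pS c.satE (fun _ _ h => c.emap_mem_pSys h) hTR hidx
  refine ⟨D, hD, fun P φ h => c.pSys_sub 0 P (hidx.1 P h), le_antisymm ?_ ?_, hED,
    fun U hU a ha hc => c.mem_autE_of_coprime hU (hDb (hU.trans hTR) a ha) hc⟩
  · exact hyperfocal_le_of_coprime fun P hP a ha hc x =>
      (c.mem_bAut_of_coprime (hP.trans hRS) (hDb hP a ha) hc).2.1 x
  · refine hET.ge.trans (hyperfocal_le_of_coprime fun P hP a ha hc x => ?_)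
    exact mem_hyperfocal_of_coprime (hP.trans hTR)
      ((mem_autGroup (hP.trans hTR)).2 (hED P ((mem_autGroup hP).1 ha))) hc x

end ProdCtx

end Cfsg.Lib.FusionSys
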